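import Mathlib.GroupTheory.PGroup
import Mathlib.GroupTheory.Index
import Mathlib.Algebra.BigOperators.GroupWithZero.Action
import Mathlib.Tactic
import Cfsg.Agent.S1349
import Mathlib.GroupTheory.FixedPointFree
import Cfsg.Agent.Mrg.Omega.W5.NearTI
import Cfsg.Agent.SignalizersComponents.ComponentExists
import Cfsg.Agent.SignalizersComponents.Components
import Cfsg.Agent.Lib.Cores
import Cfsg.Agent.Mrg.Omega.EH3.Main
import Cfsg.Agent.S0205
import Cfsg.Agent.Omega.EH3.Cons
import Cfsg.Agent.Omega.EH3.Row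

-- merged: Cfsg.Agent.Omega.EH3.OddLin
section

/-!
# Odd subgroups normalised by an elementary abelian group: linear algebra (helper950)

`H` acts on a finite elementary abelian `2`-group `V`.
* `sq_le`: an involution inverting `d` of odd order without fixed points on `W` satisfies `|C_W(x)|² ≤ |W|`.
* `pow_four_le`: two commuting such pairs satisfy `|V : [V,x₀][V,x₁]|⁴ ≤ |V|`.

-/

set_option autoImplicit false

namespace Cfsg.Agent.Omega.EH3.OddLin

variable {H : Type*} [Group H] {V : Type*} [AddCommGroup V] [DistribMulAction H V]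

/-- the fixed points of `x` -/
def fx (V : Type*) [AddCommGroup V] [DistribMulAction H V] (x : H) : AddSubgroup V where
  carrier := {v | x • v = v}
  zero_mem' := smul_zero x
  add_mem' {a b} ha hb := by
    show x • (a + b) = a + b
    rw [smul_add, show x • a = a from ha, show x • b = b from hb]
  neg_mem' {a} ha := by
    show x • (-a) = -a
    rw [smul_neg, show x • a = a from ha]

theorem mem_fx {x : H} {v : V} : v ∈ fx V x ↔ x • v = v := Iff.rfl

/-- the map `v ↦ x v - v` -/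
def dl (V : Type*) [AddCommGroup V] [DistribMulAction H V] (x : H) : V →+ V where
  toFun v := x • v - v
  map_zero' := by rw [smul_zero, sub_zero]
  map_add' a b := by rw [smul_add]; abel

theorem dl_apply (x : H) (v : V) : dl V x v = x • v - v := rfl

theorem card_eq [Finite V] (x : H) (W : AddSubgroup V) :
    Nat.card W = Nat.card ↥(W ⊓ fx V x) * Nat.card ↥(W.map (dl V x)) := by
  let f : W →+ V := (dl V x).comp W.subtype
  have h1 : Nat.card W = Nat.card (W ⧸ f.ker) * Nat.card f.ker :=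
    AddSubgroup.card_eq_card_quotient_mul_card_addSubgroup _
  have h2 : Nat.card (W ⧸ f.ker) = Nat.card ↥(W.map (dl V x)) := by
    rw [Nat.card_congr (QuotientAddGroup.quotientKerEquivRange f).toEquiv]
    have : f.range = W.map (dl V x) := by
      ext v
      constructor
      · rintro ⟨w, rfl⟩; exact ⟨w, w.2, rfl⟩
      · rintro ⟨w, hw, rfl⟩; exact ⟨⟨w, hw⟩, rfl⟩
    rw [this]
  have h3 : Nat.card f.ker = Nat.card ↥(W ⊓ fx V x) := by
    apply Nat.card_congr
    exact {
      toFun := fun k => ⟨(k : W), (k : W).2, by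
        have h4 : f k = 0 := k.2
        have h5 : x • ((k : W) : V) - ((k : W) : V) = 0 := h4
        exact sub_eq_zero.1 h5⟩
      invFun := fun v => ⟨⟨v, v.2.1⟩, by
        show x • (v : V) - (v : V) = 0
        exact sub_eq_zero.2 v.2.2⟩
      left_inv := fun k => rfl
      right_inv := fun v => rfl }
  rw [h1, h2, h3, mul_comm]

/-- an involution in characteristic `2` -/
theorem map_dl_le (h2 : ∀ v : V, v + v = 0) {x : H} (hx : x * x = 1) {W : AddSubgroup V}
    (hW : ∀ v ∈ W, x • v ∈ W) : W.map (dl V x) ≤ W ⊓ fx V x := by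
  rintro _ ⟨v, hv, rfl⟩
  refine ⟨W.sub_mem (hW v hv) hv, ?_⟩
  show x • (x • v - v) = x • v - v
  rw [smul_sub, ← mul_smul, hx, one_smul]
  have h3 := h2 (v - x • v)
  rw [← sub_eq_zero]
  calc v - x • v - (x • v - v) = (v - x • v) + (v - x • v) := by abel
    _ = 0 := h3

theorem card_le_sq [Finite V] (h2 : ∀ v : V, v + v = 0) {x : H} (hx : x * x = 1) {W : AddSubgroup V}
    (hW : ∀ v ∈ W, x • v ∈ W) : Nat.card W ≤ Nat.card ↥(W ⊓ fx V x) ^ 2 := by
  rw [card_eq x W, pow_two]
  exact Nat.mul_le_mul_left _ (AddSubgroup.card_le_of_le (map_dl_le h2 hx hW))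

/-- `|C_W(x)|² ≤ |W|` -/
theorem sq_le [Finite H] [Finite V] {x d : H} (hx : x * x = 1) (hxd : x * d * x⁻¹ = d⁻¹) (hd : Odd (orderOf d))
    {W : AddSubgroup V} (hWd : ∀ v ∈ W, d • v ∈ W)
    (h0 : ∀ v ∈ W, d • v = v → v = 0) : Nat.card ↥(W ⊓ fx V x) ^ 2 ≤ Nat.card W := by
  obtain ⟨m, hm⟩ := hd
  -- `e * e = d`
  obtain ⟨e, he, hee⟩ : ∃ e : H, e ∈ Subgroup.zpowers d ∧ e * e = d := by
    refine ⟨d ^ (m + 1), Subgroup.npow_mem_zpowers d _, ?_⟩
    rw [← pow_add, show m + 1 + (m + 1) = (2 * m + 1) + 1 by ring, pow_succ, ← hm, pow_orderOf_eq_one, one_mul]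
  have hxe : x * e * x⁻¹ = e⁻¹ := by
    obtain ⟨k, rfl⟩ := he
    have : x * d ^ k * x⁻¹ = (x * d * x⁻¹) ^ k := conj_zpow.symm
    rw [this, hxd, inv_zpow]
  have hWe' : ∀ g ∈ Subgroup.zpowers d, ∀ v ∈ W, g • v ∈ W := by
    intro g hg
    obtain ⟨k, rfl⟩ := (mem_powers_iff_mem_zpowers (x := d)).2 hg
    clear hg
    induction k with
    | zero => intro v hv; simpa using hv
    | succ k ih =>
      intro v hv
      show d ^ (k + 1) • v ∈ W
      rw [pow_succ, mul_smul]
      exact ih _ (hWd v hv)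
  have hWe : ∀ v ∈ W, e⁻¹ • v ∈ W := hWe' _ (Subgroup.inv_mem _ he)
  have key : ∀ v ∈ W, x • v = v → (x * d) • (e⁻¹ • v) = e⁻¹ • v := by
    intro v _ hv
    have h3 : x * d * e⁻¹ = e⁻¹ * x := by
      rw [← hee]
      have h4 : x * e = e⁻¹ * x := by rw [← hxe]; group
      calc x * (e * e) * e⁻¹ = x * e := by group
        _ = e⁻¹ * x := h4
    rw [← mul_smul, h3, mul_smul, hv]
  let F : ↥(W ⊓ fx V x) × ↥(W ⊓ fx V x) → W := fun p =>
    ⟨(p.1 : V) + e⁻¹ • (p.2 : V), W.add_mem p.1.2.1 (hWe _ p.2.2.1)⟩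
  have hF : Function.Injective F := by
    rintro ⟨⟨u, hu⟩, ⟨v, hv⟩⟩ ⟨⟨u', hu'⟩, ⟨v', hv'⟩⟩ h
    have h3 : u + e⁻¹ • v = u' + e⁻¹ • v' := congrArg Subtype.val h
    have h4 : u - u' = e⁻¹ • (v' - v) := by
      rw [smul_sub]
      rw [sub_eq_sub_iff_add_eq_add, h3, add_comm]
    have h5 : u - u' ∈ W ⊓ fx V x := AddSubgroup.sub_mem _ hu hu'
    have h6 : v' - v ∈ W ⊓ fx V x := AddSubgroup.sub_mem _ hv' hv
    have h7 : (x * d) • (u - u') = u - u' := by
      rw [h4]; exact key _ h6.1 h6.2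
    have h8 : d • (u - u') = u - u' := by
      have h9 : x • (d • (u - u')) = u - u' := by rw [← mul_smul]; exact h7
      calc d • (u - u') = x • (x • (d • (u - u'))) := by rw [← mul_smul x x, hx, one_smul]
        _ = x • (u - u') := by rw [h9]
        _ = u - u' := h5.2
    have h10 : u - u' = 0 := h0 _ h5.1 h8
    have h11 : u = u' := sub_eq_zero.1 h10
    have h12 : v = v' := by
      subst h11
      have h13 : e⁻¹ • v = e⁻¹ • v' := add_left_cancel h3
      exact smul_left_cancel _ h13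
    subst h11; subst h12; rfl
  rw [pow_two, ← Nat.card_prod]
  exact Nat.card_le_card_of_injective F hF

/-- Two commuting dihedral groups. -/
theorem pow_four_le [Finite H] [Finite V] (h2 : ∀ v : V, v + v = 0) {x₀ d₀ x₁ d₁ : H}
    (hx₀ : x₀ * x₀ = 1) (hx₁ : x₁ * x₁ = 1) (hd₀ : x₀ * d₀ * x₀⁻¹ = d₀⁻¹) (hd₁ : x₁ * d₁ * x₁⁻¹ = d₁⁻¹)
    (ho₀ : Odd (orderOf d₀)) (ho₁ : Odd (orderOf d₁)) (h01 : x₀ * d₁ = d₁ * x₀)
    (h0 : ∀ v : V, d₀ • v = v → v = 0) (h1 : ∀ v : V, d₁ • v = v → v = 0)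
    (D : AddSubgroup V) (c₀ c₁ : V) (hD₀ : ∀ v : V, x₀ • v - v ∈ D ∨ (x₀ • v - v) - c₀ ∈ D)
    (hD₁ : ∀ v : V, x₁ • v - v ∈ D ∨ (x₁ • v - v) - c₁ ∈ D) :
    Nat.card V ^ 3 ≤ (4 * Nat.card D) ^ 4 := by
  -- `|C(x)|² = |V|` and `C(x) = [V,x]`
  have key : ∀ x d : H, x * x = 1 → x * d * x⁻¹ = d⁻¹ → Odd (orderOf d) → (∀ v : V, d • v = v → v = 0) →
      Nat.card (fx V x) ^ 2 = Nat.card V ∧ (⊤ : AddSubgroup V).map (dl V x) = fx V x := by
    intro x d hx hd ho h0
    have e1 : Nat.card ↥(⊤ : AddSubgroup V) = Nat.card V := Nat.card_congr AddSubgroup.topEquiv.toEquiv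
    have a1 := sq_le (W := (⊤ : AddSubgroup V)) hx hd ho (fun _ _ => AddSubgroup.mem_top _) (fun v _ => h0 v)
    have a2 := card_le_sq (W := (⊤ : AddSubgroup V)) h2 hx (fun _ _ => AddSubgroup.mem_top _)
    have a3 := card_eq x (⊤ : AddSubgroup V)
    have a4 := map_dl_le (W := (⊤ : AddSubgroup V)) h2 hx (fun _ _ => AddSubgroup.mem_top _)
    rw [top_inf_eq] at a1 a2 a3 a4
    rw [e1] at a1 a2 a3
    have a5 : Nat.card (fx V x) ^ 2 = Nat.card V := le_antisymm a1 a2
    refine ⟨a5, ?_⟩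
    have hpos : 0 < Nat.card (fx V x) := Nat.card_pos
    have a6 : Nat.card ↥((⊤ : AddSubgroup V).map (dl V x)) = Nat.card (fx V x) := by
      rw [← a5, pow_two] at a3
      exact (Nat.eq_of_mul_eq_mul_left hpos a3).symm
    exact AddSubgroup.eq_of_le_of_card_ge a4 a6.ge
  obtain ⟨k0, m0⟩ := key x₀ d₀ hx₀ hd₀ ho₀ h0
  obtain ⟨k1, m1⟩ := key x₁ d₁ hx₁ hd₁ ho₁ h1
  -- `|C(x₀) ⊓ C(x₁)|² ≤ |C(x₀)|`
  have k2 : Nat.card ↥(fx V x₀ ⊓ fx V x₁) ^ 2 ≤ Nat.card (fx V x₀) := by
    apply sq_le hx₁ hd₁ ho₁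
    · intro v hv
      show x₀ • (d₁ • v) = d₁ • v
      rw [← mul_smul, h01, mul_smul, show x₀ • v = v from hv]
    · intro v _; exact h1 v
  -- `|C(x₀)| |C(x₁)| ≤ |C(x₀) ⊓ C(x₁)| |C(x₀) ⊔ C(x₁)|`
  have k3 : Nat.card (fx V x₀) * Nat.card (fx V x₁) ≤
      Nat.card ↥(fx V x₀ ⊓ fx V x₁) * Nat.card ↥(fx V x₀ ⊔ fx V x₁) := by
    have b1 : Nat.card ↥(fx V x₀ ⊓ fx V x₁) * (fx V x₁).relIndex (fx V x₀) = Nat.card (fx V x₀) := by
      rw [← AddSubgroup.inf_relIndex_right, inf_comm (fx V x₁)]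
      rw [← AddSubgroup.relIndex_bot_left, ← AddSubgroup.relIndex_bot_left]
      exact AddSubgroup.relIndex_mul_relIndex _ _ _ bot_le inf_le_left
    have b2 : Nat.card (fx V x₁) * (fx V x₁).relIndex (fx V x₀ ⊔ fx V x₁) = Nat.card ↥(fx V x₀ ⊔ fx V x₁) := by
      rw [← AddSubgroup.relIndex_bot_left, ← AddSubgroup.relIndex_bot_left]
      exact AddSubgroup.relIndex_mul_relIndex _ _ _ bot_le le_sup_right
    have b3 : (fx V x₁).relIndex (fx V x₀) ≤ (fx V x₁).relIndex (fx V x₀ ⊔ fx V x₁) :=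
      AddSubgroup.relIndex_le_of_le_right le_sup_left (by
        rw [AddSubgroup.relIndex]; exact AddSubgroup.FiniteIndex.index_ne_zero)
    calc Nat.card (fx V x₀) * Nat.card (fx V x₁)
        = Nat.card ↥(fx V x₀ ⊓ fx V x₁) * (fx V x₁).relIndex (fx V x₀) * Nat.card (fx V x₁) := by rw [b1]
      _ ≤ Nat.card ↥(fx V x₀ ⊓ fx V x₁) * (fx V x₁).relIndex (fx V x₀ ⊔ fx V x₁) * Nat.card (fx V x₁) :=
          Nat.mul_le_mul_right _ (Nat.mul_le_mul_left _ b3)
      _ = Nat.card ↥(fx V x₀ ⊓ fx V x₁) * Nat.card ↥(fx V x₀ ⊔ fx V x₁) := by rw [← b2]; ring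
  -- `|C(x₀) ⊔ C(x₁)| ≤ 4 |D|`
  have k4 : Nat.card ↥(fx V x₀ ⊔ fx V x₁) ≤ 4 * Nat.card D := by
    let F : D × (ZMod 2 × ZMod 2) → V := fun p => (p.1 : V) + (p.2.1.val • c₀ + p.2.2.val • c₁)
    have hcov : ∀ v ∈ fx V x₀ ⊔ fx V x₁, v ∈ Set.range F := by
      intro v hv
      obtain ⟨u, hu, u', hu', rfl⟩ := AddSubgroup.mem_sup.1 hv
      rw [← m0] at hu
      rw [← m1] at hu'
      obtain ⟨y, -, rfl⟩ := hu
      obtain ⟨y', -, rfl⟩ := hu'
      have c1 : ∃ (p : D) (i : ZMod 2), dl V x₀ y = p + i.val • c₀ := by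
        rcases hD₀ y with h | h
        · exact ⟨⟨_, h⟩, 0, by simp [dl_apply]⟩
        · refine ⟨⟨_, h⟩, 1, ?_⟩
          rw [dl_apply, ZMod.val_one, one_smul]; exact (sub_add_cancel _ _).symm
      have c2 : ∃ (p : D) (i : ZMod 2), dl V x₁ y' = p + i.val • c₁ := by
        rcases hD₁ y' with h | h
        · exact ⟨⟨_, h⟩, 0, by simp [dl_apply]⟩
        · refine ⟨⟨_, h⟩, 1, ?_⟩
          rw [dl_apply, ZMod.val_one, one_smul]; exact (sub_add_cancel _ _).symm
      obtain ⟨p, i, hp⟩ := c1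
      obtain ⟨p', i', hp'⟩ := c2
      refine ⟨(p + p', (i, i')), ?_⟩
      show ((p + p' : D) : V) + (i.val • c₀ + i'.val • c₁) = dl V x₀ y + dl V x₁ y'
      rw [hp, hp', AddSubgroup.coe_add]; abel
    have hsub : ((fx V x₀ ⊔ fx V x₁ : AddSubgroup V) : Set V) ⊆ Set.range F := hcov
    have hfin : (Set.range F).Finite := Set.toFinite _
    have c3 := Set.ncard_le_ncard hsub hfin
    have c4 : (Set.range F).ncard ≤ Nat.card (D × (ZMod 2 × ZMod 2)) := by
      rw [← Set.image_univ, ← Set.ncard_univ]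
      exact Set.ncard_image_le Set.finite_univ
    have c5 : Nat.card (D × (ZMod 2 × ZMod 2)) = 4 * Nat.card D := by
      rw [Nat.card_prod, Nat.card_prod, Nat.card_zmod]; ring
    have c6 : ((fx V x₀ ⊔ fx V x₁ : AddSubgroup V) : Set V).ncard = Nat.card ↥(fx V x₀ ⊔ fx V x₁) :=
      (Nat.card_coe_set_eq _).symm
    rw [← c5, ← c6]
    exact c3.trans c4
  -- conclusion
  have hn : Nat.card V = Nat.card (fx V x₀) * Nat.card (fx V x₁) := by
    have : Nat.card (fx V x₀) = Nat.card (fx V x₁) := by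
      have h := k0.trans k1.symm
      exact Nat.pow_left_injective (n := 2) (by norm_num) h
    rw [← k0, pow_two]; nth_rewrite 2 [this]; rfl
  rw [← hn] at k3
  have k5 : Nat.card V ≤ Nat.card ↥(fx V x₀ ⊓ fx V x₁) * (4 * Nat.card D) :=
    k3.trans (Nat.mul_le_mul_left _ k4)
  have k6 : Nat.card ↥(fx V x₀ ⊓ fx V x₁) ^ 4 ≤ Nat.card V := by
    calc Nat.card ↥(fx V x₀ ⊓ fx V x₁) ^ 4 = (Nat.card ↥(fx V x₀ ⊓ fx V x₁) ^ 2) ^ 2 := by ring
      _ ≤ Nat.card (fx V x₀) ^ 2 := Nat.pow_le_pow_left k2 2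
      _ = Nat.card V := k0
  have hVpos : 0 < Nat.card V := Nat.card_pos
  have k7 : Nat.card V ^ 4 ≤ Nat.card V * (4 * Nat.card D) ^ 4 := by
    calc Nat.card V ^ 4 ≤ (Nat.card ↥(fx V x₀ ⊓ fx V x₁) * (4 * Nat.card D)) ^ 4 := Nat.pow_le_pow_left k5 4
      _ = Nat.card ↥(fx V x₀ ⊓ fx V x₁) ^ 4 * (4 * Nat.card D) ^ 4 := by rw [mul_pow]
      _ ≤ _ := Nat.mul_le_mul_right _ k6
  have k8 : Nat.card V * Nat.card V ^ 3 ≤ Nat.card V * (4 * Nat.card D) ^ 4 := by
    calc Nat.card V * Nat.card V ^ 3 = Nat.card V ^ 4 := by ring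
      _ ≤ _ := k7
  exact Nat.le_of_mul_le_mul_left k8 hVpos

end Cfsg.Agent.Omega.EH3.OddLin

end

-- merged: Cfsg.Agent.Omega.EH3.OddOne
section

/-!
# THEOREM OD (helper393, OMEGA #11558 (B)); typed by helper950

`H` finite, faithful on the elementary abelian `2`-group `V`, `X ≤ H` elementary abelian with `C_V(X) = {0, a}`,
`|V| = 2^(2w)`, `w ≥ 5`, and `D ≤ V` of order at most `2^w` with `[v, x] ∈ D ∪ ([c, x] + D)` for all `v`, `x`.
An `X`-invariant (solvable) subgroup `R` of odd order is trivial, or of order `3`, fixed point free on `V`, and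
inverted by some `x ∈ X` with `X = C_X(R) ∪ C_X(R) x`.

* `fix_or`: an `X`-invariant `R` of odd order acts trivially or without fixed points (`C_V(X) = {0, a}` only).
* `dih`: the output of Thompson's dihedral lemma in elements.
* `result`: the theorem.
-/

set_option autoImplicit false

namespace Cfsg.Agent.Omega.EH3.OddOne

open Cfsg.Agent.Omega.EH3.OddLin

variable {H : Type*} [Group H] {V : Type*} [AddCommGroup V] [DistribMulAction H V]

/-- A `2`-group has a nonzero fixed point on every nonzero invariant subgroup. -/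
theorem exists_fix [Finite H] [Finite V] (h2 : ∀ v : V, v + v = 0) {X : Subgroup H} (hX : IsPGroup 2 X)
    (W : AddSubgroup V) (hW : ∀ x ∈ X, ∀ v ∈ W, x • v ∈ W) {w : V} (hw : w ∈ W) (hw0 : w ≠ 0) :
    ∃ v ∈ W, v ≠ 0 ∧ ∀ x ∈ X, x • v = v := by
  letI : MulAction X W := {
    smul := fun x v => ⟨(x : H) • (v : V), hW x x.2 v v.2⟩
    one_smul := fun v => Subtype.ext (one_smul H (v : V))
    mul_smul := fun x y v => Subtype.ext (mul_smul (x : H) (y : H) (v : V)) }
  have hd : 2 ∣ Nat.card W := by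
    have h3 : addOrderOf (⟨w, hw⟩ : W) = 2 := by
      apply addOrderOf_eq_prime
      · apply Subtype.ext
        show (2 : ℕ) • w = 0
        rw [two_nsmul]; exact h2 w
      · intro h; exact hw0 (congrArg Subtype.val h)
    rw [← h3]; exact addOrderOf_dvd_natCard _
  have h0 : (0 : W) ∈ MulAction.fixedPoints X W := by
    intro x; exact Subtype.ext (smul_zero (x : H))
  haveI : Fact (Nat.Prime 2) := ⟨Nat.prime_two⟩
  obtain ⟨b, hb, hb0⟩ := hX.exists_fixed_point_of_prime_dvd_card_of_fixed_point W hd h0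
  refine ⟨b, b.2, fun h => hb0 (Subtype.ext h.symm), fun x hx => ?_⟩
  exact congrArg Subtype.val (hb ⟨x, hx⟩)

/-- **(E)** -/
theorem fix_or [Finite H] [Finite V] (h2 : ∀ v : V, v + v = 0) {X R : Subgroup H} (hX : IsPGroup 2 X)
    (hR : Odd (Nat.card R)) (hn : ∀ x ∈ X, ∀ r ∈ R, x * r * x⁻¹ ∈ R) {a : V}
    (hC : ∀ v : V, (∀ x ∈ X, x • v = v) → v = 0 ∨ v = a) :
    (∀ r ∈ R, ∀ v : V, r • v = v) ∨ (∀ v : V, (∀ r ∈ R, r • v = v) → v = 0) := by
  classical
  haveI : Fintype R := Fintype.ofFinite _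
  let T : V →+ V := {
    toFun := fun v => ∑ g : R, (g : H) • v
    map_zero' := by simp
    map_add' := fun u v => by simp only [smul_add, Finset.sum_add_distrib] }
  have hTd : ∀ v, T v = ∑ g : R, (g : H) • v := fun _ => rfl
  have hodd : ∀ v : V, Nat.card R • v = v := by
    intro v
    obtain ⟨m, hm⟩ := hR
    rw [hm, add_smul, one_smul, mul_comm, mul_smul, two_nsmul, h2, smul_zero, zero_add]
  have hTfix : ∀ v, (∀ r ∈ R, r • v = v) → T v = v := by
    intro v hv
    rw [hTd]
    have : ∀ g : R, (g : H) • v = v := fun g => hv g g.2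
    simp only [this, Finset.sum_const, Finset.card_univ]
    rw [← Nat.card_eq_fintype_card]; exact hodd v
  have hTr : ∀ r ∈ R, ∀ v, r • T v = T v := by
    intro r hr v
    rw [hTd, Finset.smul_sum]
    refine Fintype.sum_equiv (Equiv.mulLeft (⟨r, hr⟩ : R)) _ _ (fun g => ?_)
    show r • (g : H) • v = (r * (g : H)) • v
    rw [mul_smul]
  have hTx : ∀ x ∈ X, ∀ v, x • T v = T (x • v) := by
    intro x hx v
    rw [hTd, hTd, Finset.smul_sum]
    have hinv : ∀ r ∈ R, x⁻¹ * r * x ∈ R := by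
      intro r hr
      have := hn x⁻¹ (X.inv_mem hx) r hr
      rwa [inv_inv] at this
    let e : R ≃ R := {
      toFun := fun g => ⟨x * g * x⁻¹, hn x hx g g.2⟩
      invFun := fun g => ⟨x⁻¹ * g * x, hinv g g.2⟩
      left_inv := fun g => Subtype.ext (by show x⁻¹ * (x * g * x⁻¹) * x = g; group)
      right_inv := fun g => Subtype.ext (by show x * (x⁻¹ * g * x) * x⁻¹ = g; group) }
    refine Fintype.sum_equiv e _ _ (fun g => ?_)
    show x • (g : H) • v = (x * g * x⁻¹) • x • v
    rw [← mul_smul, ← mul_smul]; congr 1; group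
  by_contra hcon
  push Not at hcon
  obtain ⟨⟨r, hr, u, hu⟩, ⟨v, hv, hv0⟩⟩ := hcon
  -- the fixed space and the kernel of the norm
  let F : AddSubgroup V := {
    carrier := {v | ∀ r ∈ R, r • v = v}
    zero_mem' := fun r _ => smul_zero r
    add_mem' := fun {a b} ha hb r hr => by
      show r • (a + b) = a + b
      rw [smul_add, ha r hr, hb r hr]
    neg_mem' := fun {a} ha r hr => by
      show r • (-a) = -a
      rw [smul_neg, ha r hr] }
  have hFx : ∀ x ∈ X, ∀ v ∈ F, x • v ∈ F := by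
    intro x hx v hv
    have h3 : T v = v := hTfix v hv
    rw [← h3, hTx x hx]
    intro r hr
    exact hTr r hr _
  have hKx : ∀ x ∈ X, ∀ v ∈ T.ker, x • v ∈ T.ker := by
    intro x hx v hv
    show T (x • v) = 0
    rw [← hTx x hx, show T v = 0 from hv, smul_zero]
  obtain ⟨p, hpF, hp0, hpX⟩ := exists_fix h2 hX F hFx hv hv0
  have hu1 : u - T u ∈ T.ker := by
    show T (u - T u) = 0
    rw [map_sub, hTfix (T u) (fun r hr => hTr r hr u), sub_self]
  have hu0 : u - T u ≠ 0 := by
    intro h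
    have h3 : u = T u := sub_eq_zero.1 h
    apply hu
    rw [h3]; exact hTr r hr u
  obtain ⟨q, hqK, hq0, hqX⟩ := exists_fix h2 hX T.ker hKx hu1 hu0
  have h3 : p = a := (hC p hpX).resolve_left hp0
  have h4 : q = a := (hC q hqX).resolve_left hq0
  have h5 : T p = p := hTfix p hpF
  have h6 : T q = 0 := hqK
  apply hp0
  rw [← h5, h3, ← h4, h6]

/-- complements in an elementary abelian `2`-group -/
theorem exists_compl [Finite H] {X C : Subgroup H} (hXc : ∀ a ∈ X, ∀ b ∈ X, a * b = b * a)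
    (hX2 : ∀ a ∈ X, a * a = 1) (hC : C ≤ X) :
    ∃ A : Subgroup H, A ≤ X ∧ A ⊓ C = ⊥ ∧ ∀ x ∈ X, ∃ a ∈ A, ∃ c ∈ C, x = a * c := by
  classical
  obtain ⟨A, hAm⟩ := Set.Finite.exists_maximal (s := {A : Subgroup H | A ≤ X ∧ A ⊓ C = ⊥}) (Set.toFinite _)
    ⟨⊥, bot_le, bot_inf_eq _⟩
  obtain ⟨⟨hAX, hAC⟩, hmax⟩ := hAm
  refine ⟨A, hAX, hAC, fun x hx => ?_⟩
  by_cases hxA : x ∈ A
  · exact ⟨x, hxA, 1, C.one_mem, (mul_one x).symm⟩
  -- `A ∪ Ax`
  let B : Subgroup H := {
    carrier := {y | y ∈ A ∨ y * x ∈ A}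
    one_mem' := Or.inl A.one_mem
    mul_mem' := by
      rintro y z (hy | hy) (hz | hz)
      · exact Or.inl (A.mul_mem hy hz)
      · right; rw [mul_assoc]; exact A.mul_mem hy hz
      · right
        have hzx : z * x = x * z := hXc z (hAX hz) x hx
        rw [mul_assoc, hzx, ← mul_assoc]; exact A.mul_mem hy hz
      · left
        have h1 : z = (z * x) * x := by rw [mul_assoc, hX2 x hx, mul_one]
        have hzX : z ∈ X := by rw [h1]; exact X.mul_mem (hAX hz) hx
        have h3 : y * z = (y * x) * (z * x) := by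
          have h4 : z * x = x * z := hXc z hzX x hx
          rw [h4, mul_assoc y x, ← mul_assoc x x z, hX2 x hx, one_mul]
        rw [h3]; exact A.mul_mem hy hz
    inv_mem' := by
      rintro y (hy | hy)
      · exact Or.inl (A.inv_mem hy)
      · right
        have hyX : y ∈ X := by
          have h1 : y = (y * x) * x := by rw [mul_assoc, hX2 x hx, mul_one]
          rw [h1]; exact X.mul_mem (hAX hy) hx
        have : y⁻¹ = y := inv_eq_of_mul_eq_one_left (hX2 y hyX)
        rw [this]; exact hy }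
  have hAB : A ≤ B := fun y hy => Or.inl hy
  have hBX : B ≤ X := by
    rintro y (hy | hy)
    · exact hAX hy
    · have h1 : y = (y * x) * x := by rw [mul_assoc, hX2 x hx, mul_one]
      rw [h1]; exact X.mul_mem (hAX hy) hx
  have hxB : x ∈ B := Or.inr (by rw [hX2 x hx]; exact A.one_mem)
  have hBC : B ⊓ C ≠ ⊥ := by
    intro h
    exact hxA (hmax ⟨hBX, h⟩ hAB hxB)
  obtain ⟨y, ⟨hyB, hyC⟩, hy1⟩ := (Subgroup.bot_or_exists_ne_one (B ⊓ C)).resolve_left hBC
  rcases hyB with hyA | hyx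
  · exfalso
    have h3 : y ∈ A ⊓ C := ⟨hyA, hyC⟩
    rw [hAC, Subgroup.mem_bot] at h3
    exact hy1 h3
  · refine ⟨y * x, hyx, y, hyC, ?_⟩
    have h3 : y * x = x * y := hXc y (hC hyC) x hx
    rw [h3, mul_assoc, hX2 y (hC hyC), mul_one]

/-- An involution and a nontrivial element of odd order in a dihedral group of order `2 n`, `n` odd. -/
theorem dih_inv {n : ℕ} (hn : Odd n) {x d : DihedralGroup n} (hx : x * x = 1) (hx1 : x ≠ 1) {m : ℕ} (hm : Odd m)
    (hd : d ^ m = 1) : x * d * x⁻¹ = d⁻¹ := by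
  rcases x with i | i
  · exfalso
    obtain ⟨k, hk⟩ := hn
    have h1 : i + i = 0 := by
      have := hx
      rw [DihedralGroup.r_mul_r, DihedralGroup.one_def] at this
      exact DihedralGroup.r.inj this
    have h2 : (n : ZMod n) * i = 0 := by rw [ZMod.natCast_self, zero_mul]
    have h3 : ((2 * k + 1 : ℕ) : ZMod n) * i = 0 := by rw [← hk]; exact h2
    have h4 : i = 0 := by
      have : ((2 * k + 1 : ℕ) : ZMod n) * i = (k : ZMod n) * (i + i) + i := by push_cast; ring
      rw [this, h1, mul_zero, zero_add] at h3; exact h3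
    apply hx1
    rw [h4]; rfl
  · rcases d with j | j
    · rw [DihedralGroup.sr_mul_r, DihedralGroup.inv_sr, DihedralGroup.sr_mul_sr, DihedralGroup.inv_r]
      congr 1; ring
    · exfalso
      obtain ⟨k, rfl⟩ := hm
      rw [pow_succ, pow_mul, pow_two, DihedralGroup.sr_mul_self, one_pow, one_mul, DihedralGroup.one_def] at hd
      cases hd

/-- The output of Thompson's lemma, in elements. -/
theorem dih [Finite H] {R A : Subgroup H} (hR : Odd (Nat.card R)) (hs : Group.IsSolvable R)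
    (hA : Cfsg.IsElementaryAbelian 2 A) {k : ℕ} (hk : 1 ≤ k) (hAk : Nat.card A = 2 ^ k)
    (hn : A ≤ Subgroup.normalizer (R : Set H)) (hf : A ⊓ Subgroup.centralizer (R : Set H) = ⊥) :
    ∃ x d : Fin k → H, (∀ i, x i ∈ A ∧ x i * x i = 1 ∧ d i ∈ R ∧ d i ≠ 1 ∧ x i * d i * (x i)⁻¹ = (d i)⁻¹) ∧
      (∀ i j, i ≠ j → x i * d j = d j * x i) ∧ A = Subgroup.closure (Set.range x) := by
  obtain ⟨Ai, Li, n, h1, h2, h3⟩ := Cfsg.Agent.S1349.result R A hs hR hA k hk hAk hn hf
  have hex : ∀ i, ∃ x d : H, x ∈ Ai i ∧ x * x = 1 ∧ (∀ y ∈ Ai i, y = 1 ∨ y = x) ∧ d ∈ Li i ∧ d ≠ 1 ∧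
      x * d * x⁻¹ = d⁻¹ := by
    intro i
    obtain ⟨hAiA, hc2, hLiR, hodd, hn3, ⟨e⟩⟩ := h1 i
    haveI : Nontrivial (Ai i) := Finite.one_lt_card_iff_nontrivial.1 (by rw [hc2]; norm_num)
    obtain ⟨⟨x, hx⟩, hx1⟩ := exists_ne (1 : Ai i)
    have hx1' : x ≠ 1 := fun h => hx1 (Subtype.ext h)
    have hx2 : x * x = 1 := by
      rw [← pow_two]; exact hA.2 x (hAiA hx)
    have hall : ∀ y ∈ Ai i, y = 1 ∨ y = x := by
      intro y hy
      by_contra hcon
      push Not at hcon
      have h4 : ({1, x, y} : Set H) ⊆ (Ai i : Set H) := by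
        intro z hz
        rcases hz with rfl | rfl | rfl
        · exact (Ai i).one_mem
        · exact hx
        · exact hy
      have h5 : ({1, x, y} : Set H).ncard = 3 := by
        rw [Set.ncard_eq_three]
        exact ⟨1, x, y, hx1'.symm, hcon.1.symm, hcon.2.symm, rfl⟩
      have h6 := Set.ncard_le_ncard h4 (Set.toFinite _)
      have h7 : ((Ai i : Set H)).ncard = 2 := by rw [← Nat.card_coe_set_eq]; exact hc2
      omega
    have hLi : Li i ≠ ⊥ := by
      intro h
      have h4 : Nat.card ↥(Ai i ⊔ Li i) = 2 * n i := by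
        rw [Nat.card_congr e.toEquiv, DihedralGroup.nat_card]
      rw [h, sup_bot_eq, hc2] at h4
      omega
    obtain ⟨d, hd, hd1⟩ := (Subgroup.bot_or_exists_ne_one (Li i)).resolve_left hLi
    refine ⟨x, d, hx, hx2, hall, hd, hd1, ?_⟩
    have hxs : x ∈ Ai i ⊔ Li i := (le_sup_left : Ai i ≤ Ai i ⊔ Li i) hx
    have hds : d ∈ Ai i ⊔ Li i := (le_sup_right : Li i ≤ Ai i ⊔ Li i) hd
    have h5 := dih_inv hodd (x := e ⟨x, hxs⟩) (d := e ⟨d, hds⟩)
      (by rw [← map_mul, ← map_one e]; congr 1; exact Subtype.ext hx2)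
      (by
        intro h
        have h6 := (map_eq_one_iff e e.injective).1 h
        exact hx1' (congrArg Subtype.val h6))
      hR
      (by
        rw [← map_pow, ← map_one e]; congr 1
        apply Subtype.ext
        show d ^ Nat.card R = 1
        have h6 : (⟨d, hLiR hd⟩ : R) ^ Nat.card R = 1 := pow_card_eq_one'
        exact congrArg Subtype.val h6)
    rw [← map_mul, ← map_inv, ← map_mul, ← map_inv] at h5
    exact congrArg Subtype.val (e.injective h5)
  choose x d hx hx2 hall hd hd1 hxd using hex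
  refine ⟨x, d, fun i => ⟨(h1 i).1 (hx i), hx2 i, (h1 i).2.2.1 (hd i), hd1 i, hxd i⟩, fun i j hij => ?_, ?_⟩
  · exact h3 i j hij _ ((le_sup_left : Ai i ≤ Ai i ⊔ Li i) (hx i)) _ ((le_sup_right : Li j ≤ Ai j ⊔ Li j) (hd j))
  · apply le_antisymm
    · rw [← h2]
      refine iSup_le fun i y hy => ?_
      rcases hall i y hy with rfl | rfl
      · exact Subgroup.one_mem _
      · exact Subgroup.subset_closure ⟨i, rfl⟩
    · rw [Subgroup.closure_le]
      rintro _ ⟨i, rfl⟩
      exact (h1 i).1 (hx i)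

/-- **THEOREM OD.** -/
theorem result [Finite H] [Finite V] (h2 : ∀ v : V, v + v = 0) (hf : ∀ h : H, (∀ v : V, h • v = v) → h = 1)
    {X R : Subgroup H} (hX : Cfsg.IsElementaryAbelian 2 X) (hR : Odd (Nat.card R)) (hs : Group.IsSolvable R)
    (hn : X ≤ Subgroup.normalizer (R : Set H)) {a : V} (ha : a ≠ 0) (hXa : ∀ x ∈ X, x • a = a)
    (hC : ∀ v : V, (∀ x ∈ X, x • v = v) → v = 0 ∨ v = a) {w : ℕ} (hw : 5 ≤ w)
    (hV : Nat.card V = 2 ^ (2 * w)) (D : AddSubgroup V) (hD : Nat.card D ≤ 2 ^ w) (c : V)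
    (hcD : ∀ x ∈ X, ∀ v : V, x • v - v ∈ D ∨ (x • v - v) - (x • c - c) ∈ D) :
    R = ⊥ ∨ (Nat.card R = 3 ∧ (∀ r ∈ R, r ≠ 1 → ∀ v : V, r • v = v → v = 0) ∧
      ∃ x ∈ X, (∀ r ∈ R, x * r * x⁻¹ = r⁻¹) ∧
        ∀ y ∈ X, y ∈ Subgroup.centralizer (R : Set H) ∨ y * x ∈ Subgroup.centralizer (R : Set H)) := by
  classical
  have hXc : ∀ u ∈ X, ∀ v ∈ X, u * v = v * u := fun u hu v hv =>
    congrArg Subtype.val (hX.1.is_comm.comm (⟨u, hu⟩ : X) ⟨v, hv⟩)
  have hX2 : ∀ u ∈ X, u * u = 1 := fun u hu => by rw [← pow_two]; exact hX.2 u hu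
  have hXp : IsPGroup 2 X := fun u => ⟨1, Subtype.ext (by
    show (u : H) ^ (2 ^ 1) = 1
    rw [pow_one]; exact hX.2 u u.2)⟩
  have hn' : ∀ x ∈ X, ∀ r ∈ R, x * r * x⁻¹ ∈ R := fun x hx r hr =>
    (Subgroup.mem_normalizer_iff.1 (hn hx) r).1 hr
  -- `(E)` for cyclic groups
  have hE : ∀ d ∈ R, d ≠ 1 → (∀ x ∈ X, x * d * x⁻¹ ∈ Subgroup.zpowers d) → ∀ v : V, d • v = v → v = 0 := by
    intro d hd hd1 hxd v hv
    have hodd : Odd (Nat.card (Subgroup.zpowers d)) :=
      hR.of_dvd_nat (Subgroup.card_dvd_of_le ((Subgroup.zpowers_le).2 hd))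
    have hfix : ∀ g ∈ Subgroup.zpowers d, ∀ u : V, d • u = u → g • u = u := by
      intro g hg u hu
      obtain ⟨m, rfl⟩ := (mem_powers_iff_mem_zpowers (x := d)).2 hg
      clear hg
      induction m with
      | zero => simp
      | succ m ih =>
        show d ^ (m + 1) • u = u
        rw [pow_succ, mul_smul, hu]; exact ih
    rcases fix_or (R := Subgroup.zpowers d) h2 hXp hodd (fun x hx r hr => by
      obtain ⟨m, rfl⟩ := hr
      show x * d ^ m * x⁻¹ ∈ _
      rw [← conj_zpow]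
      exact Subgroup.zpow_mem _ (hxd x hx) m) hC with h | h
    · exact absurd (hf d (fun u => h d (Subgroup.mem_zpowers d) u)) hd1
    · exact h v (fun r hr => hfix r hr v hv)
  -- `C_R(X) = 1`
  have hCR : ∀ r ∈ R, (∀ x ∈ X, x * r = r * x) → r = 1 := by
    intro r hr hxr
    by_contra hr1
    have h3 : ∀ x ∈ X, x • (r • a) = r • a := by
      intro x hx
      rw [← mul_smul, hxr x hx, mul_smul, hXa x hx]
    have h4 : r • a = a := by
      rcases hC _ h3 with h | h
      · exfalso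
        apply ha
        have h5 : r⁻¹ • (r • a) = r⁻¹ • (0 : V) := by rw [h]
        rwa [inv_smul_smul, smul_zero] at h5
      · exact h
    refine ha (hE r hr hr1 (fun x hx => ?_) a h4)
    rw [hxr x hx, mul_inv_cancel_right]
    exact Subgroup.mem_zpowers r
  -- the complement
  have hCX : X ⊓ Subgroup.centralizer (R : Set H) ≤ X := inf_le_left
  obtain ⟨A, hAX, hAC, hAdec⟩ := exists_compl hXc hX2 hCX
  have hcen : ∀ c ∈ X ⊓ Subgroup.centralizer (R : Set H), ∀ r ∈ R, c * r = r * c := by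
    intro c hc r hr
    exact (Subgroup.mem_centralizer_iff.1 hc.2 r hr).symm
  have hAp : IsPGroup 2 A := hXp.to_le hAX
  obtain ⟨k, hk⟩ := hAp.exists_card_eq
  have hAel : Cfsg.IsElementaryAbelian 2 A :=
    ⟨⟨⟨fun u v => Subtype.ext (hXc u (hAX u.2) v (hAX v.2))⟩⟩, fun u hu => hX.2 u (hAX hu)⟩
  by_cases hk0 : k = 0
  · left
    rw [hk0, pow_zero] at hk
    have hA1 : A = ⊥ := Subgroup.card_eq_one.1 hk
    rw [Subgroup.eq_bot_iff_forall]
    intro r hr
    refine hCR r hr fun x hx => ?_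
    obtain ⟨u, hu, c', hc', rfl⟩ := hAdec x hx
    rw [hA1, Subgroup.mem_bot] at hu
    rw [hu, one_mul]; exact hcen c' hc' r hr
  have hfA : A ⊓ Subgroup.centralizer (R : Set H) = ⊥ := by
    rw [← hAC, ← inf_assoc, inf_eq_left.2 hAX]
  obtain ⟨x, d, h1, h3, h4⟩ := dih hR hs hAel (Nat.one_le_iff_ne_zero.2 hk0) hk (hAX.trans hn) hfA
  -- `X` normalises `⟨d i⟩`
  have hXd : ∀ i, ∀ y ∈ X, y * d i * y⁻¹ ∈ Subgroup.zpowers (d i) := by
    intro i
    have hA1 : ∀ y ∈ A, y * d i * y⁻¹ = d i ∨ y * d i * y⁻¹ = (d i)⁻¹ := by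
      intro y hy
      rw [h4] at hy
      induction hy using Subgroup.closure_induction with
      | mem y hy =>
        obtain ⟨j, rfl⟩ := hy
        by_cases hji : j = i
        · subst hji; right; exact (h1 j).2.2.2.2
        · left; rw [h3 j i hji, mul_inv_cancel_right]
      | one => left; group
      | mul y z _ _ hy hz =>
        have e1 : y * z * d i * (y * z)⁻¹ = y * (z * d i * z⁻¹) * y⁻¹ := by group
        have e2 : y * (d i)⁻¹ * y⁻¹ = (y * d i * y⁻¹)⁻¹ := by group
        rw [e1]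
        rcases hz with hz | hz
        · rw [hz]; exact hy
        · rw [hz, e2]
          rcases hy with hy | hy
          · right; rw [hy]
          · left; rw [hy, inv_inv]
      | inv y _ hy =>
        rcases hy with hy | hy
        · left
          have : y⁻¹ * d i * y⁻¹⁻¹ = y⁻¹ * (y * d i * y⁻¹) * y := by rw [hy]; group
          rw [this]; group
        · right
          have : y⁻¹ * d i * y⁻¹⁻¹ = (y⁻¹ * (y * d i * y⁻¹) * y)⁻¹ := by rw [hy]; group
          rw [this]; group
    intro y hy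
    obtain ⟨u, hu, c', hc', rfl⟩ := hAdec y hy
    have e1 : u * c' * d i * (u * c')⁻¹ = u * d i * u⁻¹ := by
      have e2 := hcen c' hc' (d i) (h1 i).2.2.1
      calc u * c' * d i * (u * c')⁻¹ = u * (c' * d i) * c'⁻¹ * u⁻¹ := by group
        _ = u * d i * u⁻¹ := by rw [e2]; group
    rw [e1]
    rcases hA1 u hu with h | h
    · rw [h]; exact Subgroup.mem_zpowers _
    · rw [h]; exact Subgroup.inv_mem _ (Subgroup.mem_zpowers _)
  have hdfix : ∀ i, ∀ v : V, d i • v = v → v = 0 := fun i =>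
    hE (d i) (h1 i).2.2.1 (h1 i).2.2.2.1 (hXd i)
  have hord : ∀ i, Odd (orderOf (d i)) := by
    intro i
    have h5 : orderOf (⟨d i, (h1 i).2.2.1⟩ : R) ∣ Nat.card R := orderOf_dvd_natCard _
    rw [Subgroup.orderOf_mk] at h5
    exact hR.of_dvd_nat h5
  by_cases hk2 : 2 ≤ k
  · -- two commuting dihedral groups
    exfalso
    have h5 := pow_four_le (x₀ := x ⟨0, by omega⟩) (d₀ := d ⟨0, by omega⟩) (x₁ := x ⟨1, by omega⟩)
      (d₁ := d ⟨1, by omega⟩) h2 (h1 _).2.1 (h1 _).2.1 (h1 _).2.2.2.2 (h1 _).2.2.2.2 (hord _) (hord _)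
      (h3 _ _ (by intro h; exact absurd (congrArg Fin.val h) (by norm_num))) (hdfix _) (hdfix _) D _ _
      (hcD _ (hAX (h1 _).1)) (hcD _ (hAX (h1 _).1))
    have h6 : (4 * Nat.card D) ^ 4 ≤ 2 ^ (4 * (w + 2)) := by
      calc (4 * Nat.card D) ^ 4 ≤ (4 * 2 ^ w) ^ 4 := Nat.pow_le_pow_left (Nat.mul_le_mul_left _ hD) 4
        _ = 2 ^ (4 * (w + 2)) := by
          rw [show (4 : ℕ) = 2 ^ 2 by norm_num, ← pow_add, ← pow_mul]
          congr 1; ring
    rw [hV, ← pow_mul] at h5
    have h7 := (Nat.pow_le_pow_iff_right (by norm_num : 1 < 2)).1 (h5.trans h6)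
    omega
  · -- `|A| = 2`
    have hk1 : k = 1 := by omega
    subst hk1
    right
    set x₁ := x 0 with hx₁
    have hx₁A : x₁ ∈ A := (h1 0).1
    have hx₁X : x₁ ∈ X := hAX hx₁A
    have hx₁2 : x₁ * x₁ = 1 := (h1 0).2.1
    have hA2 : ∀ u ∈ A, u = 1 ∨ u = x₁ := by
      intro u hu
      rw [h4] at hu
      induction hu using Subgroup.closure_induction with
      | mem y hy =>
        obtain ⟨j, rfl⟩ := hy
        right; rw [hx₁, Subsingleton.elim j 0]
      | one => left; rfl
      | mul y z _ _ hy hz =>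
        rcases hy with rfl | rfl <;> rcases hz with rfl | rfl
        · left; exact one_mul 1
        · right; exact one_mul _
        · right; exact mul_one _
        · left; exact hx₁2
      | inv y _ hy =>
        rcases hy with rfl | rfl
        · left; exact inv_one
        · right; exact inv_eq_of_mul_eq_one_left hx₁2
    -- `X = C ∪ x₁ C`
    have hXdec : ∀ y ∈ X, y ∈ X ⊓ Subgroup.centralizer (R : Set H) ∨
        y * x₁ ∈ X ⊓ Subgroup.centralizer (R : Set H) := by
      intro y hy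
      obtain ⟨u, hu, c', hc', rfl⟩ := hAdec y hy
      rcases hA2 u hu with rfl | rfl
      · left; rw [one_mul]; exact hc'
      · right
        have e1 : x₁ * c' * x₁ = c' := by
          rw [hXc x₁ hx₁X c' hc'.1, mul_assoc, hx₁2, mul_one]
        rw [e1]; exact hc'
    have hCx : ∀ r ∈ R, x₁ * r = r * x₁ → r = 1 := by
      intro r hr hxr
      refine hCR r hr fun y hy => ?_
      rcases hXdec y hy with h | h
      · exact hcen y h r hr
      · have e1 := hcen _ h r hr
        have e2 : y * x₁ * r = y * r * x₁ := by rw [mul_assoc, hxr, ← mul_assoc]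
        rw [e2, ← mul_assoc] at e1
        exact mul_right_cancel e1
    -- `x₁` inverts `R`
    have hinv : ∀ r ∈ R, x₁ * r * x₁⁻¹ = r⁻¹ := by
      let φ : R →* R := {
        toFun := fun r => ⟨x₁ * r * x₁⁻¹, hn' x₁ hx₁X r r.2⟩
        map_one' := Subtype.ext (by show x₁ * 1 * x₁⁻¹ = 1; group)
        map_mul' := fun r s => Subtype.ext (by
          show x₁ * ((r : H) * s) * x₁⁻¹ = (x₁ * r * x₁⁻¹) * (x₁ * s * x₁⁻¹); group) }
      have hφ : MonoidHom.FixedPointFree φ := by
        intro r hr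
        have e1 : x₁ * r * x₁⁻¹ = r := congrArg Subtype.val hr
        exact Subtype.ext (hCx r r.2 (by rw [← mul_inv_eq_iff_eq_mul]; exact e1))
      have hφ2 : Function.Involutive φ := by
        intro r
        apply Subtype.ext
        show x₁ * (x₁ * r * x₁⁻¹) * x₁⁻¹ = r
        have e1 : x₁⁻¹ = x₁ := inv_eq_of_mul_eq_one_left hx₁2
        calc x₁ * (x₁ * r * x₁⁻¹) * x₁⁻¹ = (x₁ * x₁) * r * (x₁⁻¹ * x₁⁻¹) := by group
          _ = r := by rw [e1, hx₁2, one_mul, mul_one]
      have e2 := hφ.coe_eq_inv_of_involutive hφ2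
      intro r hr
      exact congrArg Subtype.val (congrFun e2 ⟨r, hr⟩)
    have hfree : ∀ r ∈ R, r ≠ 1 → ∀ v : V, r • v = v → v = 0 := by
      intro r hr hr1
      refine hE r hr hr1 fun y hy => ?_
      rcases hXdec y hy with h | h
      · rw [hcen y h r hr, mul_inv_cancel_right]; exact Subgroup.mem_zpowers _
      · have e1 := hcen _ h r hr
        have e3 : x₁⁻¹ = x₁ := inv_eq_of_mul_eq_one_left hx₁2
        have e2 : y * r * y⁻¹ = r⁻¹ := by
          have e4 : y = (y * x₁) * x₁ := by rw [mul_assoc, hx₁2, mul_one]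
          have e5 : y * x₁ * r⁻¹ = r⁻¹ * (y * x₁) := hcen _ h _ (R.inv_mem hr)
          calc y * r * y⁻¹ = (y * x₁) * (x₁⁻¹ * r * x₁) * (y * x₁)⁻¹ := by group
            _ = (y * x₁) * r⁻¹ * (y * x₁)⁻¹ := by
              have e6 := hinv r hr
              rw [e3] at e6 ⊢
              rw [e6]
            _ = r⁻¹ := by rw [e5]; group
        rw [e2]; exact Subgroup.inv_mem _ (Subgroup.mem_zpowers _)
    -- `W = C_V(C)`
    let W : AddSubgroup V := {
      carrier := {v | ∀ y ∈ X ⊓ Subgroup.centralizer (R : Set H), y • v = v}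
      zero_mem' := fun y _ => smul_zero y
      add_mem' := fun {u v} hu hv y hy => by
        show y • (u + v) = u + v
        rw [smul_add, hu y hy, hv y hy]
      neg_mem' := fun {u} hu y hy => by
        show y • (-u) = -u
        rw [smul_neg, hu y hy] }
    have hWx : ∀ v ∈ W, x₁ • v ∈ W := by
      intro v hv y hy
      show y • (x₁ • v) = x₁ • v
      rw [← mul_smul, hXc y hy.1 x₁ hx₁X, mul_smul, show y • v = v from hv y hy]
    have hWfix : W ⊓ fx V x₁ ≤ AddSubgroup.zmultiples a := by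
      rintro v ⟨hv1, hv2⟩
      have e1 : ∀ y ∈ X, y • v = v := by
        intro y hy
        rcases hXdec y hy with h | h
        · exact hv1 y h
        · have e2 : (y * x₁) • v = v := hv1 _ h
          rwa [mul_smul, show x₁ • v = v from hv2] at e2
      rcases hC v e1 with h | h
      · rw [h]; exact AddSubgroup.zero_mem _
      · rw [h]; exact AddSubgroup.mem_zmultiples a
    have hW4 : Nat.card W ≤ 4 := by
      have e1 := card_le_sq h2 hx₁2 hWx
      have e2 : Nat.card (AddSubgroup.zmultiples a) = 2 := by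
        rw [Nat.card_zmultiples]
        exact addOrderOf_eq_prime (by rw [two_nsmul]; exact h2 a) ha
      have e3 : Nat.card ↥(W ⊓ fx V x₁) ≤ 2 := by
        rw [← e2]; exact AddSubgroup.card_le_of_le hWfix
      calc Nat.card W ≤ _ := e1
        _ ≤ 2 ^ 2 := Nat.pow_le_pow_left e3 2
        _ = 4 := by norm_num
    have hR3 : Nat.card R + 1 ≤ Nat.card W := by
      let F : Option R → W := fun o => match o with
        | none => 0
        | some r => ⟨(r : H) • a, fun y hy => by
            rw [← mul_smul, hcen y hy r r.2, mul_smul, hXa y hy.1]⟩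
      have hF : Function.Injective F := by
        intro o o' h
        have key : ∀ r : H, r • a ≠ 0 := by
          intro r hr
          apply ha
          have e5 : r⁻¹ • (r • a) = r⁻¹ • (0 : V) := by rw [hr]
          rwa [inv_smul_smul, smul_zero] at e5
        rcases o with _ | r <;> rcases o' with _ | s
        · rfl
        · exact absurd (congrArg Subtype.val h).symm (key s)
        · exact absurd (congrArg Subtype.val h) (key r)
        · have e1 : (r : H) • a = (s : H) • a := congrArg Subtype.val h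
          have e2 : ((s : H)⁻¹ * r) • a = a := by rw [mul_smul, e1, inv_smul_smul]
          by_contra hne
          have e3 : (s : H)⁻¹ * r ≠ 1 := by
            intro e4
            apply hne
            have e5 : (r : H) = s := (inv_mul_eq_one.1 e4).symm
            rw [Subtype.ext e5]
          exact ha (hfree _ (R.mul_mem (R.inv_mem s.2) r.2) e3 a e2)
      have e1 := Nat.card_le_card_of_injective F hF
      rwa [Finite.card_option] at e1
    have hR1 : Nat.card R ≠ 1 := by
      intro h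
      have e1 : R = ⊥ := Subgroup.card_eq_one.1 h
      have e2 := (h1 0).2.2.1
      rw [e1, Subgroup.mem_bot] at e2
      exact (h1 0).2.2.2.1 e2
    refine ⟨?_, hfree, x₁, hx₁X, hinv, fun y hy => ?_⟩
    · obtain ⟨m, hm⟩ := hR
      omega
    · rcases hXdec y hy with h | h
      · exact Or.inl h.2
      · exact Or.inr h.2

end Cfsg.Agent.Omega.EH3.OddOne

end

-- merged: Cfsg.Agent.Mrg.Omega.EH3.CLOut
section

/-!
# EH3: the outer part of THEOREM CL (helper947)

`Cfg`: the Fitting subgroup `F` of `H` is trivial, or of order `3`, fixed point free on `V` and inverted by an element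
of `X` (THEOREM OD of helper393, helper950); `C_H(F)` contains a component `K` of `H`.  If the components of `H` are
all equal (THEOREM CL, helper291), `K` is normal with centre of odd order, and `X ∩ C_H(K) = 1` or
`X ∩ C_H(K) = ⟨t⟩` where `t` inverts `F = ⟨d⟩`, `|F| = 3`, `[K, d] = 1`.
-/

set_option autoImplicit false

namespace Cfsg.Agent.Omega.EH3.CLOut

open Cfsg Subgroup
open Cfsg.Agent.SignalizersComponents Cfsg.Agent.SignalizersComponents.Components

variable {H V : Type*} [Group H] [AddCommGroup V] [Module (ZMod 2) V]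
  {ρ : H →* (V ≃ₗ[ZMod 2] V)} {b : LinearMap.BilinForm (ZMod 2) V} {q : V → ZMod 2}
  {a : V} {D : Submodule (ZMod 2) V} {X : Subgroup H} {w : ℕ}

theorem pCore_eq_bot (C : Cfg ρ b q a D X w) : pCore 2 H = ⊥ :=
  C.core (Lib.Cores.pCore_normal 2) (Lib.Cores.pCore_isPGroup 2)

theorem odd_card_fitting (C : Cfg ρ b q a D X w) : Odd (Nat.card (fittingSubgroup H)) := by
  have := C.finite_H
  have hf : Fact (Nat.Prime 2) := ⟨Nat.prime_two⟩
  have h2 : fittingSubgroup H ≤ pPrimeCore 2 H := by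
    rw [Lib.Cores.fittingSubgroup_eq_iSup_pCore]
    refine iSup_le fun p => ?_
    have hp : Fact (p : ℕ).Prime := ⟨p.2⟩
    by_cases hp2 : (p : ℕ) = 2
    · rw [hp2, pCore_eq_bot C]
      exact bot_le
    · refine Lib.Cores.le_pPrimeCore (Lib.Cores.pCore_normal _) ?_
      obtain ⟨n, hn⟩ := IsPGroup.iff_card.mp (Lib.Cores.pCore_isPGroup (G := H) (p : ℕ))
      rw [hn]
      exact Nat.Coprime.pow_left n ((Nat.coprime_primes p.2 Nat.prime_two).mpr hp2)
  have h3 : Odd (Nat.card (pPrimeCore 2 H)) :=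
    Nat.coprime_two_right.mp (Lib.Cores.pPrimeCore_coprime 2)
  exact h3.of_dvd_nat (card_dvd_of_le h2)

theorem elemAb (C : Cfg ρ b q a D X w) : Cfsg.IsElementaryAbelian 2 X :=
  ⟨⟨⟨fun x y => Subtype.ext (C.X_comm x.2 y.2)⟩⟩, fun x hx => by rw [pow_two]; exact C.X_sq x hx⟩

/-- THEOREM OD for solvable normal subgroups of odd order -/
theorem od (C : Cfg ρ b q a D X w) {R : Subgroup H} (hR : R.Normal) (ho : Odd (Nat.card R))
    (hs : Group.IsSolvable R) : R = ⊥ ∨ (Nat.card R = 3 ∧ (∀ r ∈ R, r ≠ 1 → ∀ v, ρ r v = v → v = 0) ∧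
      ∃ x ∈ X, (∀ r ∈ R, x * r * x⁻¹ = r⁻¹) ∧
        ∀ y ∈ X, y ∈ centralizer (R : Set H) ∨ y * x ∈ centralizer (R : Set H)) := by
  have := C.finite_V
  have := C.finite_H
  let act : DistribMulAction H V := {
    smul := fun h v => ρ h v
    one_smul := fun v => C.ρ_one v
    mul_smul := fun g h v => C.ρ_mul g h v
    smul_zero := fun h => map_zero (ρ h)
    smul_add := fun h u v => map_add (ρ h) u v }
  obtain ⟨c, hc⟩ := C.exists_off
  have hsub : ∀ u v : V, u - v = u + v := fun u v => by rw [sub_eq_add_neg, C.neg_eq]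
  have key := OddOne.result (H := H) (V := V) C.add_self
    (fun h hh => C.ext fun v => by rw [C.ρ_one]; exact hh v) (elemAb C) ho hs
    (by rw [normalizer_eq_top_iff.mpr hR]; exact le_top) C.a_ne (fun x hx => C.X_a hx)
    (fun v hv => C.fix_X hv) C.five C.card_V D.toAddSubgroup (le_of_eq C.card_D) c
    (fun x hx v => by
      have h1 : x • v = ρ x v := rfl
      have h2 : x • c = ρ x c := rfl
      rw [h1, h2, hsub, hsub, hsub]
      rcases zmod_two (b a v) with hv | hv
      · left; exact C.X_perp x hx v hv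
      · right
        have h3 := C.X_perp x hx (v + c) (by rw [map_add, hv, hc]; decide)
        have e : ρ x v + v + (ρ x c + c) = ρ x (v + c) + (v + c) := by rw [map_add]; abel
        rw [e]; exact h3)
  exact key

/-- THEOREM OD for `F(H)` -/
theorem fitting (C : Cfg ρ b q a D X w) :
    fittingSubgroup H = ⊥ ∨ (Nat.card (fittingSubgroup H) = 3 ∧
      (∀ r ∈ fittingSubgroup H, r ≠ 1 → ∀ v, ρ r v = v → v = 0) ∧
      ∃ x ∈ X, (∀ r ∈ fittingSubgroup H, x * r * x⁻¹ = r⁻¹) ∧
        ∀ y ∈ X, y ∈ centralizer (fittingSubgroup H : Set H) ∨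
          y * x ∈ centralizer (fittingSubgroup H : Set H)) := by
  have := C.finite_H
  have hn := Lib.Cores.fittingSubgroup_isNilpotent (G := H)
  exact od C Lib.Cores.fittingSubgroup_normal (odd_card_fitting C) inferInstance

/-- an element of order two is not in `F(H)` -/
theorem not_mem_fitting (C : Cfg ρ b q a D X w) {t : H} (h2 : t * t = 1) (h1 : t ≠ 1) :
    t ∉ fittingSubgroup H := by
  intro h
  have := C.finite_H
  have h3 : orderOf (⟨t, h⟩ : fittingSubgroup H) ∣ Nat.card (fittingSubgroup H) := orderOf_dvd_natCard _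
  rw [Subgroup.orderOf_mk, orderOf_eq_prime (by rw [pow_two]; exact h2) h1] at h3
  have h4 := odd_card_fitting C
  rw [← Nat.not_even_iff_odd, even_iff_two_dvd] at h4
  exact h4 h3

/-- `C_H(F(H))` is not solvable -/
theorem not_isSolvable (C : Cfg ρ b q a D X w) :
    ¬ Group.IsSolvable (centralizer (fittingSubgroup H : Set H)) := by
  classical
  intro hs
  have := C.finite_H
  have hn : (fittingSubgroup H).Normal := Lib.Cores.fittingSubgroup_normal
  have hle : centralizer (fittingSubgroup H : Set H) ≤ fittingSubgroup H :=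
    ComponentExists.le_fitting_of_isSubnormal_of_isSolvable (inferInstance : Subgroup.Normal _).isSubnormal hs le_rfl
  -- two elements `≠ 1` of `X` are equal
  have hX : ∀ x ∈ X, x ≠ 1 → x ∉ centralizer (fittingSubgroup H : Set H) := fun x hx h1 h =>
    not_mem_fitting C (C.X_sq x hx) h1 (hle h)
  have h16 := C.two_le_card_X
  rcases fitting C with h | ⟨-, -, x, hx, -, hxc⟩
  · obtain ⟨y, hy, hy1⟩ := C.exists_X_ne
    apply hX y hy hy1
    rw [h, mem_centralizer_iff]
    intro z hz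
    rw [coe_bot, Set.mem_singleton_iff] at hz
    rw [hz, one_mul, mul_one]
  · have h2 : ∀ y ∈ X, y = 1 ∨ y = x := by
      intro y hy
      by_cases hy1 : y = 1
      · exact Or.inl hy1
      · right
        rcases hxc y hy with h | h
        · exact absurd h (hX y hy hy1)
        · by_contra hne
          refine hX (y * x) (X.mul_mem hy hx) (fun h3 => hne ?_) h
          rw [← C.X_inv hx]
          exact eq_inv_of_mul_eq_one_left h3
    have hinj : Function.Injective fun y : X => (decide ((y : H) = 1) : Bool) := by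
      intro y z hyz
      apply Subtype.ext
      rcases h2 y y.2 with hy | hy <;> rcases h2 z z.2 with hz | hz
      · rw [hy, hz]
      · by_cases hx1 : x = 1
        · rw [hy, hz, hx1]
        · simp [hy, hz, hx1] at hyz
      · by_cases hx1 : x = 1
        · rw [hy, hz, hx1]
        · simp [hy, hz, hx1] at hyz
      · rw [hy, hz]
    have h3 := Nat.card_le_card_of_injective _ hinj
    have h4 : Nat.card Bool = 2 := by simp
    omega

/-- `H` has a component -/
theorem exists_component (C : Cfg ρ b q a D X w) : ∃ K : Subgroup H, IsComponent K := by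
  have := C.finite_H
  have hn : (fittingSubgroup H).Normal := Lib.Cores.fittingSubgroup_normal
  obtain ⟨K, hK, -⟩ := ComponentExists.exists_isComponent_le
    (C := centralizer (fittingSubgroup H : Set H)) (inferInstance : Subgroup.Normal _).isSubnormal
    (not_isSolvable C) le_rfl
  exact ⟨K, hK⟩

/-- a normal component has centre of odd order -/
theorem odd_center (C : Cfg ρ b q a D X w) {K : Subgroup H} (hn : K.Normal) : Odd (Nat.card (center K)) := by
  have := C.finite_H
  rw [← Nat.not_even_iff_odd, even_iff_two_dvd]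
  intro h2
  have : Fact (Nat.Prime 2) := ⟨Nat.prime_two⟩
  obtain ⟨z, hz⟩ := exists_prime_orderOf_dvd_card' 2 h2
  let Ω : Subgroup H := {
    carrier := {x | (∃ hx : x ∈ K, (⟨x, hx⟩ : K) ∈ center K) ∧ x * x = 1}
    one_mem' := ⟨⟨K.one_mem, (center K).one_mem⟩, one_mul 1⟩
    mul_mem' := by
      rintro x y ⟨⟨hx, hxc⟩, hx2⟩ ⟨⟨hy, hyc⟩, hy2⟩
      refine ⟨⟨K.mul_mem hx hy, (center K).mul_mem hxc hyc⟩, ?_⟩
      have h : y * x = x * y := congrArg Subtype.val (mem_center_iff.1 hxc ⟨y, hy⟩)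
      calc x * y * (x * y) = x * (y * x) * y := by group
        _ = (x * x) * (y * y) := by rw [h]; group
        _ = 1 := by rw [hx2, hy2, one_mul]
    inv_mem' := by
      rintro x ⟨⟨hx, hxc⟩, hx2⟩
      refine ⟨⟨K.inv_mem hx, (center K).inv_mem hxc⟩, ?_⟩
      rw [← mul_inv_rev, hx2, inv_one] }
  have hΩn : Ω.Normal := by
    refine ⟨?_⟩
    rintro x ⟨⟨hx, hxc⟩, hx2⟩ g
    refine ⟨⟨hn.conj_mem x hx g, ?_⟩, ?_⟩
    · rw [mem_center_iff]
      intro k
      have h1 : g⁻¹ * (k : H) * g ∈ K := by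
        have := hn.conj_mem (k : H) k.2 g⁻¹
        rwa [inv_inv] at this
      have h2 : (g⁻¹ * (k : H) * g) * x = x * (g⁻¹ * (k : H) * g) :=
        congrArg Subtype.val (mem_center_iff.1 hxc ⟨_, h1⟩)
      apply Subtype.ext
      show (k : H) * (g * x * g⁻¹) = g * x * g⁻¹ * (k : H)
      calc (k : H) * (g * x * g⁻¹) = g * ((g⁻¹ * (k : H) * g) * x) * g⁻¹ := by group
        _ = g * x * g⁻¹ * (k : H) := by rw [h2]; group
    · calc g * x * g⁻¹ * (g * x * g⁻¹) = g * (x * x) * g⁻¹ := by group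
        _ = 1 := by rw [hx2]; group
  have hΩ2 : IsPGroup 2 Ω := fun x => ⟨1, Subtype.ext (by
    show (x : H) ^ (2 ^ 1) = 1
    rw [pow_one, pow_two]; exact x.2.2)⟩
  have hbot := C.core hΩn hΩ2
  have h1 : z * z = 1 := by
    have := pow_orderOf_eq_one z
    rwa [hz, pow_two] at this
  have hmem : ((z : K) : H) ∈ Ω := ⟨⟨(z : K).2, z.2⟩, by
    have := congrArg (fun y : center K => ((y : K) : H)) h1
    exact this⟩
  rw [hbot, mem_bot] at hmem
  have h3 : z = 1 := Subtype.ext (Subtype.ext hmem)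
  rw [h3, orderOf_one] at hz
  omega

/-- a component has even order (Feit-Thompson) -/
theorem even_of_isComponent {H : Type*} [Group H]
    (hFT : ∀ K : Subgroup H, Odd (Nat.card K) → Group.IsSolvable K) {K : Subgroup H} (hK : IsComponent K) :
    Even (Nat.card K) := by
  rw [← Nat.not_odd_iff_even]
  exact fun h => ComponentExists.not_isComponent_of_isSolvable (hFT K h) hK

/-- the case `X ∩ C_H(K) ≠ 1` -/
theorem triple (C : Cfg ρ b q a D X w) (hu : ∀ K K' : Subgroup H, IsComponent K → IsComponent K' → K = K')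
    {K : Subgroup H} (hK : IsComponent K) (hn : K.Normal) (h : X ⊓ centralizer (K : Set H) ≠ ⊥) :
    ∃ d t : H, t ∈ X ∧ orderOf t = 2 ∧ orderOf d = 3 ∧ t * d * t⁻¹ = d⁻¹ ∧ (∀ l ∈ K, t * l = l * t) ∧
      (∀ l ∈ K, d * l = l * d) ∧ (∀ v, ρ d v = v → v = 0) ∧ (zpowers d).Normal := by
  have := C.finite_H
  obtain ⟨⟨t, ht⟩, ht1⟩ := (nontrivial_iff_exists_ne (1 : ↥(X ⊓ centralizer (K : Set H)))).1
    ((Subgroup.nontrivial_iff_ne_bot _).2 h)
  have ht1 : t ≠ 1 := fun h => ht1 (Subtype.ext h)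
  have htX : t ∈ X := ht.1
  have ht2 := C.X_sq t htX
  have hF : (fittingSubgroup H).Normal := Lib.Cores.fittingSubgroup_normal
  -- `C_H(K) ∩ C_H(F) ≤ F`
  have hle : centralizer (K : Set H) ⊓ centralizer (fittingSubgroup H : Set H) ≤ fittingSubgroup H := by
    have hnn : (centralizer (K : Set H) ⊓ centralizer (fittingSubgroup H : Set H)).Normal := inferInstance
    by_cases hs : Group.IsSolvable ↥(centralizer (K : Set H) ⊓ centralizer (fittingSubgroup H : Set H))
    · exact ComponentExists.le_fitting_of_isSubnormal_of_isSolvable hnn.isSubnormal hs inf_le_right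
    · exfalso
      obtain ⟨K', hK', hle⟩ := ComponentExists.exists_isComponent_le hnn.isSubnormal hs inf_le_right
      have h1 : K ≤ centralizer (K : Set H) := by
        conv_lhs => rw [hu K K' hK hK']
        exact hle.trans inf_le_left
      apply quasisimple_not_isMulCommutative hK.2
      exact ⟨⟨fun x y => Subtype.ext (mem_centralizer_iff.1 (h1 y.2) x x.2)⟩⟩
  have htF : t ∉ centralizer (fittingSubgroup H : Set H) := fun h =>
    not_mem_fitting C ht2 ht1 (hle ⟨ht.2, h⟩)
  rcases fitting C with hb | ⟨h3, hfix, x, hx, hinv, hxc⟩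
  · exfalso
    apply htF
    rw [hb, mem_centralizer_iff]
    intro z hz
    rw [coe_bot, Set.mem_singleton_iff] at hz
    rw [hz, one_mul, mul_one]
  have hp3 : Fact (Nat.Prime 3) := ⟨Nat.prime_three⟩
  obtain ⟨⟨d, hd⟩, hd3⟩ := exists_prime_orderOf_dvd_card' (G := fittingSubgroup H) 3 (by rw [h3])
  rw [Subgroup.orderOf_mk] at hd3
  have hd1 : d ≠ 1 := by
    rintro rfl
    rw [orderOf_one] at hd3
    omega
  have hz : zpowers d = fittingSubgroup H := by
    apply Subgroup.eq_of_le_of_card_ge (zpowers_le.2 hd)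
    rw [h3, Nat.card_zpowers, hd3]
  have hdc : ∀ l ∈ K, d * l = l * d := by
    intro l hl
    have h1 := layer_le_centralizer_fitting (component_le_layer hK hl)
    exact mem_centralizer_iff.1 h1 d hd
  refine ⟨d, t, htX, orderOf_eq_prime (by rw [pow_two]; exact ht2) ht1, hd3, ?_, ?_, hdc, hfix d hd hd1,
    by rw [hz]; exact hF⟩
  · -- `t = c x` with `c` centralising `F`
    have h1 : t * x ∈ centralizer (fittingSubgroup H : Set H) := (hxc t htX).resolve_left htF
    have h2 := mem_centralizer_iff.1 h1 (x⁻¹ * d * x) (by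
      have := hF.conj_mem d hd x⁻¹
      rwa [inv_inv] at this)
    have h4 : t * d = (x⁻¹ * d * x) * t := by
      have hxt := C.X_comm htX hx
      have e1 : t * x * (x⁻¹ * d * x) = t * d * x := by group
      have e2 : x⁻¹ * d * x * (t * x) = x⁻¹ * d * x * t * x := by group
      rw [e1, e2] at h2
      exact (mul_right_cancel h2).symm
    have h5 : x⁻¹ * d * x = d⁻¹ := by
      have h6 := hinv d hd
      have h7 := C.X_inv hx
      rw [h7] at h6 ⊢
      exact h6
    rw [h4, h5, mul_inv_cancel_right]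
  · intro l hl
    exact (mem_centralizer_iff.1 ht.2 l hl).symm

/-- **THEOREM CL from the uniqueness of the component.** -/
theorem main (C : Cfg ρ b q a D X w) (hFT : ∀ K : Subgroup H, Odd (Nat.card K) → Group.IsSolvable K)
    (hu : (∀ K : Subgroup H, IsComponent K → Even (Nat.card K)) →
      ∀ K K' : Subgroup H, IsComponent K → IsComponent K' → K = K') :
    ∃ L : Subgroup H, L.Normal ∧ IsQuasisimple L ∧ Odd (Nat.card (center L)) ∧
      (X ⊓ centralizer (L : Set H) = ⊥ ∨ ∃ d t : H, t ∈ X ∧ orderOf t = 2 ∧ orderOf d = 3 ∧ t * d * t⁻¹ = d⁻¹ ∧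
        (∀ l ∈ L, t * l = l * t) ∧ (∀ l ∈ L, d * l = l * d) ∧ (∀ v, ρ d v = v → v = 0) ∧
        (zpowers d).Normal) := by
  have hu := hu fun K hK => even_of_isComponent hFT hK
  obtain ⟨K, hK⟩ := exists_component C
  have hn : K.Normal := by
    refine ⟨fun n hnK g => ?_⟩
    have h1 := hu K _ hK (isComponent_conj g hK)
    rw [h1]
    exact ⟨n, hnK, by simp⟩
  refine ⟨K, hn, hK.2, odd_center C hn, ?_⟩
  by_cases h : X ⊓ centralizer (K : Set H) = ⊥
  · exact Or.inl h
  · exact Or.inr (triple C hu hK hn h)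

end Cfsg.Agent.Omega.EH3.CLOut

end

-- merged: Cfsg.Agent.Mrg.Omega.EH3.CLPlug
section

section


/-!
# EH3: THEOREM CL from the uniqueness of the component (helper947)

* `Unique` : the configuration `Cfg` has exactly one component, if every component has even order (helper291);
* `cl_of` : `Unique → Main.CL` (Feit-Thompson: `S0205`).
-/

set_option autoImplicit false

namespace Cfsg.Agent.Omega.EH3.CLPlug

universe u

/-- the uniqueness of the component -/
def Unique : Prop :=
  ∀ (H V : Type u) [Group H] [AddCommGroup V] [Module (ZMod 2) V] (ρ : H →* (V ≃ₗ[ZMod 2] V))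
    (b : LinearMap.BilinForm (ZMod 2) V) (q : V → ZMod 2) (a : V) (D : Submodule (ZMod 2) V) (X : Subgroup H) (w : ℕ),
    Cfg ρ b q a D X w → (∀ K : Subgroup H, Cfsg.IsComponent K → Even (Nat.card K)) →
    ∀ K K' : Subgroup H, Cfsg.IsComponent K → Cfsg.IsComponent K' → K = K'

theorem cl_of (h : Unique.{u}) : Main.CL.{u} := by
  intro H V _ _ _ ρ b q a D X w C
  have := C.finite_H
  obtain ⟨L, hn, hq, ho, h4⟩ := CLOut.main C (fun K hK => S0205.result hK) (h H V ρ b q a D X w C)
  refine ⟨L, hn, hq, ho, h4.imp_right ?_⟩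
  rintro ⟨d, t, h1, h2, h3, h5, h6, h7, h8, h9⟩
  exact ⟨d, t, ⟨h1, h2, h3, h5, h6, h7, h8, h9⟩⟩

end Cfsg.Agent.Omega.EH3.CLPlug

end

section


/-!
# EH3: `C_H(L)` has odd order if `|V| < |smallest module|²` (helper586)

In the configuration `Cfg` let `L` be normal in `H`, an odd cover of `K`, `LBs K n` with `w < n`.  An involution `t` of
`C_H(L)` gives the `L`-invariant space `W = [V, t]`, `|W|² ≤ |V|`, with the invariant nondegenerate alternating form
`(tv + v, tu + u) ↦ b v (tu + u)`, and `C_W(L) = 0`; this contradicts `LBs K n`.  If moreover all automorphisms of `K`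
are inner and `X ∩ C_H(L) = 1` then `C_H(L) = 1` and `H = L ≅ K`.
-/

set_option autoImplicit false

namespace Cfsg.Agent.Omega.EH3.CentOdd

open Subgroup Cfsg.Agent.Omega.TwoF
open scoped commutatorElement

universe u v w'

section free

variable {H V : Type*} [Group H] [AddCommGroup V] [Module (ZMod 2) V]
  {ρ : H →* (V ≃ₗ[ZMod 2] V)} {b : LinearMap.BilinForm (ZMod 2) V} {q : V → ZMod 2}
  {a : V} {D : Submodule (ZMod 2) V} {X : Subgroup H} {w : ℕ} {L : Subgroup H}

/-- the fixed space of a normal subgroup `≠ 1` is `0` -/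
theorem fix_zero (C : Cfg ρ b q a D X w) (hL : L.Normal) (h1 : L ≠ ⊥) {v : V}
    (hv : ∀ l ∈ L, ρ l v = v) : v = 0 := by
  have hinv : ∀ h, ∀ u ∈ C.fixV L, ρ h u ∈ C.fixV L := by
    intro h u hu n hn
    have h1 := hu _ (hL.conj_mem n hn h⁻¹)
    have h2 : ρ (h * (h⁻¹ * n * h⁻¹⁻¹)) u = ρ (n * h) u := by congr 2; group
    rw [← C.ρ_mul, ← h2, C.ρ_mul, h1]
  rcases C.irr _ hinv with h | h
  · have : v ∈ C.fixV L := hv
    rw [h] at this
    exact this
  · exfalso
    apply h1
    rw [eq_bot_iff]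
    intro n hn
    rw [Subgroup.mem_bot]
    apply C.ext
    intro u
    have : u ∈ C.fixV L := by rw [h]; trivial
    rw [this n hn, C.ρ_one]

/-- an `L`-invariant linear functional is `0` -/
theorem functional_zero (C : Cfg ρ b q a D X w) (hL : L.Normal) (h1 : L ≠ ⊥) (f : V → ZMod 2)
    (hf : ∀ u v, f (u + v) = f u + f v) (hi : ∀ l ∈ L, ∀ v, f (ρ l v) = f v) (v : V) : f v = 0 := by
  let W : Submodule (ZMod 2) V := Submodule.span (ZMod 2) {x | ∃ l ∈ L, ∃ v, x = ρ l v + v}
  have hinv : ∀ h, ∀ u ∈ W, ρ h u ∈ W := by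
    intro h u hu
    refine Submodule.span_induction (p := fun u _ => ρ h u ∈ W) ?_ ?_ ?_ ?_ hu
    · rintro _ ⟨l, hl, v, rfl⟩
      refine Submodule.subset_span ⟨h * l * h⁻¹, hL.conj_mem l hl h, ρ h v, ?_⟩
      rw [map_add, ← C.ρ_mul, ← C.ρ_mul]
      congr 3
      group
    · rw [map_zero]; exact W.zero_mem
    · intro x y _ _ hx hy
      rw [map_add]; exact W.add_mem hx hy
    · intro k x _ hx
      rw [map_smul]; exact W.smul_mem k hx
  have hW : ∀ u ∈ W, f u = 0 := by
    intro u hu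
    refine Submodule.span_induction (p := fun u _ => f u = 0) ?_ ?_ ?_ ?_ hu
    · rintro _ ⟨l, hl, v, rfl⟩
      rw [hf, hi l hl, CharTwo.add_self_eq_zero]
    · have := hf 0 0
      rw [add_zero] at this
      exact (left_eq_add.1 this)
    · intro x y _ _ hx hy
      rw [hf, hx, hy, add_zero]
    · intro k x _ hx
      rcases zmod_two k with h | h
      · rw [h, zero_smul]
        have := hf 0 0
        rw [add_zero] at this
        exact (left_eq_add.1 this)
      · rw [h, one_smul, hx]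
  rcases C.irr W hinv with h | h
  · exfalso
    apply h1
    rw [eq_bot_iff]
    intro l hl
    rw [Subgroup.mem_bot]
    apply C.ext
    intro u
    have h2 : ρ l u + u ∈ W := Submodule.subset_span ⟨l, hl, u, rfl⟩
    rw [h, Submodule.mem_bot] at h2
    rw [C.ρ_one]
    exact C.add_eq_zero.1 h2
  · exact hW v (by rw [h]; trivial)

/-- the commutator space of `t` -/
def comm (ρ : H →* (V ≃ₗ[ZMod 2] V)) (t : H) : Submodule (ZMod 2) V where
  carrier := {x | ∃ v, x = ρ t v + v}
  zero_mem' := ⟨0, by rw [map_zero, add_zero]⟩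
  add_mem' := by
    rintro _ _ ⟨v, rfl⟩ ⟨v', rfl⟩
    exact ⟨v + v', by rw [map_add]; abel⟩
  smul_mem' := by
    rintro k _ ⟨v, rfl⟩
    exact ⟨k • v, by rw [map_smul, smul_add]⟩

theorem mem_comm {t : H} {x : V} : x ∈ comm ρ t ↔ ∃ v, x = ρ t v + v := Iff.rfl

/-- the action of `L` on `[V, t]` -/
def resAct (ρ : H →* (V ≃ₗ[ZMod 2] V)) (L : Subgroup H) (W : Submodule (ZMod 2) V)
    (hW : ∀ l ∈ L, ∀ v ∈ W, ρ l v ∈ W) : L →* MulAut (Multiplicative W) where
  toFun l :=
    { toFun := fun x => Multiplicative.ofAdd ⟨ρ (l : H) (Multiplicative.toAdd x : W), hW l l.2 _ (Multiplicative.toAdd x : W).2⟩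
      invFun := fun x => Multiplicative.ofAdd ⟨ρ ((l⁻¹ : L) : H) (Multiplicative.toAdd x : W), hW _ (l⁻¹).2 _ (Multiplicative.toAdd x : W).2⟩
      left_inv := by
        intro x
        apply Multiplicative.toAdd.injective
        apply Subtype.ext
        show ρ ((l⁻¹ : L) : H) (ρ (l : H) _) = _
        rw [← LinearEquiv.mul_apply, ← map_mul, ← Subgroup.coe_mul, inv_mul_cancel, Subgroup.coe_one, map_one]
        rfl
      right_inv := by
        intro x
        apply Multiplicative.toAdd.injective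
        apply Subtype.ext
        show ρ (l : H) (ρ ((l⁻¹ : L) : H) _) = _
        rw [← LinearEquiv.mul_apply, ← map_mul, ← Subgroup.coe_mul, mul_inv_cancel, Subgroup.coe_one, map_one]
        rfl
      map_mul' := by
        intro x y
        apply Multiplicative.toAdd.injective
        apply Subtype.ext
        show ρ (l : H) (((Multiplicative.toAdd x : W) : V) + ((Multiplicative.toAdd y : W) : V)) = _
        rw [map_add]
        rfl }
  map_one' := by
    refine MulEquiv.ext fun x => ?_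
    apply Multiplicative.toAdd.injective
    apply Subtype.ext
    show ρ ((1 : L) : H) _ = _
    rw [Subgroup.coe_one, map_one]
    rfl
  map_mul' := by
    intro g h
    refine MulEquiv.ext fun x => ?_
    apply Multiplicative.toAdd.injective
    apply Subtype.ext
    show ρ ((g * h : L) : H) _ = ρ (g : H) (ρ (h : H) _)
    rw [Subgroup.coe_mul, map_mul]
    rfl

theorem resAct_apply {W : Submodule (ZMod 2) V} (hW : ∀ l ∈ L, ∀ v ∈ W, ρ l v ∈ W) (l : L)
    (x : Multiplicative W) :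
    ((Multiplicative.toAdd (resAct ρ L W hW l x) : W) : V) = ρ (l : H) (Multiplicative.toAdd x : W) := rfl

/-- the form on `[V, t]` -/
noncomputable def frm (ρ : H →* (V ≃ₗ[ZMod 2] V)) (b : LinearMap.BilinForm (ZMod 2) V) (t : H)
    (x y : Multiplicative (comm ρ t)) : ZMod 2 :=
  b (Multiplicative.toAdd x : comm ρ t) (Multiplicative.toAdd y : comm ρ t).2.choose

theorem b_comm_apply (C : Cfg ρ b q a D X w) {t : H} (ht : t * t = 1) (v u : V) :
    b v (ρ t u + u) = b (ρ t v + v) u := by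
  have h1 := C.b_inv t v (ρ t u)
  rw [← C.ρ_mul, ht, C.ρ_one] at h1
  rw [map_add, map_add, LinearMap.add_apply, ← h1]

theorem frm_eq (C : Cfg ρ b q a D X w) {t : H} (ht : t * t = 1) (x y : Multiplicative (comm ρ t)) {u : V}
    (hu : ((Multiplicative.toAdd y : comm ρ t) : V) = ρ t u + u) :
    frm ρ b t x y = b (Multiplicative.toAdd x : comm ρ t) u := by
  unfold frm
  obtain ⟨v, hv⟩ := mem_comm.1 (Multiplicative.toAdd x : comm ρ t).2
  have h1 := (Multiplicative.toAdd y : comm ρ t).2.choose_spec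
  rw [hv, ← b_comm_apply C ht, ← b_comm_apply C ht, ← h1, ← hu]

end free

variable {K : Type v} [Group K] {H V : Type u} [Group H] [AddCommGroup V] [Module (ZMod 2) V]
  {ρ : H →* (V ≃ₗ[ZMod 2] V)} {b : LinearMap.BilinForm (ZMod 2) V} {q : V → ZMod 2} {a : V}
  {D : Submodule (ZMod 2) V} {X : Subgroup H} {w : ℕ} {L : Subgroup H} {π : L →* K}

/-- **`C_H(L)` has no involutions** -/
theorem no_invol (C : Cfg ρ b q a D X w) (hL : L.Normal) [Nontrivial K] (hπ : OddCover π) {n : ℕ}
    (hn : LBs.{u} K n) (hwn : w < n) {t : H} (htc : ∀ l ∈ L, t * l = l * t) (ht : t * t = 1) : t = 1 := by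
  have := C.finite_V
  have := C.finite_H
  have hL1 : L ≠ ⊥ := by
    rintro rfl
    obtain ⟨k, hk⟩ := exists_ne (1 : K)
    obtain ⟨l, rfl⟩ := hπ.surj k
    exact hk (by rw [Subsingleton.elim l 1, map_one])
  by_contra hne
  have hW : ∀ l ∈ L, ∀ v ∈ comm ρ t, ρ l v ∈ comm ρ t := by
    rintro l hl _ ⟨v, rfl⟩
    refine ⟨ρ l v, ?_⟩
    rw [map_add, ← C.ρ_mul, ← C.ρ_mul, htc l hl]
  -- the functional `v ↦ b v (t v)` vanishes
  have halt : ∀ v, b v (ρ t v) = 0 := by
    apply functional_zero C hL hL1 (fun v => b v (ρ t v))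
    · intro u v
      have h1 := C.b_inv t v (ρ t u)
      rw [← C.ρ_mul, ht, C.ρ_one, C.b_comm] at h1
      show b (u + v) (ρ t (u + v)) = b u (ρ t u) + b v (ρ t v)
      rw [map_add, map_add, LinearMap.add_apply, map_add, map_add, ← h1]
      have := CharTwo.add_self_eq_zero (b u (ρ t v))
      linear_combination this
    · intro l hl v
      show b (ρ l v) (ρ t (ρ l v)) = b v (ρ t v)
      rw [← C.ρ_mul, htc l hl, C.ρ_mul, C.b_inv]
  have h1 := hn L π hπ (Multiplicative (comm ρ t)) (resAct ρ L (comm ρ t) hW) (frm ρ b t)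
    { add_left := by
        intro x y z
        obtain ⟨u, hu⟩ := mem_comm.1 (Multiplicative.toAdd z : comm ρ t).2
        rw [frm_eq C ht _ _ hu, frm_eq C ht _ _ hu, frm_eq C ht _ _ hu, toAdd_mul, Submodule.coe_add, map_add,
          LinearMap.add_apply]
      add_right := by
        intro x y z
        obtain ⟨u, hu⟩ := mem_comm.1 (Multiplicative.toAdd y : comm ρ t).2
        obtain ⟨u', hu'⟩ := mem_comm.1 (Multiplicative.toAdd z : comm ρ t).2
        have h3 : ((Multiplicative.toAdd (y * z) : comm ρ t) : V) = ρ t (u + u') + (u + u') := by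
          rw [toAdd_mul, Submodule.coe_add, hu, hu', map_add]; abel
        rw [frm_eq C ht _ _ hu, frm_eq C ht _ _ hu', frm_eq C ht _ _ h3, map_add]
      alt := by
        intro x
        obtain ⟨u, hu⟩ := mem_comm.1 (Multiplicative.toAdd x : comm ρ t).2
        rw [frm_eq C ht _ _ hu, hu, map_add, LinearMap.add_apply, C.b_self, add_zero, C.b_comm]
        exact halt u
      nondeg := by
        intro x hx
        have h4 : ((Multiplicative.toAdd x : comm ρ t) : V) = 0 := by
          apply C.nondeg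
          intro u
          have h5 := hx (Multiplicative.ofAdd ⟨ρ t u + u, u, rfl⟩)
          rwa [frm_eq C ht _ _ (u := u) rfl] at h5
        apply Multiplicative.toAdd.injective
        exact Subtype.ext h4 }
    (by
      intro g x y
      obtain ⟨u, hu⟩ := mem_comm.1 (Multiplicative.toAdd y : comm ρ t).2
      have h3 : ((Multiplicative.toAdd (resAct ρ L (comm ρ t) hW g y) : comm ρ t) : V) =
          ρ t (ρ (g : H) u) + ρ (g : H) u := by
        rw [resAct_apply, hu, map_add, ← C.ρ_mul, ← C.ρ_mul, htc _ g.2]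
      rw [frm_eq C ht _ _ hu, frm_eq C ht _ _ h3, resAct_apply, C.b_inv])
    (by
      intro x
      apply Multiplicative.toAdd.injective
      apply Subtype.ext
      rw [pow_two, toAdd_mul, Submodule.coe_add, C.add_self]
      rfl)
    (by
      intro h
      apply hne
      apply C.ext
      intro v
      rw [C.ρ_one, ← C.add_eq_zero]
      apply fix_zero C hL hL1
      intro l hl
      have h3 := DFunLike.congr_fun (DFunLike.congr_fun h ⟨l, hl⟩)
        (Multiplicative.ofAdd (⟨ρ t v + v, v, rfl⟩ : comm ρ t))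
      exact congrArg (fun x : Multiplicative (comm ρ t) => ((Multiplicative.toAdd x : comm ρ t) : V)) h3)
  -- `|W|² ≤ |V|`
  have h2 : Nat.card (comm ρ t) * Nat.card (comm ρ t) ≤ Nat.card V := by
    let f : V →+ V := ((ρ t : V ≃ₗ[ZMod 2] V).toLinearMap + LinearMap.id : V →ₗ[ZMod 2] V).toAddMonoidHom
    have hf : ∀ v, f v = ρ t v + v := fun _ => rfl
    have hr : Nat.card f.range = Nat.card (comm ρ t) := by
      apply Nat.card_congr
      refine Equiv.subtypeEquivRight ?_
      intro x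
      rw [AddMonoidHom.mem_range, mem_comm]
      exact exists_congr fun v => ⟨fun h => h.symm, fun h => h.symm⟩
    have hk : Nat.card (comm ρ t) ≤ Nat.card f.ker := by
      rw [← hr]
      apply Nat.card_le_card_of_injective (fun x : f.range => (⟨x.1, by
        obtain ⟨v, hv⟩ := x.2
        rw [AddMonoidHom.mem_ker, ← hv, hf, hf, map_add, ← C.ρ_mul, ht, C.ρ_one, add_comm v, C.add_self]⟩ : f.ker))
      intro x y hxy
      exact Subtype.ext (congrArg (fun z : f.ker => (z : V)) hxy)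
    have h3 := f.ker.card_mul_index
    rw [AddSubgroup.index_ker, hr] at h3
    calc Nat.card (comm ρ t) * Nat.card (comm ρ t) ≤ Nat.card f.ker * Nat.card (comm ρ t) :=
          Nat.mul_le_mul_right _ hk
      _ = Nat.card V := h3
  have h3 : Nat.card (Multiplicative (comm ρ t)) = Nat.card (comm ρ t) := rfl
  rw [h3] at h1
  have h4 : 2 ^ n * 2 ^ n ≤ 2 ^ (2 * w) := by
    rw [← C.card_V]
    exact (Nat.mul_le_mul h1 h1).trans h2
  rw [← pow_add, Nat.pow_le_pow_iff_right (by norm_num)] at h4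
  omega

theorem odd_cent (C : Cfg ρ b q a D X w) (hL : L.Normal) [Nontrivial K] (hπ : OddCover π) {n : ℕ}
    (hn : LBs.{u} K n) (hwn : w < n) : Odd (Nat.card (centralizer (L : Set H))) := by
  have := C.finite_H
  rw [← Nat.not_even_iff_odd]
  intro h
  obtain ⟨t, ht⟩ := exists_prime_orderOf_dvd_card' (G := centralizer (L : Set H)) 2 (even_iff_two_dvd.1 h)
  have h1 : (t : H) * t = 1 := by
    have := pow_orderOf_eq_one t
    rw [ht, pow_two] at this
    exact congrArg Subtype.val this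
  have h2 := no_invol C hL hπ hn hwn (t := t) (fun l hl => (mem_centralizer_iff.1 t.2 l hl).symm) h1
  have h3 : t = 1 := Subtype.ext h2
  rw [h3, orderOf_one] at ht
  omega

theorem comm_aux {H : Type*} [Group H] {z e u v : H} (c1 : Commute e u) (c2 : Commute z v)
    (c3 : Commute z u) (c4 : Commute e v) (c5 : Commute z e) :
    z * u * (e * v) * (z * u)⁻¹ * (e * v)⁻¹ = u * v * u⁻¹ * v⁻¹ := by
  have hz : Commute z (e * (u * v * u⁻¹)) := c5.mul_right ((c3.mul_right c2).mul_right c3.inv_right)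
  have he : Commute e (u * v * u⁻¹ * v⁻¹) := ((c1.mul_right c4).mul_right c1.inv_right).mul_right c4.inv_right
  calc z * u * (e * v) * (z * u)⁻¹ * (e * v)⁻¹ = z * (u * e) * v * u⁻¹ * z⁻¹ * v⁻¹ * e⁻¹ := by group
    _ = (z * (e * (u * v * u⁻¹))) * z⁻¹ * v⁻¹ * e⁻¹ := by rw [← c1.eq]; group
    _ = (e * (u * v * u⁻¹ * v⁻¹)) * e⁻¹ := by rw [hz.eq]; group
    _ = u * v * u⁻¹ * v⁻¹ := by rw [he.eq]; group

/-- the kernel of the action on the odd cover -/
theorem cent_of_mod {L : Subgroup H} (hp : commutator L = ⊤) {π : L →* K} (hk : π.ker ≤ center L) [L.Normal] {x : H}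
    (h : ∀ l : L, π ⟨x * l * x⁻¹, Normal.conj_mem inferInstance _ l.2 _⟩ = π l) : ∀ l ∈ L, x * l = l * x := by
  -- `l ↦ (x l x⁻¹) l⁻¹` is central, hence trivial on commutators
  have hz : ∀ l : L, (⟨x * l * x⁻¹, Normal.conj_mem inferInstance _ l.2 _⟩ : L) * l⁻¹ ∈ center L := by
    intro l
    apply hk
    rw [MonoidHom.mem_ker, map_mul, h l, map_inv, mul_inv_cancel]
  have key : commutator L ≤ (centralizer ({x} : Set H)).subgroupOf L := by
    rw [commutator_def, commutator_le]
    intro u _ v _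
    rw [mem_subgroupOf, mem_centralizer_singleton_iff]
    obtain ⟨ζ, hζ⟩ : ∃ ζ : L, (⟨x * u * x⁻¹, Normal.conj_mem inferInstance _ u.2 _⟩ : L) * u⁻¹ = ζ := ⟨_, rfl⟩
    obtain ⟨η, hη⟩ : ∃ η : L, (⟨x * v * x⁻¹, Normal.conj_mem inferInstance _ v.2 _⟩ : L) * v⁻¹ = η := ⟨_, rfl⟩
    have cζ := hz u
    have cη := hz v
    rw [hζ] at cζ
    rw [hη] at cη
    have e1 : x * (u : H) * x⁻¹ = ζ * u := by
      have := congrArg Subtype.val hζ
      rw [← this]
      simp
    have e2 : x * (v : H) * x⁻¹ = η * v := by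
      have := congrArg Subtype.val hη
      rw [← this]
      simp
    have cz : ∀ g : L, (ζ : H) * g = g * ζ := fun g => (congrArg Subtype.val (mem_center_iff.1 cζ g)).symm
    have ce : ∀ g : L, (η : H) * g = g * η := fun g => (congrArg Subtype.val (mem_center_iff.1 cη g)).symm
    have e3 : x * ((⁅u, v⁆ : L) : H) * x⁻¹ = ((⁅u, v⁆ : L) : H) := by
      have e4 : x * ((⁅u, v⁆ : L) : H) * x⁻¹ =
          (x * u * x⁻¹) * (x * v * x⁻¹) * (x * u * x⁻¹)⁻¹ * (x * v * x⁻¹)⁻¹ := by
        rw [commutatorElement_def]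
        push_cast
        group
      rw [e4, e1, e2, commutatorElement_def]
      push_cast
      exact comm_aux (ce u) (cz v) (cz u) (ce v) (cz η)
    have e5 := mul_inv_eq_iff_eq_mul.1 e3
    exact e5.symm
  intro l hl
  have h1 : (⟨l, hl⟩ : L) ∈ commutator L := by rw [hp]; trivial
  have h2 := mem_subgroupOf.1 (key h1)
  exact (mem_centralizer_singleton_iff.1 h2).symm

/-- if all automorphisms of `K` are inner then `H = L C_H(L)` -/
theorem exists_mul [L.Normal] (hπ : OddCover π) (hK : center K = ⊥)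
    (hin : ∀ α : MulAut K, ∃ s : K, ∀ g, α g = s * g * s⁻¹) (x : H) :
    ∃ l : L, ∃ c : H, (∀ l ∈ L, c * l = l * c) ∧ x = l * c := by
  obtain ⟨f, hf⟩ := hπ.exists_hom hK
  obtain ⟨s, hs⟩ := hin (f x)
  obtain ⟨l, rfl⟩ := hπ.surj s
  refine ⟨l, (l : H)⁻¹ * x, ?_, by group⟩
  apply cent_of_mod hπ.perf hπ.cent
  intro m
  have h1 := hf x m ⟨x * m * x⁻¹, Normal.conj_mem inferInstance _ m.2 _⟩ rfl
  rw [hs] at h1
  have h2 : (⟨(l : H)⁻¹ * x * m * ((l : H)⁻¹ * x)⁻¹, Normal.conj_mem inferInstance _ m.2 _⟩ : L) =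
      l⁻¹ * ⟨x * m * x⁻¹, Normal.conj_mem inferInstance _ m.2 _⟩ * l := by
    apply Subtype.ext
    push_cast
    group
  rw [h2, map_mul, map_mul, ← h1, map_inv]
  group

/-- **`C_H(L) = 1` and `H = L`** if all automorphisms of `K` are inner and `|C_H(L)|` is odd -/
theorem eq_of_inner_odd (C : Cfg ρ b q a D X w) (hL : L.Normal) (hπ : OddCover π)
    (hodd : Odd (Nat.card (centralizer (L : Set H)))) (hK : center K = ⊥)
    (hin : ∀ α : MulAut K, ∃ s : K, ∀ g, α g = s * g * s⁻¹) :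
    L = ⊤ ∧ Function.Injective π := by
  have := C.finite_H
  -- `X ≤ L`
  have hXL : X ≤ L := by
    intro x hx
    obtain ⟨l, c, hc, rfl⟩ := exists_mul hπ hK hin x
    have hcc : c ∈ centralizer (L : Set H) := mem_centralizer_iff.2 fun l hl => (hc l hl).symm
    have h1 := C.X_sq _ hx
    have h2 : c * c = (l : H)⁻¹ * (l : H)⁻¹ := by
      have h3 : (l : H) * c * (l * c) = l * l * (c * c) := by
        rw [mul_assoc, ← mul_assoc c (l : H) c, hc l l.2]
        group
      rw [h3] at h1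
      rw [← eq_inv_iff_mul_eq_one] at h1
      rw [← mul_inv_rev, h1, inv_inv]
    have h4 : c * c ∈ L := by rw [h2]; exact mul_mem (inv_mem l.2) (inv_mem l.2)
    have h5 : Odd (orderOf c) := by
      have h6 : orderOf c = orderOf (⟨c, hcc⟩ : centralizer (L : Set H)) := (Subgroup.orderOf_mk _ _).symm
      rw [h6]
      exact hodd.of_dvd_nat (orderOf_dvd_natCard _)
    obtain ⟨k, hk⟩ := h5
    have h7 : c ∈ L := by
      have h8 : c = (c * c) ^ (k + 1) := by
        rw [← pow_two, ← pow_mul, show 2 * (k + 1) = orderOf c + 1 by omega, pow_succ, pow_orderOf_eq_one, one_mul]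
      rw [h8]
      exact pow_mem h4 _
    exact mul_mem l.2 h7
  -- `C_H(L) ≤ C_H(X)` is a 2-group
  have hle : centralizer (L : Set H) ≤ centralizer (X : Set H) := centralizer_le (by exact_mod_cast hXL)
  have hbot : centralizer (L : Set H) = ⊥ :=
    C.core inferInstance ((C.isPGroup_cent).to_le hle)
  constructor
  · rw [eq_top_iff]
    intro x _
    obtain ⟨l, c, hc, rfl⟩ := exists_mul hπ hK hin x
    have hcc : c ∈ centralizer (L : Set H) := mem_centralizer_iff.2 fun l hl => (hc l hl).symm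
    rw [hbot, mem_bot] at hcc
    rw [hcc, mul_one]
    exact l.2
  · rw [injective_iff_map_eq_one]
    intro l hl
    have h1 : l ∈ center L := hπ.cent hl
    have h2 : (l : H) ∈ centralizer (L : Set H) := by
      rw [mem_centralizer_iff]
      intro g hg
      exact congrArg Subtype.val (mem_center_iff.1 h1 ⟨g, hg⟩)
    rw [hbot, mem_bot] at h2
    exact Subtype.ext h2

/-- **`C_H(L) = 1` and `H = L`** if all automorphisms of `K` are inner, `LBs K n`, `w < n` -/
theorem eq_of_inner (C : Cfg ρ b q a D X w) (hL : L.Normal) [Nontrivial K] (hπ : OddCover π) {n : ℕ}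
    (hn : LBs.{u} K n) (hwn : w < n) (hK : center K = ⊥)
    (hin : ∀ α : MulAut K, ∃ s : K, ∀ g, α g = s * g * s⁻¹) :
    L = ⊤ ∧ Function.Injective π :=
  eq_of_inner_odd C hL hπ (odd_cent C hL hπ hn hwn) hK hin

/-- `H ≅ K` -/
theorem equiv_of_inner_odd (C : Cfg ρ b q a D X w) (hL : L.Normal) (hπ : OddCover π)
    (hodd : Odd (Nat.card (centralizer (L : Set H)))) (hK : center K = ⊥)
    (hin : ∀ α : MulAut K, ∃ s : K, ∀ g, α g = s * g * s⁻¹) : Nonempty (H ≃* K) := by
  obtain ⟨h1, h2⟩ := eq_of_inner_odd C hL hπ hodd hK hin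
  exact ⟨((Subgroup.topEquiv (G := H)).symm.trans (MulEquiv.subgroupCongr h1.symm)).trans
    (MulEquiv.ofBijective π ⟨h2, hπ.surj⟩)⟩

/-- `H ≅ K` -/
theorem equiv_of_inner (C : Cfg ρ b q a D X w) (hL : L.Normal) [Nontrivial K] (hπ : OddCover π) {n : ℕ}
    (hn : LBs.{u} K n) (hwn : w < n) (hK : center K = ⊥)
    (hin : ∀ α : MulAut K, ∃ s : K, ∀ g, α g = s * g * s⁻¹) : Nonempty (H ≃* K) :=
  equiv_of_inner_odd C hL hπ (odd_cent C hL hπ hn hwn) hK hin

end Cfsg.Agent.Omega.EH3.CentOdd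

end

end
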