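import Cfsg.Agent.Mrg.Omega.EH3.Irr.Main
import Cfsg.Agent.Mrg.Omega.EH3.Main
import Cfsg.Agent.Omega.EH3.Cons
import Cfsg.Agent.Omega.TwoF.Defs

-- merged: Cfsg.Agent.Omega.EH3.CentIrr
section

/-!
# EH3: `|C_H(L)|` is 1 or 3 if `V|L` is irreducible (helper586)
-/

set_option autoImplicit false

namespace Cfsg.Agent.Omega.EH3.CentIrr

open Subgroup

variable {H V : Type*} [Group H] [AddCommGroup V] [Module (ZMod 2) V]
  {ρ : H →* (V ≃ₗ[ZMod 2] V)} {b : LinearMap.BilinForm (ZMod 2) V} {q : V → ZMod 2}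
  {a : V} {D : Submodule (ZMod 2) V} {X : Subgroup H} {w : ℕ} {L : Subgroup H}

/-- `C_H(L)` has no involution -/
theorem no_invol (C : Cfg ρ b q a D X w) (hirr : Irr.Shape.Ir ρ L) {t : H} (htc : ∀ l ∈ L, t * l = l * t)
    (ht : t * t = 1) : t = 1 := by
  let f : V →ₗ[ZMod 2] V := (ρ t : V →ₗ[ZMod 2] V) + LinearMap.id
  have hf : ∀ v, f v = ρ t v + v := fun _ => rfl
  have hcm : Irr.Shape.Cm ρ L f := by
    intro l hl v
    rw [hf, hf, map_add, ← C.ρ_mul, ← C.ρ_mul, htc l hl]
  apply C.ext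
  intro v
  rw [C.ρ_one]
  by_contra hne
  have hv : f v ≠ 0 := fun h => hne (C.add_eq_zero.1 h)
  have hf0 : f ≠ 0 := by
    intro h
    apply hv
    rw [h]; rfl
  apply hv
  apply Irr.Shape.injective hirr hcm hf0
  rw [hf, hf, map_add, ← C.ρ_mul, ht, C.ρ_one, add_comm v, C.add_self]

theorem odd_cent (C : Cfg ρ b q a D X w) (hirr : Irr.Shape.Ir ρ L) :
    Odd (Nat.card (centralizer (L : Set H))) := by
  have := C.finite_H
  rw [← Nat.not_even_iff_odd]
  intro h
  obtain ⟨t, ht⟩ := exists_prime_orderOf_dvd_card' (G := centralizer (L : Set H)) 2 (even_iff_two_dvd.1 h)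
  have h1 : (t : H) * t = 1 := by
    have := pow_orderOf_eq_one t
    rw [ht, pow_two] at this
    exact congrArg Subtype.val this
  have h2 := no_invol C hirr (t := t) (fun l hl => (mem_centralizer_iff.1 t.2 l hl).symm) h1
  have h3 : t = 1 := Subtype.ext h2
  rw [h3, orderOf_one] at ht
  omega

/-- **`|C_H(L)| ≤ 3`** -/
theorem card_cent_le (C : Cfg ρ b q a D X w) (hL : L.Normal) (hirr : Irr.Shape.Ir ρ L) :
    Nat.card (centralizer (L : Set H)) ≤ 3 := by
  classical
  have := C.finite_H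
  have hfE := Irr.Shape.finite_E (ρ := ρ) (L := L) C
  have h4 := Irr.Shape.card_le C hL hirr
  let g : centralizer (L : Set H) → {f : Irr.Shape.E ρ L // f ≠ 0} := fun c =>
    ⟨⟨((ρ (c : H) : V ≃ₗ[ZMod 2] V) : V →ₗ[ZMod 2] V), fun l hl v => by
      show ρ (c : H) (ρ l v) = ρ l (ρ (c : H) v)
      rw [← C.ρ_mul, ← C.ρ_mul, mem_centralizer_iff.1 c.2 l hl]⟩, fun h => by
      have h1 := congrArg (fun x : Irr.Shape.E ρ L => (x : Module.End (ZMod 2) V) a) h
      have h2 : ρ (c : H) a = 0 := h1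
      apply C.a_ne
      have h3 := C.ρ_inv_apply (c : H) a
      rw [h2, map_zero] at h3
      exact h3.symm⟩
  have hg : Function.Injective g := by
    intro c d h
    apply Subtype.ext
    apply C.ext
    intro v
    exact congrArg (fun x : {f : Irr.Shape.E ρ L // f ≠ 0} => ((x : Irr.Shape.E ρ L) : Module.End (ZMod 2) V) v) h
  have h1 := Nat.card_le_card_of_injective g hg
  have : Fintype (Irr.Shape.E ρ L) := Fintype.ofFinite _
  have h2 : Nat.card {f : Irr.Shape.E ρ L // f ≠ 0} = Nat.card (Irr.Shape.E ρ L) - 1 := by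
    rw [Nat.card_eq_fintype_card, Nat.card_eq_fintype_card, Fintype.card_subtype_compl, Fintype.card_subtype_eq]
  omega

/-- **`|C_H(L)|` is 1 or 3** -/
theorem card_cent (C : Cfg ρ b q a D X w) (hL : L.Normal) (hirr : Irr.Shape.Ir ρ L) :
    Nat.card (centralizer (L : Set H)) = 1 ∨ Nat.card (centralizer (L : Set H)) = 3 := by
  have h1 := card_cent_le C hL hirr
  obtain ⟨k, hk⟩ := odd_cent C hirr
  omega

end Cfsg.Agent.Omega.EH3.CentIrr

end

-- merged: Cfsg.Agent.Mrg.Omega.EH3.SitIrr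
section

section


/-!
# EH3: `V|L` is irreducible in the situation [2d], and `|C_H(L)|` is 1 or 3 (helper586)
-/

set_option autoImplicit false

namespace Cfsg.Agent.Omega.EH3.SitIrr

open Cfsg Subgroup Cfsg.Agent.Omega.Frame Cfsg.Agent.Omega.EH3.Main
open scoped commutatorElement

universe u

theorem perfect_of {H : Type*} [Group H] {L : Subgroup H} (h : commutator L = ⊤) : ⁅L, L⁆ = L := by
  have h2 : (⁅(⊤ : Subgroup L), (⊤ : Subgroup L)⁆).map L.subtype = (⊤ : Subgroup L).map L.subtype := by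
    rw [← _root_.commutator_def, h]
  rw [map_commutator, ← MonoidHom.range_eq_map, range_subtype] at h2
  exact h2

theorem ne_bot_of {H : Type*} [Group H] {L : Subgroup H} (h : IsSimpleGroup (L ⧸ center L)) : L ≠ ⊥ := by
  rintro rfl
  obtain ⟨x, y, hxy⟩ := h.exists_pair_ne
  apply hxy
  obtain ⟨x, rfl⟩ := QuotientGroup.mk_surjective x
  obtain ⟨y, rfl⟩ := QuotientGroup.mk_surjective y
  rw [Subsingleton.elim x y]

variable {G : Type u} [Group G] [Finite G] {Q A : Subgroup G} {z a : G} {w : ℕ}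

/-- `V|L` is irreducible in the situation [2d] -/
theorem irr (S : Sit Q A z a w) {L : Subgroup S.pair.H} (hLn : L.Normal) (hLq : IsQuasisimple L)
    (h4 : S.X ⊓ centralizer (L : Set S.pair.H) = ⊥) : Irr.Shape.Ir S.ρ L :=
  Irr.irr S.cfg hLn (perfect_of (commutator_eq_top hLq)) (ne_bot_of (simple_of_quasisimple hLq).1) h4

/-- `|C_H(L)|` is 1 or 3 -/
theorem card_cent (S : Sit Q A z a w) {L : Subgroup S.pair.H} (hLn : L.Normal) (hLq : IsQuasisimple L)
    (h4 : S.X ⊓ centralizer (L : Set S.pair.H) = ⊥) :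
    Nat.card (centralizer (L : Set S.pair.H)) = 1 ∨ Nat.card (centralizer (L : Set S.pair.H)) = 3 :=
  CentIrr.card_cent S.cfg hLn (irr S hLn hLq h4)

end Cfsg.Agent.Omega.EH3.SitIrr

end

section


/-!
# EH3: `H` is simple when `Out(K) = 1` (helper665)

`C : Cfg ρ b q a D X w`, `L` normal in `H`, `π : L → K` an odd cover of the nonabelian simple group `K`, every
automorphism of `K` is inner, and some divisor `m` of `|K|` divides no `|GL_n(2)|`, `n ≤ w` ⇒ `L = H` and `π` is an
isomorphism (`iso_of_cover`).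
-/

set_option autoImplicit false
set_option linter.unusedSectionVars false

namespace Cfsg.Agent.Omega.EH3.CoverTop

open Subgroup Cfsg.Agent.Omega.EH3 Cfsg.Agent.Omega.TwoF

section grp

variable {H : Type*} [Group H]

/-- a group acting on the perfect normal subgroup `L` trivially modulo the centre of `L` centralises `L`. -/
theorem cent_of_mod {L : Subgroup H} (hL : commutator L = ⊤) {c : H}
    (hc : ∀ l ∈ L, c * l * c⁻¹ * l⁻¹ ∈ L)
    (h : ∀ l ∈ L, ∀ k ∈ L, (c * l * c⁻¹ * l⁻¹) * k = k * (c * l * c⁻¹ * l⁻¹)) :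
    ∀ l ∈ L, c * l = l * c := by
  let f : L →* L :=
    { toFun := fun l => ⟨c * l * c⁻¹ * (l : H)⁻¹, hc l l.2⟩
      map_one' := Subtype.ext (by show c * 1 * c⁻¹ * 1⁻¹ = 1; group)
      map_mul' := by
        intro l k
        apply Subtype.ext
        show c * (l * k : H) * c⁻¹ * (l * k : H)⁻¹ = (c * l * c⁻¹ * (l : H)⁻¹) * (c * k * c⁻¹ * (k : H)⁻¹)
        have h1 := h k k.2 l l.2
        calc c * (l * k : H) * c⁻¹ * (l * k : H)⁻¹
            = (c * l * c⁻¹ * (l : H)⁻¹) * (l * (c * k * c⁻¹ * (k : H)⁻¹)) * (l : H)⁻¹ := by group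
          _ = (c * l * c⁻¹ * (l : H)⁻¹) * ((c * k * c⁻¹ * (k : H)⁻¹) * l) * (l : H)⁻¹ := by rw [h1]
          _ = _ := by group }
  have hf : ∀ l : L, f l = 1 := by
    have h1 : commutator L ≤ f.ker := by
      rw [commutator_def, Subgroup.commutator_le]
      intro x _ y _
      rw [MonoidHom.mem_ker, map_commutatorElement]
      have h2 : f x * f y = f y * f x := Subtype.ext (h x x.2 _ (f y).2)
      rw [commutatorElement_def, h2]; group
    intro l
    have : l ∈ commutator L := by rw [hL]; trivial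
    exact h1 this
  intro l hl
  have h1 : c * l * c⁻¹ * l⁻¹ = 1 := congrArg Subtype.val (hf ⟨l, hl⟩)
  exact mul_inv_eq_iff_eq_mul.1 (mul_inv_eq_one.1 h1)

end grp

section cover

variable {H : Type*} [Group H] {L : Subgroup H} {K : Type*} [Group K] {π : L →* K}

theorem center_eq_bot [IsSimpleGroup K] (hK : ¬ IsMulCommutative K) : center K = ⊥ := by
  rcases (inferInstance : (center K).Normal).eq_bot_or_eq_top with h | h
  · exact h
  · exfalso
    apply hK
    constructor
    constructor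
    intro x y
    have hx : y ∈ center K := by rw [h]; trivial
    exact (mem_center_iff.mp hx x)

theorem ker_eq_center [IsSimpleGroup K] (hK : ¬ IsMulCommutative K) (hπ : OddCover π) :
    π.ker = center L := by
  refine le_antisymm hπ.cent fun l hl => ?_
  rw [MonoidHom.mem_ker, ← mem_bot, ← center_eq_bot hK, mem_center_iff]
  intro k
  obtain ⟨m, rfl⟩ := hπ.surj k
  rw [← map_mul, ← map_mul, mem_center_iff.1 hl m]

/-- conjugation by `h` on `K`. -/
theorem exists_inner [IsSimpleGroup K] (hK : ¬ IsMulCommutative K) (hπ : OddCover π)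
    (hL : L.Normal) (hin : ∀ α : MulAut K, ∃ k, α = MulAut.conj k) (h : H) :
    ∃ l0 ∈ L, ∀ l ∈ L, (l0⁻¹ * h) * l = l * (l0⁻¹ * h) := by
  have hcz : ∀ g : H, ∀ l : L, l ∈ center L → (⟨g * l * g⁻¹, hL.conj_mem l l.2 g⟩ : L) ∈ center L := by
    intro g l hl
    rw [mem_center_iff] at hl ⊢
    intro m
    apply Subtype.ext
    have h1 := congrArg Subtype.val (hl ⟨g⁻¹ * m * g, by
      have := hL.conj_mem m m.2 g⁻¹
      rwa [inv_inv] at this⟩)
    have h2 : (g⁻¹ * m * g : H) * l = l * (g⁻¹ * m * g) := h1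
    show (m : H) * (g * l * g⁻¹) = g * l * g⁻¹ * m
    calc (m : H) * (g * l * g⁻¹) = g * ((g⁻¹ * m * g) * l) * g⁻¹ := by group
      _ = g * (l * (g⁻¹ * m * g)) * g⁻¹ := by rw [h2]
      _ = g * l * g⁻¹ * m := by group
  -- the homomorphism `L → K`, `l ↦ π (g l g⁻¹)`
  let cg : H → (L →* K) := fun g => π.comp (MulAut.conjNormal g : MulAut L).toMonoidHom
  have hcg : ∀ g : H, ∀ l : L, cg g l = π ⟨g * l * g⁻¹, hL.conj_mem l l.2 g⟩ := fun g l => rfl
  have hker : ∀ g : H, π.ker ≤ (cg g).ker := by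
    intro g l hl
    rw [ker_eq_center hK hπ] at hl
    rw [MonoidHom.mem_ker, hcg]
    have := hcz g l hl
    rwa [← ker_eq_center hK hπ, MonoidHom.mem_ker] at this
  let φ : H → (K →* K) := fun g => π.liftOfSurjective hπ.surj ⟨cg g, hker g⟩
  have hφ : ∀ g : H, ∀ l : L, φ g (π l) = cg g l := fun g l =>
    MonoidHom.liftOfRightInverse_comp_apply π _ _ ⟨cg g, hker g⟩ l
  have hφi : ∀ g : H, ∀ k, φ g⁻¹ (φ g k) = k := by
    intro g k
    obtain ⟨l, rfl⟩ := hπ.surj k
    rw [hφ, hcg, hφ, hcg]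
    congr 1
    apply Subtype.ext
    show g⁻¹ * (g * l * g⁻¹) * g⁻¹⁻¹ = l
    group
  let α : MulAut K :=
    { toFun := φ h
      invFun := φ h⁻¹
      left_inv := hφi h
      right_inv := fun k => by
        have := hφi h⁻¹ k
        rwa [inv_inv] at this
      map_mul' := (φ h).map_mul }
  obtain ⟨k0, hk0⟩ := hin α
  obtain ⟨l0, rfl⟩ := hπ.surj k0
  refine ⟨l0, l0.2, ?_⟩
  have key : ∀ l : L, π ⟨h * l * h⁻¹, hL.conj_mem l l.2 h⟩ = π (l0 * l * l0⁻¹) := by
    intro l
    have h1 : α (π l) = MulAut.conj (π l0) (π l) := by rw [hk0]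
    rw [MulAut.conj_apply] at h1
    rw [map_mul, map_mul, map_inv, ← h1]
    exact (hφ h l).symm
  refine cent_of_mod hπ.perf (fun l hl => ?_) (fun l hl k hk => ?_)
  · exact L.mul_mem (hL.conj_mem l hl _) (L.inv_mem hl)
  · have h1 := key ⟨l, hl⟩
    have h2 : l0⁻¹ * ⟨h * l * h⁻¹, hL.conj_mem l hl h⟩ * l0 * ⟨l, hl⟩⁻¹ ∈ π.ker := by
      rw [MonoidHom.mem_ker, map_mul, map_mul, map_mul]
      have h3 : π ⟨h * l * h⁻¹, hL.conj_mem l hl h⟩ = π l0 * π ⟨l, hl⟩ * (π l0)⁻¹ := by
        rw [← map_inv, ← map_mul, ← map_mul]; exact h1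
      rw [h3, map_inv, map_inv]
      group
    rw [ker_eq_center hK hπ, mem_center_iff] at h2
    have h4 := congrArg Subtype.val (h2 ⟨k, hk⟩)
    have h5 : k * ((l0 : H)⁻¹ * (h * l * h⁻¹) * l0 * l⁻¹) =
      (l0 : H)⁻¹ * (h * l * h⁻¹) * l0 * l⁻¹ * k := h4
    have h6 : (l0 : H)⁻¹ * h * l * ((l0 : H)⁻¹ * h)⁻¹ * l⁻¹ =
        (l0 : H)⁻¹ * (h * l * h⁻¹) * l0 * l⁻¹ := by group
    rw [h6]
    exact h5.symm

/-- an action of `L` on a small module is trivial. -/
theorem trivial_of_card [Finite H] [IsSimpleGroup K] (hπ : OddCover π)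
    {M : Type*} [Group M] [Finite M] (f : L →* M) {m : ℕ} (hm : m ∣ Nat.card K)
    (hM : ¬ m ∣ Nat.card M) (l : L) : f l = 1 := by
  have hn : (f.ker.map π).Normal := (inferInstance : f.ker.Normal).map π hπ.surj
  rcases hn.eq_bot_or_eq_top with h | h
  · exfalso
    apply hM
    have hle : f.ker ≤ π.ker := by
      intro x hx
      have : π x ∈ f.ker.map π := mem_map_of_mem _ hx
      rw [h, mem_bot] at this
      exact this
    have h1 : Nat.card K = π.ker.index := by
      rw [Subgroup.index_ker, MonoidHom.range_eq_top.2 hπ.surj, Subgroup.card_top]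
    have h2 : π.ker.index ∣ f.ker.index := Subgroup.index_dvd_of_le hle
    have h3 : f.ker.index ∣ Nat.card M := by
      rw [Subgroup.index_ker]
      exact Subgroup.card_subgroup_dvd_card _
    rw [h1] at hm
    exact hm.trans (h2.trans h3)
  · -- `L = ker f ⊔ Z(L)`, so `f` has abelian image
    have h1 : ∀ x : L, ∃ y ∈ f.ker, y⁻¹ * x ∈ center L := by
      intro x
      have : π x ∈ f.ker.map π := by rw [h]; trivial
      obtain ⟨y, hy, hyx⟩ := this
      refine ⟨y, hy, hπ.cent ?_⟩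
      rw [MonoidHom.mem_ker, map_mul, map_inv, hyx, inv_mul_cancel]
    have h2 : ∀ x y : L, f x * f y = f y * f x := by
      intro x y
      obtain ⟨u, hu, hux⟩ := h1 x
      have e1 : f x = f (u⁻¹ * x) := by
        rw [map_mul, map_inv, MonoidHom.mem_ker.1 hu, inv_one, one_mul]
      rw [e1, ← map_mul, ← map_mul, mem_center_iff.1 hux y]
    have h3 : commutator L ≤ f.ker := by
      rw [commutator_def, Subgroup.commutator_le]
      intro x _ y _
      rw [MonoidHom.mem_ker, map_commutatorElement, commutatorElement_def, h2]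
      group
    have : l ∈ commutator L := by rw [hπ.perf]; trivial
    exact h3 this

end cover

section main

variable {H V : Type*} [Group H] [AddCommGroup V] [Module (ZMod 2) V]
  {ρ : H →* (V ≃ₗ[ZMod 2] V)} {b : LinearMap.BilinForm (ZMod 2) V} {q : V → ZMod 2}
  {a : V} {D : Submodule (ZMod 2) V} {X : Subgroup H} {w : ℕ}
  {L : Subgroup H} {K : Type*} [Group K] {π : L →* K}

/-- fixed vectors of a normal subgroup. -/
theorem fixV_normal (C : Cfg ρ b q a D X w) {N : Subgroup H} (hN : N.Normal)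
    (hne : C.fixV N ≠ ⊥) : N = ⊥ := by
  have hinv : ∀ h, ∀ u ∈ C.fixV N, ρ h u ∈ C.fixV N := by
    intro h u hu n hn
    have h1 := hu _ (hN.conj_mem n hn h⁻¹)
    have h2 : ρ (h * (h⁻¹ * n * h⁻¹⁻¹)) u = ρ (n * h) u := by congr 2; group
    rw [← C.ρ_mul, ← h2, C.ρ_mul, h1]
  rcases C.irr _ hinv with h | h
  · exact absurd h hne
  · rw [eq_bot_iff]
    intro n hn
    rw [Subgroup.mem_bot]
    apply C.ext
    intro u
    have : u ∈ C.fixV N := by rw [h]; trivial
    rw [this n hn, C.ρ_one]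

/-- the restriction of `ρ` to an invariant subspace. -/
noncomputable def res (C : Cfg ρ b q a D X w) {W : Submodule (ZMod 2) V}
    (hW : ∀ l ∈ L, ∀ v ∈ W, ρ l v ∈ W) : L →* (W ≃ₗ[ZMod 2] W) where
  toFun l :=
    { toFun := fun v => ⟨ρ l v, hW l l.2 v v.2⟩
      map_add' := fun u v => Subtype.ext (map_add _ _ _)
      map_smul' := fun r v => Subtype.ext (map_smul _ _ _)
      invFun := fun v => ⟨ρ (l : H)⁻¹ v, hW _ (L.inv_mem l.2) v v.2⟩
      left_inv := fun v => Subtype.ext (C.ρ_inv_apply l v)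
      right_inv := fun v => Subtype.ext (C.ρ_apply_inv l v) }
  map_one' := by
    ext v
    exact C.ρ_one v
  map_mul' := by
    intro l k
    ext v
    exact C.ρ_mul l k v

theorem res_apply (C : Cfg ρ b q a D X w) {W : Submodule (ZMod 2) V}
    (hW : ∀ l ∈ L, ∀ v ∈ W, ρ l v ∈ W) (l : L) (v : W) : (res C hW l v : V) = ρ l v := rfl

/-- the order of `GL(W)`. -/
theorem card_equiv {W : Type*} [AddCommGroup W] [Module (ZMod 2) W] [Module.Finite (ZMod 2) W]
    {n : ℕ} (hn : Module.finrank (ZMod 2) W = n) :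
    Nat.card (W ≃ₗ[ZMod 2] W) = Nat.card (Matrix.GeneralLinearGroup (Fin n) (ZMod 2)) := by
  subst hn
  let e1 : (W ≃ₗ[ZMod 2] W) ≃ LinearMap.GeneralLinearGroup (ZMod 2) W :=
    (LinearMap.GeneralLinearGroup.generalLinearEquiv (ZMod 2) W).symm.toEquiv
  let bs := Module.finBasis (ZMod 2) W
  let e2 : LinearMap.GeneralLinearGroup (ZMod 2) W ≃
      Matrix.GeneralLinearGroup (Fin (Module.finrank (ZMod 2) W)) (ZMod 2) :=
    (Units.mapEquiv (LinearMap.toMatrixAlgEquiv bs).toMulEquiv).toEquiv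
  exact Nat.card_congr (e1.trans e2)

variable (C : Cfg ρ b q a D X w) [IsSimpleGroup K] (hK : ¬ IsMulCommutative K) (hL : L.Normal)
  (hπ : OddCover π) {m : ℕ} (hm : m ∣ Nat.card K)
  (hGL : ∀ n ≤ w, ¬ m ∣ Nat.card (Matrix.GeneralLinearGroup (Fin n) (ZMod 2)))

include C hK hL hπ hm hGL in
/-- `L` is irreducible on `V`. -/
theorem irr_L {W : Submodule (ZMod 2) V} (hW : ∀ l ∈ L, ∀ v ∈ W, ρ l v ∈ W) : W = ⊥ ∨ W = ⊤ := by
  have hfV := C.finite_V
  have hfH := C.finite_H
  by_contra hcon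
  push Not at hcon
  obtain ⟨h0, h1⟩ := hcon
  have hLne : L ≠ ⊥ := by
    rintro rfl
    obtain ⟨k, hk⟩ := exists_ne (1 : K)
    obtain ⟨l, rfl⟩ := hπ.surj k
    apply hk
    rw [show l = 1 from Subtype.ext (mem_bot.1 l.2), map_one]
  -- a small nonzero invariant subspace
  have small : ∃ U : Submodule (ZMod 2) V, U ≠ ⊥ ∧ (∀ l ∈ L, ∀ v ∈ U, ρ l v ∈ U) ∧
      Module.finrank (ZMod 2) U ≤ w := by
    by_cases h2 : Module.finrank (ZMod 2) W ≤ w
    · exact ⟨W, h0, hW, h2⟩
    · have h3 := LinearMap.BilinForm.finrank_orthogonal C.nondegenerate W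
      have h4 : Module.finrank (ZMod 2) V = 2 * w := by
        have h1 := Module.natCard_eq_pow_finrank (K := ZMod 2) (V := V)
        rw [C.card_V, Nat.card_zmod] at h1
        exact (Nat.pow_right_injective le_rfl h1).symm
      rw [h4] at h3
      refine ⟨b.orthogonal W, ?_, ?_, by omega⟩
      · intro h5
        rw [h5, finrank_bot] at h3
        have h6 : Module.finrank (ZMod 2) W = Module.finrank (ZMod 2) V := by
          have := Submodule.finrank_le W
          omega
        exact h1 (Submodule.eq_top_of_finrank_eq h6)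
      · intro l hl v hv
        rw [LinearMap.BilinForm.mem_orthogonal_iff] at hv ⊢
        intro u hu
        have h6 := hv (ρ l⁻¹ u) (hW _ (L.inv_mem hl) u hu)
        show b u (ρ l v) = 0
        rw [← C.b_inv l (ρ l⁻¹ u) v, C.ρ_apply_inv] at h6
        exact h6
  obtain ⟨U, hU0, hUL, hUw⟩ := small
  have : Finite (U ≃ₗ[ZMod 2] U) := Finite.of_injective (fun g => (g : U → U)) DFunLike.coe_injective
  have htr : ∀ l ∈ L, ∀ u ∈ U, ρ l u = u := by
    intro l hl u hu
    have h5 := trivial_of_card hπ (res C hUL) hm (by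
      rw [card_equiv rfl]
      exact hGL _ hUw) ⟨l, hl⟩
    have h6 := congrArg (fun f : U ≃ₗ[ZMod 2] U => ((f ⟨u, hu⟩ : U) : V)) h5
    exact h6
  refine hLne (fixV_normal C hL fun h5 => hU0 ?_)
  rw [eq_bot_iff]
  intro u hu
  have : u ∈ C.fixV L := fun l hl => htr l hl u hu
  rwa [h5] at this

include C hK hL hπ hm hGL in
/-- an element `≠ 1` centralising `L` has no fixed vector. -/
theorem cent_free {c : H} (hc : ∀ l ∈ L, c * l = l * c) (hc1 : c ≠ 1) {v : V} (hv : ρ c v = v) :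
    v = 0 := by
  let W : Submodule (ZMod 2) V :=
    { carrier := {v | ρ c v = v}
      zero_mem' := map_zero _
      add_mem' := by
        intro u v hu hv
        show ρ c (u + v) = u + v
        rw [map_add, show ρ c u = u from hu, show ρ c v = v from hv]
      smul_mem' := by
        intro r v hv
        show ρ c (r • v) = r • v
        rw [map_smul, show ρ c v = v from hv] }
  have hW : ∀ v, v ∈ W ↔ ρ c v = v := fun _ => Iff.rfl
  rcases irr_L C hK hL hπ hm hGL (W := W) (by
    intro l hl v hv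
    rw [hW] at hv ⊢
    rw [← C.ρ_mul, hc l hl, C.ρ_mul, hv]) with h | h
  · have : v ∈ W := hv
    rwa [h, Submodule.mem_bot] at this
  · exfalso
    apply hc1
    apply C.ext
    intro u
    have : u ∈ W := by rw [h]; trivial
    rw [(hW u).1 this, C.ρ_one]

include C hK hL hπ hm hGL in
/-- **`H = L ≅ K`.** -/
theorem iso_of_cover (hin : ∀ α : MulAut K, ∃ k, α = MulAut.conj k) :
    L = ⊤ ∧ Function.Bijective π := by
  have hfH := C.finite_H
  have hLn := hL
  -- `c² = 1`
  have hsq : ∀ c : H, (∀ l ∈ L, c * l = l * c) → c * c = 1 → c = 1 := by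
    intro c hc h1
    by_contra hne
    apply hne
    apply C.ext
    intro v
    have h2 : ρ c (v + ρ c v) = v + ρ c v := by
      rw [map_add, ← C.ρ_mul, h1, C.ρ_one, add_comm]
    have h3 := cent_free C hK hL hπ hm hGL hc hne h2
    rw [C.ρ_one]
    exact (C.add_eq_zero.1 h3).symm
  -- `X ≤ L`
  have hXL : X ≤ L := by
    intro x hx
    obtain ⟨l0, hl0, hc⟩ := exists_inner hK hπ hL hin x
    obtain ⟨c, hcd⟩ : ∃ c, c = l0⁻¹ * x := ⟨_, rfl⟩
    rw [← hcd] at hc
    have hx' : x = l0 * c := by rw [hcd]; group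
    -- the order of `c` is odd
    have hodd : Odd (orderOf c) := by
      rw [← Nat.not_even_iff_odd]
      intro hev
      obtain ⟨k, hk⟩ := hev
      have hpos := orderOf_pos c
      have h1 : c ^ k * c ^ k = 1 := by rw [← pow_add, ← hk]; exact pow_orderOf_eq_one c
      have h2 : ∀ l ∈ L, c ^ k * l = l * c ^ k := by
        intro l hl
        have : Commute c l := hc l hl
        exact (this.pow_left k).eq
      have h3 := hsq _ h2 h1
      have h4 : orderOf c ∣ k := orderOf_dvd_of_pow_eq_one h3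
      have h5 := Nat.le_of_dvd (by omega) h4
      omega
    obtain ⟨k, hk⟩ := hodd
    have h1 : x ^ orderOf c = x := by
      rw [hk, pow_succ, pow_mul, pow_two, C.X_sq x hx, one_pow, one_mul]
    have h2 : x ^ orderOf c = l0 ^ orderOf c := by
      have h3 : Commute l0 c := (hc l0 hl0).symm
      rw [hx', h3.mul_pow, pow_orderOf_eq_one, mul_one]
    rw [← h1, h2]
    exact L.pow_mem hl0 _
  -- the centraliser of `L` is trivial
  have hcen : ∀ c : H, (∀ l ∈ L, c * l = l * c) → c = 1 := by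
    intro c hc
    by_contra hne
    have h1 : ρ c a = 0 ∨ ρ c a = a := by
      apply C.fix_X
      intro x hx
      rw [← C.ρ_mul, ← hc x (hXL hx), C.ρ_mul, C.X_a hx]
    rcases h1 with h1 | h1
    · apply C.a_ne
      have h2 := C.ρ_inv_apply c a
      rw [h1, map_zero] at h2
      exact h2.symm
    · exact C.a_ne (cent_free C hK hL hπ hm hGL hc hne h1)
  refine ⟨?_, ?_, hπ.surj⟩
  · rw [eq_top_iff]
    intro h _
    obtain ⟨l0, hl0, hc⟩ := exists_inner hK hπ hL hin h
    have h1 := hcen _ hc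
    rw [← inv_mul_eq_one.1 h1]
    exact hl0
  · rw [injective_iff_map_eq_one]
    intro l hl
    have h1 : l ∈ center L := hπ.cent hl
    apply Subtype.ext
    apply hcen
    intro k hk
    exact (congrArg Subtype.val (mem_center_iff.1 h1 ⟨k, hk⟩)).symm

include C hK hL hπ hm hGL in
/-- `H ≅ K`. -/
theorem nonempty_equiv (hin : ∀ α : MulAut K, ∃ k, α = MulAut.conj k) : Nonempty (H ≃* K) := by
  obtain ⟨h1, h2⟩ := iso_of_cover C hK hL hπ hm hGL hin
  subst h1
  exact ⟨Subgroup.topEquiv.symm.trans (MulEquiv.ofBijective π h2)⟩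

end main

end Cfsg.Agent.Omega.EH3.CoverTop

end

end
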