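import Cfsg.Agent.Omega.EH3.Cons
import Mathlib
import Mathlib.FieldTheory.Finite.Basic

-- merged: Cfsg.Agent.Omega.EH3.Cube
section

/-!
# LEMMA CUBE (blueprint OMEGA-FF2b-helper796, (1))

`B ≤ H` normalised by `X`, `C_B(a)` contains the commutators of `B` and has odd index in `B`: then `b³ a = a` for all
`b ∈ B`; if `X` centralises `B` modulo `C_B(a)`, then `B` fixes `a`.
-/

set_option autoImplicit false

namespace Cfsg.Agent.Omega.EH3

open Subgroup

namespace Cfg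

variable {H V : Type*} [Group H] [AddCommGroup V] [Module (ZMod 2) V]
  {ρ : H →* (V ≃ₗ[ZMod 2] V)} {b : LinearMap.BilinForm (ZMod 2) V} {q : V → ZMod 2}
  {a : V} {D : Submodule (ZMod 2) V} {X : Subgroup H} {w : ℕ}

/-- if `X` fixes `g a` then `g` fixes `a` -/
theorem fix_of_X (C : Cfg ρ b q a D X w) {g : H} (h : ∀ x ∈ X, ρ x (ρ g a) = ρ g a) : ρ g a = a := by
  rcases C.fix_X h with h1 | h1
  · exfalso
    apply C.a_ne
    have := C.ρ_inv_apply g a
    rw [h1, map_zero] at this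
    exact this.symm
  · exact h1

theorem ρ_X_conj (C : Cfg ρ b q a D X w) {x : H} (hx : x ∈ X) (g : H) :
    ρ x (ρ g a) = ρ (x * g * x⁻¹) a := by
  rw [C.ρ_mul, C.ρ_mul, C.fix_inv (C.X_a hx)]

/-- `X` centralises `B` modulo `C(a)`: then `B` fixes `a`. -/
theorem fix_of_cent (C : Cfg ρ b q a D X w) {g : H}
    (h : ∀ x ∈ X, ρ (x * g * x⁻¹) a = ρ g a) : ρ g a = a :=
  C.fix_of_X fun x hx => (C.ρ_X_conj hx g).trans (h x hx)

section

variable (C : Cfg ρ b q a D X w) {B : Subgroup H}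

/-- **LEMMA CUBE.** -/
theorem cube (C : Cfg ρ b q a D X w) {B : Subgroup H} (hXB : ∀ x ∈ X, ∀ g ∈ B, x * g * x⁻¹ ∈ B)
    (hcomm : ∀ g ∈ B, ∀ h ∈ B, ρ (g * h * g⁻¹ * h⁻¹) a = a)
    (hodd : ∀ g ∈ B, ∃ k, Odd k ∧ ρ (g ^ k) a = a) : ∀ g ∈ B, ρ (g ^ 3) a = a := by
  classical
  have := C.finite_H
  -- the quotient `Γ = B / C_B(a)`
  let K : Subgroup B := (stab ρ a).subgroupOf B
  have hK : ∀ g : B, g ∈ K ↔ ρ g a = a := fun g => by
    rw [Subgroup.mem_subgroupOf, mem_stab]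
  have hcomK : ∀ g h : B, g * h * g⁻¹ * h⁻¹ ∈ K := fun g h => (hK _).2 (hcomm g g.2 h h.2)
  have hKn : K.Normal := ⟨fun k hk g => by
    have h1 := K.mul_mem (hcomK g k) hk
    rwa [inv_mul_cancel_right] at h1⟩
  have hcommQ : ∀ x y : B ⧸ K, x * y = y * x := by
    intro x y
    obtain ⟨x, rfl⟩ := QuotientGroup.mk_surjective x
    obtain ⟨y, rfl⟩ := QuotientGroup.mk_surjective y
    rw [← QuotientGroup.mk_mul, ← QuotientGroup.mk_mul, QuotientGroup.eq]
    have := hcomK y⁻¹ x⁻¹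
    simpa [mul_assoc] using this
  let _ : CommGroup (B ⧸ K) := { (inferInstance : Group (B ⧸ K)) with mul_comm := hcommQ }
  let π : B →* B ⧸ K := QuotientGroup.mk' K
  have hπ : ∀ g h : B, π g = π h ↔ ρ g a = ρ h a := by
    intro g h
    have h1 : π g = π h ↔ g⁻¹ * h ∈ K := QuotientGroup.eq
    rw [h1, hK]
    constructor
    · intro h2
      have h3 : (h : H) = g * ((g⁻¹ * h : B) : H) := by push_cast; group
      rw [h3, C.ρ_mul, h2]
    · intro h2
      push_cast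
      rw [C.ρ_mul, ← h2, C.ρ_inv_apply]
  have hπ1 : ∀ g : B, π g = 1 ↔ ρ g a = a := by
    intro g
    rw [← map_one π, hπ]
    push_cast
    rw [C.ρ_one]
  -- conjugation by `x ∈ X` on `B`
  let c : ∀ x : H, x ∈ X → B →* B := fun x hx =>
    { toFun := fun g => ⟨x * g * x⁻¹, hXB x hx g g.2⟩
      map_one' := Subtype.ext (by simp)
      map_mul' := fun g h => Subtype.ext (by push_cast; group) }
  have hc : ∀ x (hx : x ∈ X) (g h : B), π g = π h → π (c x hx g) = π (c x hx h) := by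
    intro x hx g h hgh
    rw [hπ] at hgh ⊢
    show ρ (x * g * x⁻¹) a = ρ (x * h * x⁻¹) a
    rw [← C.ρ_X_conj hx, ← C.ρ_X_conj hx, hgh]
  have hoddQ : ∀ g : B, π g ^ 2 = 1 → π g = 1 := by
    intro g h2
    obtain ⟨k, ⟨j, rfl⟩, hk⟩ := hodd g g.2
    have h3 : π g ^ (2 * j + 1) = 1 := by
      rw [← map_pow, hπ1]
      push_cast
      exact hk
    rw [pow_succ, pow_mul, h2, one_pow, one_mul] at h3
    exact h3
  -- real elements
  have key : ∀ L : Finset H, (∀ x ∈ L, x ∈ X) → (∃ g : B, π g ^ 3 ≠ 1) →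
      ∃ g : B, π g ^ 3 ≠ 1 ∧ ∀ x ∈ L, ∀ hx : x ∈ X, π (c x hx g) = π g ∨ π (c x hx g) = (π g)⁻¹ := by
    intro L
    induction L using Finset.induction_on with
    | empty =>
      intro _ ⟨g, hg⟩
      exact ⟨g, hg, fun x hx => absurd hx (Finset.notMem_empty x)⟩
    | insert x L _ ih =>
      intro hL hex
      obtain ⟨g, hg, hr⟩ := ih (fun y hy => hL y (Finset.mem_insert_of_mem hy)) hex
      have hx : x ∈ X := hL x (Finset.mem_insert_self x L)
      -- the two candidates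
      have hcc : ∀ y (hy : y ∈ X), c y hy (c x hx g) = c x hx (c y hy g) := by
        intro y hy
        apply Subtype.ext
        show y * (x * g * x⁻¹) * y⁻¹ = x * (y * g * y⁻¹) * x⁻¹
        have h1 := C.X_comm hy hx
        have h2 : x⁻¹ * y⁻¹ = y⁻¹ * x⁻¹ := by rw [← mul_inv_rev, ← mul_inv_rev, h1]
        calc y * (x * g * x⁻¹) * y⁻¹ = (y * x) * g * (x⁻¹ * y⁻¹) := by group
          _ = (x * y) * g * (y⁻¹ * x⁻¹) := by rw [h1, h2]
          _ = _ := by group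
      have hxx : c x hx (c x hx g) = g := by
        apply Subtype.ext
        show x * (x * g * x⁻¹) * x⁻¹ = g
        rw [C.X_inv hx]
        calc x * (x * (g : H) * x) * x = (x * x) * g * (x * x) := by group
          _ = g := by rw [C.X_sq x hx]; group
      have hy1 : ∀ y (hy : y ∈ X), π (c y hy g) = π g ∨ π (c y hy g) = (π g)⁻¹ →
          (π (c y hy (g * c x hx g)) = π (g * c x hx g) ∨
            π (c y hy (g * c x hx g)) = (π (g * c x hx g))⁻¹) ∧
          (π (c y hy (g * (c x hx g)⁻¹)) = π (g * (c x hx g)⁻¹) ∨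
            π (c y hy (g * (c x hx g)⁻¹)) = (π (g * (c x hx g)⁻¹))⁻¹) := by
        intro y hy hyr
        rcases hyr with h1 | h1
        · have h2 : π (c y hy (c x hx g)) = π (c x hx g) := by
            rw [hcc y hy]; exact hc x hx _ _ h1
          refine ⟨Or.inl ?_, Or.inl ?_⟩
          · rw [map_mul, map_mul, map_mul, h1, h2]
          · rw [map_mul, map_mul, map_mul, map_inv, map_inv, map_inv, h1, h2]
        · have h2 : π (c y hy (c x hx g)) = (π (c x hx g))⁻¹ := by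
            rw [hcc y hy, ← map_inv, ← map_inv]
            refine hc x hx _ _ ?_
            rw [h1, map_inv]
          refine ⟨Or.inr ?_, Or.inr ?_⟩
          · rw [map_mul, map_mul, map_mul, h1, h2, mul_inv]
          · rw [map_mul, map_mul, map_mul, map_inv, map_inv, map_inv, h1, h2, mul_inv]
      have hx1 : π (c x hx (g * c x hx g)) = π (g * c x hx g) := by
        rw [map_mul, map_mul, map_mul, hxx, mul_comm]
      have hx2 : π (c x hx (g * (c x hx g)⁻¹)) = (π (g * (c x hx g)⁻¹))⁻¹ := by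
        rw [map_mul, map_mul, map_mul, map_inv, map_inv, map_inv, hxx, mul_inv, inv_inv, mul_comm]
      by_cases h3 : π (g * c x hx g) ^ 3 = 1
      · refine ⟨g * (c x hx g)⁻¹, ?_, ?_⟩
        · intro h4
          apply hg
          have h5 : π (g ^ 3) ^ 2 = 1 := by
            have h6 : π (g ^ 3) ^ 2 = π (g * c x hx g) ^ 3 * π (g * (c x hx g)⁻¹) ^ 3 := by
              rw [map_pow, map_mul, map_mul, map_inv, ← mul_pow, mul_mul_mul_comm, mul_inv_cancel,
                mul_one, ← pow_mul, ← sq, ← pow_mul]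
            rw [h6, h3, h4, one_mul]
          have h7 := hoddQ _ h5
          rwa [map_pow] at h7
        · intro y hy hyX
          rcases Finset.mem_insert.1 hy with rfl | hyL
          · exact Or.inr hx2
          · exact (hy1 y hyX (hr y hyL hyX)).2
      · refine ⟨g * c x hx g, h3, ?_⟩
        intro y hy hyX
        rcases Finset.mem_insert.1 hy with rfl | hyL
        · exact Or.inl hx1
        · exact (hy1 y hyX (hr y hyL hyX)).1
  by_contra hcon
  push Not at hcon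
  obtain ⟨g, hgB, hg3⟩ := hcon
  have hex : ∃ g : B, π g ^ 3 ≠ 1 := ⟨⟨g, hgB⟩, fun h => hg3 (by
    rw [← map_pow, hπ1] at h
    exact h)⟩
  obtain ⟨g, hg, hr⟩ := key ((Set.toFinite (X : Set H)).toFinset)
    (fun x hx => by simpa using hx) hex
  have hr' : ∀ x (hx : x ∈ X), π (c x hx g) = π g ∨ π (c x hx g) = (π g)⁻¹ :=
    fun x hx => hr x (by simpa using hx) hx
  have hcx : ∀ x (hx : x ∈ X) (g : B), ρ x (ρ g a) = ρ (c x hx g) a := fun x hx g => C.ρ_X_conj hx g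
  have hinv : ∀ x (hx : x ∈ X), ρ x (ρ g a) = ρ g a ∨
      (ρ x (ρ g a) = ρ (g : H)⁻¹ a ∧ ρ x (ρ (g : H)⁻¹ a) = ρ g a) := by
    intro x hx
    rcases hr' x hx with h | h
    · left
      rw [hcx x hx, (hπ _ _).1 h]
    · right
      constructor
      · rw [hcx x hx, (hπ (c x hx g) g⁻¹).1 (by rw [h, map_inv])]
        rfl
      · have h2 := hcx x hx g⁻¹
        rw [(hπ (c x hx g⁻¹) g).1 (by rw [map_inv, map_inv, h, inv_inv])] at h2
        exact h2
  -- the final computation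
  by_cases hall : ∀ x (hx : x ∈ X), ρ x (ρ g a) = ρ g a
  · have h1 := C.fix_of_X hall
    apply hg
    rw [(hπ1 g).2 h1, one_pow]
  · have hv : ∀ x ∈ X, ρ x (ρ g a + ρ (g : H)⁻¹ a) = ρ g a + ρ (g : H)⁻¹ a := by
      intro x hx
      rw [map_add]
      rcases hinv x hx with h | ⟨h, h'⟩
      · have h2 : ρ x (ρ (g : H)⁻¹ a) = ρ (g : H)⁻¹ a := by
          have h3 := hcx x hx g⁻¹
          have h4 : π (c x hx g) = π g := (hπ _ _).2 (by rw [← hcx x hx, h])
          rw [(hπ (c x hx g⁻¹) g⁻¹).1 (by rw [map_inv, map_inv, map_inv, h4])] at h3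
          exact h3
        rw [h, h2]
      · rw [h, h', add_comm]
    rcases C.fix_X hv with h0 | h0
    · -- `g a = g⁻¹ a`
      have h1 : ρ g a = ρ (g : H)⁻¹ a := C.add_eq_zero.1 h0
      apply hg
      have h2 : π g = (π g)⁻¹ := by
        rw [← map_inv, hπ]
        exact h1
      have h3 : π g ^ 2 = 1 := by
        rw [sq]
        nth_rewrite 2 [h2]
        exact mul_inv_cancel _
      rw [hoddQ g h3, one_pow]
    · -- `g a + g⁻¹ a = a`
      apply hg
      rw [← map_pow, hπ1]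
      push_cast
      have h1 := congrArg (ρ (g : H)) h0
      rw [map_add, C.ρ_apply_inv, ← C.ρ_mul] at h1
      -- `g² a + a = g a`
      have h2 := congrArg (ρ (g : H)) h1
      rw [map_add, ← C.ρ_mul, ← C.ρ_mul] at h2
      have h3 : ρ ((g : H) * (g * g)) a + ρ g a + ρ g a = ρ (g * g) a + ρ g a := by rw [h2]
      rw [C.add_add_self, ← h1, ← add_assoc, C.add_self, zero_add] at h3
      rw [pow_succ, sq, mul_assoc]
      exact h3

end

end Cfg

end Cfsg.Agent.Omega.EH3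

end

-- merged: Cfsg.Agent.Mrg.Omega.EH3.Perm
section

section


/-!
# Theorem PERM (bb #12321): orbits with a 2-group transitive on the rest (helper324)

`P` acts on an additive group `V` of exponent 2, `a : V`, `T ≤ P` is a 2-group fixing `a` and transitive on
`Ω ∖ {a}`, `Ω = P a ≠ {a}`.
* `indep`: `Ω ∖ {a}` is linearly independent over `F₂`.
* `sum_orbit`: if `C_V(X) ⊆ {0, a}` for some `X ≤ P` then `∑ Ω = 0`, i.e. `∑ (Ω ∖ {a}) = a`.
* `trans`: if moreover `X` fixes `a` then `X` is transitive on `Ω ∖ {a}`.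
* `card_le`: if moreover `X` is elementary abelian and
  `[V, X, X, X, X] = 0` then `|Ω ∖ {a}| ≤ 8`; if `[Ω ∖ {a}, X, X, X] = 0` then `|Ω ∖ {a}| ≤ 4`.
-/

set_option autoImplicit false

namespace Cfsg.Agent.Omega.EH3.Perm

open scoped Classical symmDiff
open MulAction

variable {P V : Type*} [Group P] [AddCommGroup V] [DistribMulAction P V]

/-- The points different from `a`. -/
def Pts (P : Type*) {V : Type*} [Group P] [AddCommGroup V] [DistribMulAction P V] (a : V) : Set V :=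
  {b | (∃ g : P, g • a = b) ∧ b ≠ a}

/-- The situation of Theorem PERM. -/
structure Sit (T : Subgroup P) (a : V) : Prop where
  two : ∀ v : V, v + v = 0
  pg : IsPGroup 2 T
  fix : ∀ t ∈ T, t • a = a
  tr : ∀ b ∈ Pts P a, ∀ c ∈ Pts P a, ∃ t ∈ T, t • b = c
  mov : ∃ g : P, g • a ≠ a

variable {T : Subgroup P} {a : V}

theorem Sit.ne_zero (h : Sit T a) : a ≠ 0 := by
  rintro rfl
  obtain ⟨g, hg⟩ := h.mov
  exact hg (smul_zero g)

theorem sum_smul (g : P) (S : Finset V) :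
    ∑ b ∈ S.image (fun v => g • v), b = g • ∑ b ∈ S, b := by
  rw [Finset.sum_image, Finset.smul_sum]
  intro x _ y _ hxy
  exact MulAction.injective g hxy

theorem sum_symmDiff (h2 : ∀ v : V, v + v = 0) (S S' : Finset V) :
    ∑ b ∈ S ∆ S', b = ∑ b ∈ S, b + ∑ b ∈ S', b := by
  have h1 : ∑ b ∈ S, b = ∑ b ∈ S \ S', b + ∑ b ∈ S ∩ S', b := by
    rw [← Finset.sum_union (Finset.disjoint_sdiff_inter S S'), Finset.sdiff_union_inter]
  have h3 : ∑ b ∈ S', b = ∑ b ∈ S' \ S, b + ∑ b ∈ S ∩ S', b := by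
    rw [Finset.inter_comm, ← Finset.sum_union (Finset.disjoint_sdiff_inter S' S),
      Finset.sdiff_union_inter]
  have h4 : ∑ b ∈ S ∆ S', b = ∑ b ∈ S \ S', b + ∑ b ∈ S' \ S, b := by
    rw [Finset.symmDiff_def, Finset.sum_union disjoint_sdiff_sdiff]
  rw [h1, h3, h4, add_add_add_comm, h2, add_zero]

theorem smul_mem_Pts (g : P) (hg : g • a = a) {b : V} (hb : b ∈ Pts P a) : g • b ∈ Pts P a := by
  obtain ⟨⟨x, rfl⟩, hx⟩ := hb
  refine ⟨⟨g * x, mul_smul g x a⟩, fun h => hx ?_⟩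
  have h1 : g • x • a = g • a := h.trans hg.symm
  exact MulAction.injective g h1

/-- `∑ Ω` is fixed by `P`. -/
theorem smul_sum_orbit [Finite V] (g : P) :
    g • ∑ b ∈ (orbit P a).toFinite.toFinset, b = ∑ b ∈ (orbit P a).toFinite.toFinset, b := by
  rw [← sum_smul]
  congr 1
  ext b
  simp only [Finset.mem_image, Set.Finite.mem_toFinset]
  constructor
  · rintro ⟨c, hc, rfl⟩
    obtain ⟨x, rfl⟩ := mem_orbit_iff.1 hc
    exact ⟨g * x, mul_smul g x a⟩
  · intro hb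
    obtain ⟨x, rfl⟩ := mem_orbit_iff.1 hb
    refine ⟨g⁻¹ • x • a, ⟨g⁻¹ * x, mul_smul _ x a⟩, smul_inv_smul g _⟩

theorem orbit_eq [Finite V] :
    (orbit P a).toFinite.toFinset = insert a (Pts P a).toFinite.toFinset := by
  ext b
  simp only [Set.Finite.mem_toFinset, Finset.mem_insert]
  constructor
  · intro hb
    obtain ⟨x, rfl⟩ := mem_orbit_iff.1 hb
    by_cases h : x • a = a
    · exact Or.inl h
    · exact Or.inr ⟨⟨x, rfl⟩, h⟩
  · rintro (rfl | ⟨⟨x, rfl⟩, -⟩)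
    · exact mem_orbit_self _
    · exact mem_orbit _ _

theorem sum_orbit_eq [Finite V] :
    ∑ b ∈ (orbit P a).toFinite.toFinset, b = a + ∑ b ∈ (Pts P a).toFinite.toFinset, b := by
  rw [orbit_eq, Finset.sum_insert]
  rw [Set.Finite.mem_toFinset]
  exact fun h => h.2 rfl

/-- **PERM (1)**: `Ω ∖ {a}` is linearly independent. -/
theorem Sit.indep [Finite V] (h : Sit T a) (S : Finset V) (hS : ∀ b ∈ S, b ∈ Pts P a)
    (h0 : ∑ b ∈ S, b = 0) : S = ∅ := by
  by_contra hne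
  let α := {S : Finset V // (∀ b ∈ S, b ∈ Pts P a) ∧ ∑ b ∈ S, b = 0}
  let act : MulAction T α :=
    { smul := fun t S => ⟨S.1.image (fun v => (t : P) • v), by
        intro b hb
        obtain ⟨c, hc, rfl⟩ := Finset.mem_image.1 hb
        exact smul_mem_Pts _ (h.fix t t.2) (S.2.1 c hc), by
        rw [sum_smul, S.2.2, smul_zero]⟩
      one_smul := by
        intro S
        apply Subtype.ext
        show S.1.image (fun v => ((1 : T) : P) • v) = S.1
        simp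
      mul_smul := by
        intro t u S
        apply Subtype.ext
        show S.1.image (fun v => ((t * u : T) : P) • v)
          = (S.1.image (fun v => (u : P) • v)).image (fun v => (t : P) • v)
        rw [Finset.image_image]
        congr 1
        funext v
        simp [mul_smul] }
  have hfin : Finite α := inferInstance
  have : Fintype α := Fintype.ofFinite α
  have heven : 2 ∣ Nat.card α := by
    have h1 : ((Fintype.card α : ℕ) : ZMod 2) = 0 := by
      have := Finset.sum_involution (s := (Finset.univ : Finset α)) (f := fun _ => (1 : ZMod 2))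
        (fun R _ => (⟨R.1 ∆ S, by
          intro b hb
          rcases Finset.mem_symmDiff.1 hb with hb | hb
          · exact R.2.1 b hb.1
          · exact hS b hb.1, by rw [sum_symmDiff h.two, R.2.2, h0, add_zero]⟩ : α))
        (fun _ _ => by decide) (fun R _ _ hR => hne (by
          have : R.1 ∆ S = R.1 := congrArg Subtype.val hR
          have h5 := congrArg (fun X => R.1 ∆ X) this
          simpa [symmDiff_symmDiff_cancel_left] using h5)) (fun _ _ => Finset.mem_univ _)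
        (fun R _ => Subtype.ext (by
          show (R.1 ∆ S) ∆ S = R.1
          rw [symmDiff_assoc, symmDiff_self, symmDiff_bot]))
      simpa using this
    rw [Nat.card_eq_fintype_card]
    exact (ZMod.natCast_eq_zero_iff _ _).1 h1
  have hfix0 : (⟨∅, by simp, by simp⟩ : α) ∈ fixedPoints T α := by
    intro t
    apply Subtype.ext
    show (∅ : Finset V).image (fun v => (t : P) • v) = ∅
    simp
  have : Fact (Nat.Prime 2) := ⟨Nat.prime_two⟩
  obtain ⟨R, hR, hR0⟩ := h.pg.exists_fixed_point_of_prime_dvd_card_of_fixed_point α heven hfix0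
  have hRne : R.1.Nonempty := by
    rw [Finset.nonempty_iff_ne_empty]
    intro he
    exact hR0 (Subtype.ext he.symm)
  obtain ⟨c, hc⟩ := hRne
  have hall : R.1 = (Pts P a).toFinite.toFinset := by
    ext b
    rw [Set.Finite.mem_toFinset]
    refine ⟨R.2.1 b, fun hb => ?_⟩
    obtain ⟨t, ht, rfl⟩ := h.tr c (R.2.1 c hc) b hb
    have h5 : R.1.image (fun v => t • v) = R.1 := congrArg Subtype.val (hR ⟨t, ht⟩)
    rw [← h5]
    exact Finset.mem_image_of_mem _ hc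
  have hsum : ∑ b ∈ (orbit P a).toFinite.toFinset, b = a := by
    rw [sum_orbit_eq, ← hall, R.2.2, add_zero]
  obtain ⟨g, hg⟩ := h.mov
  apply hg
  have := smul_sum_orbit (P := P) (a := a) g
  rwa [hsum] at this

/-- **PERM (2)**: `∑ (Ω ∖ {a}) = a`. -/
theorem Sit.sum_Pts [Finite V] (h : Sit T a) (X : Subgroup P)
    (hX : ∀ v : V, (∀ x ∈ X, x • v = v) → v = 0 ∨ v = a) :
    ∑ b ∈ (Pts P a).toFinite.toFinset, b = a := by
  have h1 := hX _ fun x _ => smul_sum_orbit (P := P) (a := a) x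
  rcases h1 with h1 | h1
  · rw [sum_orbit_eq] at h1
    have h3 := h.two a
    exact (add_left_cancel (h1.trans h3.symm))
  · exfalso
    obtain ⟨g, hg⟩ := h.mov
    apply hg
    have := smul_sum_orbit (P := P) (a := a) g
    rwa [h1] at this

/-- **PERM (3)**: `X` is transitive on `Ω ∖ {a}`. -/
theorem Sit.trans [Finite V] (h : Sit T a) (X : Subgroup P) (hXa : ∀ x ∈ X, x • a = a)
    (hX : ∀ v : V, (∀ x ∈ X, x • v = v) → v = 0 ∨ v = a) {b c : V} (hb : b ∈ Pts P a)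
    (hc : c ∈ Pts P a) : ∃ x ∈ X, x • b = c := by
  let O : Finset V := (orbit X b).toFinite.toFinset
  have hO : ∀ d ∈ O, d ∈ Pts P a := by
    intro d hd
    obtain ⟨x, rfl⟩ := mem_orbit_iff.1 ((Set.Finite.mem_toFinset _).1 hd)
    exact smul_mem_Pts (x : P) (hXa x x.2) hb
  have hbO : b ∈ O := (Set.Finite.mem_toFinset _).2 (mem_orbit_self b)
  have hfix : ∀ x ∈ X, x • ∑ d ∈ O, d = ∑ d ∈ O, d := by
    intro x hx
    rw [← sum_smul]
    congr 1
    ext d
    simp only [Finset.mem_image]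
    constructor
    · rintro ⟨e, he, rfl⟩
      obtain ⟨y, rfl⟩ := mem_orbit_iff.1 ((Set.Finite.mem_toFinset _).1 he)
      exact (Set.Finite.mem_toFinset _).2 ⟨(⟨x, hx⟩ : X) * y, mul_smul _ _ _⟩
    · intro hd
      obtain ⟨y, rfl⟩ := mem_orbit_iff.1 ((Set.Finite.mem_toFinset _).1 hd)
      refine ⟨((⟨x, hx⟩ : X)⁻¹ * y) • b, (Set.Finite.mem_toFinset _).2 (mem_orbit _ _), ?_⟩
      show x • ((⟨x, hx⟩ : X)⁻¹ * y) • b = y • b
      rw [mul_smul]
      exact smul_inv_smul x _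
  rcases hX _ hfix with h1 | h1
  · have := h.indep O hO h1
    rw [this] at hbO
    exact absurd hbO (Finset.notMem_empty b)
  · have h2 : ∑ d ∈ O ∆ (Pts P a).toFinite.toFinset, d = 0 := by
      rw [sum_symmDiff h.two, h1, h.sum_Pts X hX, h.two]
    have h3 := h.indep _ (by
      intro d hd
      rcases Finset.mem_symmDiff.1 hd with hd | hd
      · exact hO d hd.1
      · exact (Set.Finite.mem_toFinset _).1 hd.1) h2
    have h4 : O = (Pts P a).toFinite.toFinset := symmDiff_eq_bot.1 h3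
    have h5 : c ∈ O := by rw [h4]; exact (Set.Finite.mem_toFinset _).2 hc
    obtain ⟨x, hx⟩ := mem_orbit_iff.1 ((Set.Finite.mem_toFinset _).1 h5)
    exact ⟨x, x.2, hx⟩

/-- A block system step: `S` is an orbit of `c` under a subgroup of the elementary abelian group `X`. -/
structure Good (X : Subgroup P) (S : Finset V) (c : V) : Prop where
  mem : c ∈ S
  ex : ∀ s ∈ S, ∃ y ∈ X, y • c = s ∧ ∀ s' ∈ S, y • s' ∈ S

theorem Good.base (X : Subgroup P) (c : V) : Good X {c} c where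
  mem := Finset.mem_singleton_self c
  ex := by
    intro s hs
    rw [Finset.mem_singleton] at hs
    subst hs
    exact ⟨1, X.one_mem, one_smul _ _, fun s' hs' => by rwa [one_smul]⟩

theorem Good.smul_mem {X : Subgroup P} {S : Finset V} {c : V} (hG : Good X S c)
    (hc : ∀ x ∈ X, ∀ y ∈ X, x * y = y * x) {x : P} (hx : x ∈ X)
    (hxc : x • c ∈ S) {s : V} (h : s ∈ S) : x • s ∈ S := by
  obtain ⟨y, hy, hyc, hyS⟩ := hG.ex _ h
  obtain ⟨u, hu, huc, huS⟩ := hG.ex _ hxc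
  -- `x s = x y c = y x c = y u c`
  have : x • s = y • (x • c) := by rw [← hyc, ← mul_smul, hc x hx y hy, mul_smul]
  rw [this]
  exact hyS _ hxc

theorem Good.step {X : Subgroup P} {S : Finset V} {c : V} (hG : Good X S c)
    (hc : ∀ x ∈ X, ∀ y ∈ X, x * y = y * x) (hs : ∀ x ∈ X, x * x = 1) {x : P} (hx : x ∈ X)
    (hxc : x • c ∉ S) : Good X (S ∪ S.image (fun v => x • v)) c ∧
      Disjoint S (S.image (fun v => x • v)) := by
  constructor
  · refine ⟨Finset.mem_union_left _ hG.mem, ?_⟩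
    intro s hs'
    rcases Finset.mem_union.1 hs' with hs1 | hs1
    · obtain ⟨y, hy, hyc, hyS⟩ := hG.ex s hs1
      refine ⟨y, hy, hyc, ?_⟩
      intro t ht
      rcases Finset.mem_union.1 ht with ht | ht
      · exact Finset.mem_union_left _ (hyS t ht)
      · obtain ⟨u, hu, rfl⟩ := Finset.mem_image.1 ht
        refine Finset.mem_union_right _ (Finset.mem_image.2 ⟨y • u, hyS u hu, ?_⟩)
        show x • y • u = y • x • u
        rw [← mul_smul, ← mul_smul, hc x hx y hy]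
    · obtain ⟨s0, hs0, rfl⟩ := Finset.mem_image.1 hs1
      obtain ⟨y, hy, hyc, hyS⟩ := hG.ex s0 hs0
      refine ⟨x * y, X.mul_mem hx hy, by rw [mul_smul, hyc], ?_⟩
      intro t ht
      rcases Finset.mem_union.1 ht with ht | ht
      · exact Finset.mem_union_right _ (Finset.mem_image.2 ⟨y • t, hyS t ht, (mul_smul _ _ _).symm⟩)
      · obtain ⟨u, hu, rfl⟩ := Finset.mem_image.1 ht
        refine Finset.mem_union_left _ ?_
        have : (x * y) • x • u = y • u := by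
          rw [← mul_smul, hc x hx y hy, mul_assoc, hs x hx, mul_one]
        rw [this]
        exact hyS u hu
  · rw [Finset.disjoint_left]
    intro s hsS hs'
    obtain ⟨u, hu, hus⟩ := Finset.mem_image.1 hs'
    obtain ⟨y, hy, hyc, hyS⟩ := hG.ex u hu
    apply hxc
    -- `x c = y⁻¹ x y c = y (x u) = y s`
    have h1 : x • c = y • s := by
      rw [← hus, ← hyc]
      show x • c = y • x • y • c
      rw [← mul_smul x, ← mul_smul y, hc x hx y hy, ← mul_assoc, hs y hy, one_mul]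
    rw [h1]
    exact hyS s hsS

theorem sum_step {S : Finset V} {x : P}
    (hd : Disjoint S (S.image (fun v => x • v))) :
    ∑ b ∈ S ∪ S.image (fun v => x • v), b = ∑ b ∈ S, b + x • ∑ b ∈ S, b := by
  rw [Finset.sum_union hd, sum_smul]

/-- `(1 + x) v` -/
def dl (x : P) (v : V) : V := v + x • v

/-- **PERM (4)**: growing the orbit. -/
theorem Sit.grow [Finite V] (h : Sit T a) (X : Subgroup P) (hXa : ∀ x ∈ X, x • a = a)
    (hX : ∀ v : V, (∀ x ∈ X, x • v = v) → v = 0 ∨ v = a)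
    (hc : ∀ x ∈ X, ∀ y ∈ X, x * y = y * x) (hs : ∀ x ∈ X, x * x = 1) {c : V} (hcP : c ∈ Pts P a)
    {S : Finset V} (hG : Good X S c) (hS : ∀ b ∈ S, b ∈ Pts P a)
    (hlt : S.card < (Pts P a).ncard) :
    ∃ x ∈ X, ∃ S' : Finset V, Good X S' c ∧ (∀ b ∈ S', b ∈ Pts P a) ∧ S'.card = 2 * S.card ∧
      ∑ b ∈ S', b = dl x (∑ b ∈ S, b) := by
  have h1 : ∃ d ∈ Pts P a, d ∉ S := by
    by_contra h2
    push Not at h2
    have h3 : (Pts P a).ncard ≤ S.card := by
      rw [← Set.ncard_coe_finset S]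
      exact Set.ncard_le_ncard h2 S.finite_toSet
    omega
  obtain ⟨d, hd, hdS⟩ := h1
  obtain ⟨x, hx, rfl⟩ := h.trans X hXa hX hcP hd
  obtain ⟨hG', hdis⟩ := hG.step hc hs hx hdS
  refine ⟨x, hx, _, hG', ?_, ?_, sum_step hdis⟩
  · intro b hb
    rcases Finset.mem_union.1 hb with hb | hb
    · exact hS b hb
    · obtain ⟨u, hu, rfl⟩ := Finset.mem_image.1 hb
      exact smul_mem_Pts x (hXa x hx) (hS u hu)
  · rw [Finset.card_union_of_disjoint hdis, Finset.card_image_of_injective _ (MulAction.injective x)]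
    omega

/-- **PERM (5)**: `[V, X, X, X, X] = 0` implies `|Ω ∖ {a}| ≤ 8`. -/
theorem Sit.card_le_eight [Finite V] (h : Sit T a) (X : Subgroup P) (hXa : ∀ x ∈ X, x • a = a)
    (hX : ∀ v : V, (∀ x ∈ X, x • v = v) → v = 0 ∨ v = a)
    (hc : ∀ x ∈ X, ∀ y ∈ X, x * y = y * x) (hs : ∀ x ∈ X, x * x = 1)
    (h4 : ∀ x₁ ∈ X, ∀ x₂ ∈ X, ∀ x₃ ∈ X, ∀ x₄ ∈ X, ∀ v ∈ Pts P a,
      dl x₄ (dl x₃ (dl x₂ (dl x₁ v))) = 0) : (Pts P a).ncard ≤ 8 := by
  by_contra hgt
  push Not at hgt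
  obtain ⟨g, hg⟩ := h.mov
  have hcP : g • a ∈ Pts P a := ⟨⟨g, rfl⟩, hg⟩
  have hS0 : ∀ b ∈ ({g • a} : Finset V), b ∈ Pts P a := by
    intro b hb
    rw [Finset.mem_singleton] at hb
    rwa [hb]
  obtain ⟨x₁, hx₁, S₁, g₁, p₁, c₁, s₁⟩ := h.grow X hXa hX hc hs hcP (Good.base X _) hS0
    (by rw [Finset.card_singleton]; omega)
  rw [Finset.card_singleton] at c₁
  obtain ⟨x₂, hx₂, S₂, g₂, p₂, c₂, s₂⟩ := h.grow X hXa hX hc hs hcP g₁ p₁ (by omega)
  obtain ⟨x₃, hx₃, S₃, g₃, p₃, c₃, s₃⟩ := h.grow X hXa hX hc hs hcP g₂ p₂ (by omega)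
  obtain ⟨x₄, hx₄, S₄, g₄, p₄, c₄, s₄⟩ := h.grow X hXa hX hc hs hcP g₃ p₃ (by omega)
  have h5 := h4 x₁ hx₁ x₂ hx₂ x₃ hx₃ x₄ hx₄ (g • a) hcP
  rw [s₃, s₂, s₁, Finset.sum_singleton, h5] at s₄
  have := h.indep S₄ p₄ s₄
  rw [this, Finset.card_empty] at c₄
  omega

/-- **PERM (6)**: `[Ω ∖ {a}, X, X, X] = 0` implies `|Ω ∖ {a}| ≤ 4`. -/
theorem Sit.card_le_four [Finite V] (h : Sit T a) (X : Subgroup P) (hXa : ∀ x ∈ X, x • a = a)
    (hX : ∀ v : V, (∀ x ∈ X, x • v = v) → v = 0 ∨ v = a)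
    (hc : ∀ x ∈ X, ∀ y ∈ X, x * y = y * x) (hs : ∀ x ∈ X, x * x = 1)
    (h3 : ∀ x₁ ∈ X, ∀ x₂ ∈ X, ∀ x₃ ∈ X, ∀ v ∈ Pts P a, dl x₃ (dl x₂ (dl x₁ v)) = 0) :
    (Pts P a).ncard ≤ 4 := by
  by_contra hgt
  push Not at hgt
  obtain ⟨g, hg⟩ := h.mov
  have hcP : g • a ∈ Pts P a := ⟨⟨g, rfl⟩, hg⟩
  have hS0 : ∀ b ∈ ({g • a} : Finset V), b ∈ Pts P a := by
    intro b hb
    rw [Finset.mem_singleton] at hb
    rwa [hb]
  obtain ⟨x₁, hx₁, S₁, g₁, p₁, c₁, s₁⟩ := h.grow X hXa hX hc hs hcP (Good.base X _) hS0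
    (by rw [Finset.card_singleton]; omega)
  rw [Finset.card_singleton] at c₁
  obtain ⟨x₂, hx₂, S₂, g₂, p₂, c₂, s₂⟩ := h.grow X hXa hX hc hs hcP g₁ p₁ (by omega)
  obtain ⟨x₃, hx₃, S₃, g₃, p₃, c₃, s₃⟩ := h.grow X hXa hX hc hs hcP g₂ p₂ (by omega)
  have h5 := h3 x₁ hx₁ x₂ hx₂ x₃ hx₃ (g • a) hcP
  rw [s₂, s₁, Finset.sum_singleton, h5] at s₃
  have := h.indep S₃ p₃ s₃
  rw [this, Finset.card_empty] at c₃
  omega

/-- `|Ω ∖ {a}|` is a power of 2 (a 2-group is transitive on it), different from 1 if `∑ Ω = 0`. -/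
theorem Sit.one_lt_card [Finite V] (h : Sit T a) (X : Subgroup P)
    (hX : ∀ v : V, (∀ x ∈ X, x • v = v) → v = 0 ∨ v = a) : 1 < (Pts P a).ncard := by
  obtain ⟨g, hg⟩ := h.mov
  have hcP : g • a ∈ Pts P a := ⟨⟨g, rfl⟩, hg⟩
  by_contra hle
  push Not at hle
  have h1 : (Pts P a).toFinite.toFinset = {g • a} := by
    have h2 : ∀ {x y : V}, x ∈ Pts P a → y ∈ Pts P a → x = y :=
      (Set.ncard_le_one_iff (Set.toFinite _)).1 hle
    ext b
    rw [Set.Finite.mem_toFinset, Finset.mem_singleton]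
    exact ⟨fun hb => h2 hb hcP, fun hb => hb ▸ hcP⟩
  have h2 := h.sum_Pts X hX
  rw [h1, Finset.sum_singleton] at h2
  exact hg h2

end Cfsg.Agent.Omega.EH3.Perm

end

section


/-!
# LEMMA NODE (blueprint OMEGA-FF2b-helper796, (2))

`E ≤ H` normalised by `X`, `T ≤ E` a 2-group fixing `a`, normalised by `X`, `B = N_E(T)`.

* `perm_four` : if `T` is transitive on `a^E ∖ {a}`, then `|a^E ∖ {a}| ≤ 4`;
* `Pre E T O` : `T` is transitive on `E/B ∖ {B}` and the kernel of `E` on `E/B` is `O ≤ T`;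
* `Pre.fixB` : if `T/O` is abelian and centralised by `X`, then `B` fixes `a`;
* `Pre.fixE` : if `B` fixes `a` and `|E : B| > 5`, then `E` fixes `a`.
-/

set_option autoImplicit false

namespace Cfsg.Agent.Omega.EH3

open Subgroup

namespace Cfg

variable {H V : Type*} [Group H] [AddCommGroup V] [Module (ZMod 2) V]
  {ρ : H →* (V ≃ₗ[ZMod 2] V)} {b : LinearMap.BilinForm (ZMod 2) V} {q : V → ZMod 2}
  {a : V} {D : Submodule (ZMod 2) V} {X : Subgroup H} {w : ℕ}

/-- `E X` for `X` normalising `E` -/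
def EX (E X : Subgroup H) (h : ∀ x ∈ X, ∀ e ∈ E, x * e * x⁻¹ ∈ E) : Subgroup H where
  carrier := {g | ∃ e ∈ E, ∃ x ∈ X, g = e * x}
  one_mem' := ⟨1, E.one_mem, 1, X.one_mem, by simp⟩
  mul_mem' := by
    rintro _ _ ⟨e, he, x, hx, rfl⟩ ⟨f, hf, y, hy, rfl⟩
    exact ⟨e * (x * f * x⁻¹), E.mul_mem he (h x hx f hf), x * y, X.mul_mem hx hy, by group⟩
  inv_mem' := by
    rintro _ ⟨e, he, x, hx, rfl⟩
    refine ⟨x⁻¹ * e⁻¹ * x, ?_, x⁻¹, X.inv_mem hx, by group⟩
    have := h x⁻¹ (X.inv_mem hx) e⁻¹ (E.inv_mem he)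
    rwa [inv_inv] at this

/-- the points of `E` different from `a` -/
def PtsE (ρ : H →* (V ≃ₗ[ZMod 2] V)) (a : V) (E : Subgroup H) : Set V :=
  {v | (∃ g ∈ E, ρ g a = v) ∧ v ≠ a}

theorem perp_three (C : Cfg ρ b q a D X w) {x y z : H} (hx : x ∈ X) (hy : y ∈ X) (hz : z ∈ X)
    {v : V} (hv : b a v = 0) :
    (v + ρ x v) + ρ y (v + ρ x v) + ρ z ((v + ρ x v) + ρ y (v + ρ x v)) = 0 := by
  have h1 : v + ρ x v ∈ D := by rw [add_comm]; exact C.X_perp x hx v hv
  have h2 : (v + ρ x v) + ρ y (v + ρ x v) = 0 ∨ (v + ρ x v) + ρ y (v + ρ x v) = a := by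
    rcases C.X_D y hy _ h1 with h | h
    · left; rw [h, C.add_self]
    · right; rw [h, ← add_assoc, C.add_self, zero_add]
  rcases h2 with h | h
  · rw [h, map_zero, add_zero]
  · rw [h, C.X_a hz, C.add_self]

/-- **PERM on `Cfg`.** -/
theorem perm_four (C : Cfg ρ b q a D X w) {E T : Subgroup H}
    (hXE : ∀ x ∈ X, ∀ e ∈ E, x * e * x⁻¹ ∈ E) (hT2 : IsPGroup 2 T) (hTE : T ≤ E)
    (hTa : ∀ t ∈ T, ρ t a = a)
    (tr : ∀ g ∈ E, ∀ h ∈ E, ρ g a ≠ a → ρ h a ≠ a → ∃ t ∈ T, ρ (t * g) a = ρ h a) :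
    (PtsE ρ a E).ncard ≤ 4 := by
  classical
  have := C.finite_V
  by_cases hmov : ∃ g ∈ E, ρ g a ≠ a
  swap
  · push Not at hmov
    have : PtsE ρ a E = ∅ := by
      ext v
      simp only [PtsE, Set.mem_ofPred_eq, Set.mem_empty_iff_false, iff_false, not_and, not_not]
      rintro ⟨g, hg, rfl⟩
      exact hmov g hg
    rw [this, Set.ncard_empty]
    omega
  let P : Subgroup H := EX E X hXE
  let act : DistribMulAction P V :=
    { smul := fun g v => ρ g v
      one_smul := fun v => C.ρ_one v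
      mul_smul := fun g h v => C.ρ_mul g h v
      smul_zero := fun g => map_zero _
      smul_add := fun g u v => map_add _ u v }
  have hsm : ∀ (g : P) (v : V), g • v = ρ g v := fun _ _ => rfl
  have hTP : T ≤ P := fun t ht => ⟨t, hTE ht, 1, X.one_mem, by simp⟩
  have hXP : X ≤ P := fun x hx => ⟨1, E.one_mem, x, hx, by simp⟩
  let T' : Subgroup P := T.subgroupOf P
  let X' : Subgroup P := X.subgroupOf P
  have hP : ∀ g : P, ∃ e ∈ E, ρ g a = ρ e a := by
    rintro ⟨_, e, he, x, hx, rfl⟩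
    exact ⟨e, he, by show ρ (e * x) a = ρ e a; rw [C.ρ_mul, C.X_a hx]⟩
  have hPts : Perm.Pts P a = PtsE ρ a E := by
    ext v
    simp only [Perm.Pts, PtsE, Set.mem_ofPred_eq]
    constructor
    · rintro ⟨⟨g, hg⟩, hv⟩
      obtain ⟨e, he, hge⟩ := hP g
      exact ⟨⟨e, he, by rw [← hge, ← hg]; rfl⟩, hv⟩
    · rintro ⟨⟨g, hg, hgv⟩, hv⟩
      exact ⟨⟨⟨g, ⟨g, hg, 1, X.one_mem, by simp⟩⟩, hgv⟩, hv⟩
  have hT2' : IsPGroup 2 T' := by
    rintro ⟨t, ht⟩
    obtain ⟨k, hk⟩ := hT2 ⟨t.1, ht⟩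
    refine ⟨k, Subtype.ext (Subtype.ext ?_)⟩
    have := congrArg Subtype.val hk
    simpa using this
  have hS : Perm.Sit T' a :=
    { two := C.add_self
      pg := hT2'
      fix := fun t ht => hTa t ht
      tr := by
        intro u hu v hv
        rw [hPts] at hu hv
        obtain ⟨⟨g, hg, rfl⟩, hga⟩ := hu
        obtain ⟨⟨h, hh, rfl⟩, hha⟩ := hv
        obtain ⟨t, ht, hte⟩ := tr g hg h hh hga hha
        refine ⟨⟨t, hTP ht⟩, ht, ?_⟩
        show ρ t (ρ g a) = ρ h a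
        rw [← C.ρ_mul, hte]
      mov := by
        obtain ⟨g, hg, hga⟩ := hmov
        exact ⟨⟨g, ⟨g, hg, 1, X.one_mem, by simp⟩⟩, hga⟩ }
  have hXa : ∀ x ∈ X', x • a = a := fun x hx => C.X_a hx
  have hXf : ∀ v : V, (∀ x ∈ X', x • v = v) → v = 0 ∨ v = a := by
    intro v hv
    exact C.fix_X fun x hx => hv ⟨x, hXP hx⟩ hx
  have hXc : ∀ x ∈ X', ∀ y ∈ X', x * y = y * x := fun x hx y hy => Subtype.ext (C.X_comm hx hy)
  have hXs : ∀ x ∈ X', x * x = 1 := fun x hx => Subtype.ext (C.X_sq _ hx)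
  rw [← hPts]
  by_cases hperp : ∀ v ∈ Perm.Pts P a, b a v = 0
  · refine hS.card_le_four X' hXa hXf hXc hXs ?_
    intro x hx y hy z hz v hv
    exact C.perp_three hx hy hz (hperp v hv)
  · exfalso
    push Not at hperp
    obtain ⟨v, hv, hbv⟩ := hperp
    have hbv1 : b a v = 1 := zmod_two_ne hbv
    have h8 := hS.card_le_eight X' hXa hXf hXc hXs (by
      intro x hx y hy z hz u hu v _
      refine C.perp_three hy hz hu ?_
      show b a (v + ρ x v) = 0
      rw [add_comm]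
      exact C.b_a_delta (C.X_a hx) v)
    let W : Submodule (ZMod 2) V := Submodule.span (ZMod 2) (MulAction.orbit P a)
    have hWX : ∀ x ∈ X, ∀ u ∈ W, ρ x u ∈ W := by
      intro x hx u hu
      refine Submodule.span_induction (p := fun u _ => ρ x u ∈ W) ?_ ?_ ?_ ?_ hu
      · rintro _ ⟨g, rfl⟩
        exact Submodule.subset_span ⟨⟨x, hXP hx⟩ * g, C.ρ_mul x g a⟩
      · rw [map_zero]; exact W.zero_mem
      · intro y z _ _ hy hz
        rw [map_add]; exact W.add_mem hy hz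
      · intro c y _ hy
        rw [map_smul]; exact W.smul_mem c hy
    have hvW : v ∈ W := by
      obtain ⟨⟨g, hg⟩, _⟩ := hv
      exact Submodule.subset_span ⟨g, hg⟩
    have htop : W = ⊤ := C.eq_top_of_off hWX hbv1 hvW
    have h9 : (MulAction.orbit P a).ncard ≤ 9 := by
      have h1 : MulAction.orbit P a ⊆ insert a (Perm.Pts P a) := by
        rintro _ ⟨g, rfl⟩
        by_cases h : g • a = a
        · exact Or.inl h
        · exact Or.inr ⟨⟨g, rfl⟩, h⟩
      have h2 := Set.ncard_le_ncard h1 (Set.toFinite _)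
      have h3 := Set.ncard_insert_le a (Perm.Pts P a)
      omega
    have hfd : Module.Finite (ZMod 2) V := Module.Finite.of_finite
    have h10 : Module.finrank (ZMod 2) V ≤ 9 := by
      have h1 : Module.finrank (ZMod 2) W ≤ (MulAction.orbit P a).toFinite.toFinset.card := by
        have h2 := finrank_span_finset_le_card (R := ZMod 2) (MulAction.orbit P a).toFinite.toFinset
        rwa [Set.Finite.coe_toFinset] at h2
      rw [htop, finrank_top, ← Set.ncard_eq_toFinset_card] at h1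
      omega
    have h11 : Nat.card V = 2 ^ Module.finrank (ZMod 2) V := by
      rw [Module.natCard_eq_pow_finrank (K := ZMod 2), Nat.card_zmod]
    rw [C.card_V] at h11
    have h12 := Nat.pow_right_injective (le_refl 2) h11
    have := C.five
    omega

end Cfg

/-- The rank one situation: `B = N_E(T)`, `T` transitive on `E/B ∖ {B}`, kernel `O ≤ T` of the action on `E/B`. -/
structure Pre {H : Type*} [Group H] (E T O : Subgroup H) : Prop where
  T_le : T ≤ E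
  O_le : O ≤ T
  two : IsPGroup 2 T
  norm : ∀ g ∈ E, ∀ o ∈ O, g * o * g⁻¹ ∈ O
  trans : ∀ g ∈ E, g ∉ normalizer (T : Set H) → ∀ h ∈ E, h ∉ normalizer (T : Set H) →
    ∃ t ∈ T, (t * g)⁻¹ * h ∈ normalizer (T : Set H)
  core : ∀ g ∈ E, (∀ h ∈ E, h⁻¹ * g * h ∈ normalizer (T : Set H)) → g ∈ O

/-- The conditions on `X`, `T`, `E`. -/
structure XCond {H V : Type*} [Group H] [AddCommGroup V] [Module (ZMod 2) V]
    (ρ : H →* (V ≃ₗ[ZMod 2] V)) (a : V) (X E T : Subgroup H) : Prop where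
  XE : ∀ x ∈ X, ∀ e ∈ E, x * e * x⁻¹ ∈ E
  XT : ∀ x ∈ X, ∀ t ∈ T, x * t * x⁻¹ ∈ T
  Ta : ∀ t ∈ T, ρ t a = a

namespace Pre

variable {H V : Type*} [Group H] [AddCommGroup V] [Module (ZMod 2) V]
  {ρ : H →* (V ≃ₗ[ZMod 2] V)} {b : LinearMap.BilinForm (ZMod 2) V} {q : V → ZMod 2}
  {a : V} {D : Submodule (ZMod 2) V} {X : Subgroup H} {w : ℕ} {E T O : Subgroup H}

theorem T_le_N : T ≤ normalizer (T : Set H) := le_normalizer

theorem mem_T_conj {g t : H} (hg : g ∈ normalizer (T : Set H)) (ht : t ∈ T) : g * t * g⁻¹ ∈ T :=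
  (mem_normalizer_iff.1 hg t).1 ht

theorem mem_T_conj' {g t : H} (hg : g ∈ normalizer (T : Set H)) (ht : t ∈ T) : g⁻¹ * t * g ∈ T := by
  have := mem_T_conj (T := T) (inv_mem hg) ht
  rwa [inv_inv] at this

theorem norm' (h : Pre E T O) {g o : H} (hg : g ∈ E) (ho : o ∈ O) : g⁻¹ * o * g ∈ O := by
  have := h.norm g⁻¹ (E.inv_mem hg) o ho
  rwa [inv_inv] at this

theorem X_le_N (C : Cfg ρ b q a D X w) (hx : XCond ρ a X E T) : X ≤ normalizer (T : Set H) := by
  intro x hxX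
  rw [mem_normalizer_iff]
  intro t
  refine ⟨fun ht => hx.XT x hxX t ht, fun ht => ?_⟩
  have := hx.XT x hxX _ ht
  rw [C.X_inv hxX] at this
  have h2 : x * (x * t * x) * x = t := by
    calc x * (x * t * x) * x = (x * x) * t * (x * x) := by group
      _ = t := by rw [C.X_sq x hxX]; group
  rwa [h2] at this

/-- `O` is normalised by everything normalising `E` and `T` -/
theorem norm_of (h : Pre E T O) {x : H} (hxE : ∀ e ∈ E, x * e * x⁻¹ ∈ E) (hxE' : ∀ e ∈ E, x⁻¹ * e * x ∈ E)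
    (hxN : x ∈ normalizer (T : Set H)) {o : H} (ho : o ∈ O) : x * o * x⁻¹ ∈ O := by
  refine h.core _ (hxE o (h.T_le (h.O_le ho))) fun e he => ?_
  have h1 : e⁻¹ * (x * o * x⁻¹) * e = x * ((x⁻¹ * e * x)⁻¹ * o * (x⁻¹ * e * x)) * x⁻¹ := by group
  rw [h1]
  exact mul_mem (mul_mem hxN (T_le_N (h.O_le (h.norm' (hxE' e he) ho)))) (inv_mem hxN)

theorem XE' (C : Cfg ρ b q a D X w) (hx : XCond ρ a X E T) {x : H} (hxX : x ∈ X) :
    ∀ e ∈ E, x⁻¹ * e * x ∈ E := by
  intro e he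
  have := hx.XE x⁻¹ (X.inv_mem hxX) e he
  rwa [inv_inv] at this

/-- one element `e ∈ E ∖ B` fixing `a` suffices if `B` fixes `a` -/
theorem fix_all (C : Cfg ρ b q a D X w) (h : Pre E T O) (hx : XCond ρ a X E T)
    (hB : ∀ g ∈ E, g ∈ normalizer (T : Set H) → ρ g a = a) {e : H} (he : e ∈ E)
    (heN : e ∉ normalizer (T : Set H)) (hea : ρ e a = a) : ∀ g ∈ E, ρ g a = a := by
  intro g hg
  by_cases hgN : g ∈ normalizer (T : Set H)
  · exact hB g hg hgN
  obtain ⟨t, ht, hn⟩ := h.trans e he heN g hg hgN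
  have h1 : g = t * e * ((t * e)⁻¹ * g) := by group
  have h2 := hB _ (E.mul_mem (E.inv_mem (E.mul_mem (h.T_le ht) he)) hg) hn
  rw [h1, C.ρ_mul, h2, C.ρ_mul, hea, hx.Ta t ht]

/-- **fixE.** -/
theorem fixE (C : Cfg ρ b q a D X w) (h : Pre E T O) (hx : XCond ρ a X E T)
    (hB : ∀ g ∈ E, g ∈ normalizer (T : Set H) → ρ g a = a)
    (hcard : 5 < (normalizer (T : Set H)).relIndex E) : ∀ g ∈ E, ρ g a = a := by
  classical
  have := C.finite_V
  have := C.finite_H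
  by_contra hcon
  push Not at hcon
  obtain ⟨g0, hg0, hga0⟩ := hcon
  -- `C_E(a) = B`
  have hstab : ∀ g ∈ E, ρ g a = a → g ∈ normalizer (T : Set H) := by
    intro g hg hga
    by_contra hgN
    exact hga0 (fix_all C h hx hB hg hgN hga g0 hg0)
  have h4 := C.perm_four hx.XE h.two h.T_le hx.Ta (by
    intro g hg k hk hga hka
    obtain ⟨t, ht, hn⟩ := h.trans g hg (fun hgN => hga (hB g hg hgN)) k hk
      (fun hkN => hka (hB k hk hkN))
    refine ⟨t, ht, ?_⟩
    have h1 : t * g * ((t * g)⁻¹ * k) = k := by group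
    have h2 := hB _ (E.mul_mem (E.inv_mem (E.mul_mem (h.T_le ht) hg)) hk) hn
    calc ρ (t * g) a = ρ (t * g) (ρ ((t * g)⁻¹ * k) a) := by rw [h2]
      _ = ρ k a := by rw [← C.ρ_mul, h1])
  -- the number of points
  let Ω : Set V := {v | ∃ g ∈ E, ρ g a = v}
  have hΩ : Ω = insert a (Cfg.PtsE ρ a E) := by
    ext v
    constructor
    · rintro ⟨g, hg, rfl⟩
      by_cases hga : ρ g a = a
      · exact Or.inl hga
      · exact Or.inr ⟨⟨g, hg, rfl⟩, hga⟩
    · rintro (rfl | ⟨⟨g, hg, hgv⟩, -⟩)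
      · exact ⟨1, E.one_mem, C.ρ_one _⟩
      · exact ⟨g, hg, hgv⟩
  have hle : Ω.ncard ≤ 5 := by
    rw [hΩ]
    exact (Set.ncard_insert_le _ _).trans (by omega)
  have hge : (normalizer (T : Set H)).relIndex E ≤ Ω.ncard := by
    rw [Subgroup.relIndex, Subgroup.index, ← Nat.card_coe_set_eq]
    refine Nat.card_le_card_of_injective
      (fun x : E ⧸ (normalizer (T : Set H)).subgroupOf E =>
        (⟨ρ ((Quotient.out x : E) : H) a, ((Quotient.out x : E) : H), (Quotient.out x).2, rfl⟩ : Ω)) ?_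
    intro x y hxy
    have h1 : ρ ((Quotient.out x : E) : H) a = ρ ((Quotient.out y : E) : H) a := congrArg Subtype.val hxy
    have h2 : ρ (((Quotient.out x : E) : H)⁻¹ * ((Quotient.out y : E) : H)) a = a := by
      rw [C.ρ_mul, ← h1, C.ρ_inv_apply]
    have h3 := hstab _ (E.mul_mem (E.inv_mem (Quotient.out x).2) (Quotient.out y).2) h2
    have h4 : (QuotientGroup.mk (Quotient.out x) : E ⧸ (normalizer (T : Set H)).subgroupOf E)
        = QuotientGroup.mk (Quotient.out y) := by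
      rw [QuotientGroup.eq]
      exact h3
    have h5 : ∀ z : E ⧸ (normalizer (T : Set H)).subgroupOf E,
        (QuotientGroup.mk (Quotient.out z) : E ⧸ (normalizer (T : Set H)).subgroupOf E) = z :=
      fun z => Quotient.out_eq z
    rw [h5, h5] at h4
    exact h4
  omega

/-- **fixB.** -/
theorem fixB (C : Cfg ρ b q a D X w) (h : Pre E T O) (hx : XCond ρ a X E T)
    (habel : ∀ s ∈ T, ∀ t ∈ T, s * t * s⁻¹ * t⁻¹ ∈ O)
    (hcent : ∀ x ∈ X, ∀ t ∈ T, x * t * x⁻¹ * t⁻¹ ∈ O) :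
    ∀ g ∈ E, g ∈ normalizer (T : Set H) → ρ g a = a := by
  intro g hg hgN
  have hXN := X_le_N C hx
  by_cases hall : ∀ e ∈ E, e ∈ normalizer (T : Set H)
  · refine hx.Ta g (h.O_le (h.core g hg fun k hk => ?_))
    exact mul_mem (mul_mem (inv_mem (hall k hk)) hgN) (hall k hk)
  push Not at hall
  obtain ⟨g0, hg0, hg0N⟩ := hall
  refine C.fix_of_cent fun x hxX => ?_
  have hxN := hXN hxX
  have hx0N : x * g0 * x⁻¹ ∉ normalizer (T : Set H) := by
    intro hcon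
    apply hg0N
    have : g0 = x⁻¹ * (x * g0 * x⁻¹) * x := by group
    rw [this]
    exact mul_mem (mul_mem (inv_mem hxN) hcon) hxN
  obtain ⟨t, ht, hn⟩ := h.trans g0 hg0 hg0N _ (hx.XE x hxX g0 hg0) hx0N
  -- `y = t⁻¹ x` acts trivially on the points
  obtain ⟨y, hy⟩ : ∃ y, y = t⁻¹ * x := ⟨_, rfl⟩
  have htN : t ∈ normalizer (T : Set H) := T_le_N ht
  have hyN : y ∈ normalizer (T : Set H) := by rw [hy]; exact mul_mem (inv_mem htN) hxN
  have hyE : ∀ e ∈ E, y * e * y⁻¹ ∈ E := by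
    intro e he
    have h1 : y * e * y⁻¹ = t⁻¹ * (x * e * x⁻¹) * t := by rw [hy]; group
    rw [h1]
    exact E.mul_mem (E.mul_mem (E.inv_mem (h.T_le ht)) (hx.XE x hxX e he)) (h.T_le ht)
  have hyE' : ∀ e ∈ E, y⁻¹ * e * y ∈ E := by
    intro e he
    have h1 : y⁻¹ * e * y = x⁻¹ * (t * e * t⁻¹) * x := by rw [hy]; group
    rw [h1]
    exact XE' C hx hxX _ (E.mul_mem (E.mul_mem (h.T_le ht) he) (E.inv_mem (h.T_le ht)))
  have hnormy : ∀ o ∈ O, y * o * y⁻¹ ∈ O := fun o ho => h.norm_of hyE hyE' hyN ho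
  -- `[y, T] ≤ O`
  have hyT : ∀ s ∈ T, ∃ o ∈ O, y * s * y⁻¹ = o * s := by
    intro s hs
    refine ⟨y * s * y⁻¹ * s⁻¹, ?_, by group⟩
    have h1 : y * s * y⁻¹ * s⁻¹ = (t⁻¹ * (x * s * x⁻¹ * s⁻¹) * t) * (t⁻¹ * s * t * s⁻¹) := by
      rw [hy]; group
    rw [h1]
    refine O.mul_mem (h.norm' (h.T_le ht) (hcent x hxX s hs)) ?_
    have := habel t⁻¹ (T.inv_mem ht) s hs
    rwa [inv_inv] at this
  have claim0 : y * g0 * y⁻¹ ∈ {k | g0⁻¹ * k ∈ normalizer (T : Set H)} := by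
    show g0⁻¹ * (y * g0 * y⁻¹) ∈ normalizer (T : Set H)
    have h1 : g0⁻¹ * (y * g0 * y⁻¹) = ((t * g0)⁻¹ * (x * g0 * x⁻¹)) * t := by rw [hy]; group
    rw [h1]
    exact mul_mem hn htN
  have claim : ∀ k ∈ E, k⁻¹ * (y * k * y⁻¹) ∈ normalizer (T : Set H) := by
    intro k hk
    by_cases hkN : k ∈ normalizer (T : Set H)
    · exact mul_mem (inv_mem hkN) (mul_mem (mul_mem hyN hkN) (inv_mem hyN))
    obtain ⟨s, hs, hn1⟩ := h.trans g0 hg0 hg0N k hk hkN
    obtain ⟨n, hn'⟩ : ∃ n, n = (s * g0)⁻¹ * k := ⟨_, rfl⟩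
    rw [← hn'] at hn1
    have hk1 : k = s * g0 * n := by rw [hn']; group
    obtain ⟨o, ho, hos⟩ := hyT s hs
    have h1 : k⁻¹ * (y * k * y⁻¹)
        = n⁻¹ * (g0⁻¹ * (s⁻¹ * o * s) * g0) * (g0⁻¹ * (y * g0 * y⁻¹)) * (y * n * y⁻¹) := by
      have h2 : y * k * y⁻¹ = (y * s * y⁻¹) * (y * g0 * y⁻¹) * (y * n * y⁻¹) := by rw [hk1]; group
      rw [h2, hos, hk1]
      group
    rw [h1]
    refine mul_mem (mul_mem (mul_mem (inv_mem hn1) ?_) claim0) (mul_mem (mul_mem hyN hn1) (inv_mem hyN))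
    exact T_le_N (h.O_le (h.norm' hg0 (h.norm' (h.T_le hs) ho)))
  -- `[y, g] ∈ O`
  have hm : y * g * y⁻¹ * g⁻¹ ∈ O := by
    refine h.core _ (E.mul_mem (hyE g hg) (E.inv_mem hg)) fun k hk => ?_
    have hk1 : g⁻¹ * k ∈ E := E.mul_mem (E.inv_mem hg) hk
    have h2 := claim _ (hyE' _ hk1)
    have h3 := claim k hk
    have h4 : k⁻¹ * (y * g * y⁻¹ * g⁻¹) * k
        = (k⁻¹ * (y * k * y⁻¹)) * (y * (((y⁻¹ * (g⁻¹ * k) * y)⁻¹ * (y * (y⁻¹ * (g⁻¹ * k) * y) * y⁻¹))⁻¹) * y⁻¹) := by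
      group
    rw [h4]
    exact mul_mem h3 (mul_mem (mul_mem hyN (inv_mem h2)) (inv_mem hyN))
  -- `x g x⁻¹ ∈ T g`
  have h5 : x * g * x⁻¹ = g * (g⁻¹ * (t * (y * g * y⁻¹ * g⁻¹)) * g * t⁻¹) := by rw [hy]; group
  rw [h5, C.ρ_mul]
  congr 1
  refine hx.Ta _ (T.mul_mem ?_ (T.inv_mem ht))
  exact mem_T_conj' hgN (T.mul_mem ht (h.O_le hm))

end Pre

end Cfsg.Agent.Omega.EH3

end

section


/-!
# LEMMA NODE for `L₂(q)`-nodes (blueprint OMEGA-FF2b-helper796, (2))

`NodeL E T O φ c lam` : `E/O` looks like `L₂(F)`: `T/O ≅ (F, +)` through `φ`, `N_E(T) = T⟨c⟩`, `c` acts on `T/O` as the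
generator `lam` of `Fˣ`.

* `NodeL.cent` : `X` centralises `T/O` if `|F| ≥ 8`;
* `NodeL.fix` : `E` fixes `a` if `|F| ≥ 8`.
-/

set_option autoImplicit false

namespace Cfsg.Agent.Omega.EH3

open Subgroup

/-- an `L₂(F)`-node -/
structure NodeL {H : Type*} [Group H] {F : Type*} [Field F] (E T O : Subgroup H) (φ : H → F) (c : H)
    (lam : F) : Prop extends Pre E T O where
  map_mul : ∀ s ∈ T, ∀ t ∈ T, φ (s * t) = φ s + φ t
  ker : ∀ s ∈ T, φ s = 0 ↔ s ∈ O
  surj : ∀ f, ∃ t ∈ T, φ t = f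
  c_mem : c ∈ E
  c_norm : c ∈ normalizer (T : Set H)
  gen : ∀ g ∈ E, g ∈ normalizer (T : Set H) → ∃ k : ℕ, ∃ t ∈ T, g = c ^ k * t
  act : ∀ t ∈ T, φ (c * t * c⁻¹) = lam * φ t
  ne : lam ≠ 0
  ord : ∀ k : ℕ, lam ^ k = 1 → Nat.card F - 1 ∣ k
  tor : c ^ (Nat.card F - 1) ∈ T

namespace NodeL

variable {H V : Type*} [Group H] [AddCommGroup V] [Module (ZMod 2) V]
  {ρ : H →* (V ≃ₗ[ZMod 2] V)} {b : LinearMap.BilinForm (ZMod 2) V} {q : V → ZMod 2}
  {a : V} {D : Submodule (ZMod 2) V} {X : Subgroup H} {w : ℕ} {E T O : Subgroup H}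
  {F : Type*} [Field F] {φ : H → F} {c : H} {lam : F}

theorem map_one (h : NodeL E T O φ c lam) : φ 1 = 0 := (h.ker 1 T.one_mem).2 O.one_mem

theorem map_inv (h : NodeL E T O φ c lam) {s : H} (hs : s ∈ T) : φ s⁻¹ = -φ s := by
  have := h.map_mul s hs s⁻¹ (T.inv_mem hs)
  rw [mul_inv_cancel, h.map_one] at this
  exact (neg_eq_of_add_eq_zero_right this.symm).symm

theorem mem_O_iff (h : NodeL E T O φ c lam) {s t : H} (hs : s ∈ T) (ht : t ∈ T) :
    s * t⁻¹ ∈ O ↔ φ s = φ t := by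
  rw [← h.ker _ (T.mul_mem hs (T.inv_mem ht)), h.map_mul _ hs _ (T.inv_mem ht), h.map_inv ht,
    ← sub_eq_add_neg, sub_eq_zero]

theorem abel (h : NodeL E T O φ c lam) : ∀ s ∈ T, ∀ t ∈ T, s * t * s⁻¹ * t⁻¹ ∈ O := by
  intro s hs t ht
  rw [h.mem_O_iff (T.mul_mem (T.mul_mem hs ht) (T.inv_mem hs)) ht,
    h.map_mul _ (T.mul_mem hs ht) _ (T.inv_mem hs), h.map_mul _ hs _ ht, h.map_inv hs]
  ring

theorem conj_c (h : NodeL E T O φ c lam) {t : H} (ht : t ∈ T) : c * t * c⁻¹ ∈ T :=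
  Pre.mem_T_conj h.c_norm ht

theorem pow_c_norm (h : NodeL E T O φ c lam) (k : ℕ) : c ^ k ∈ normalizer (T : Set H) :=
  pow_mem h.c_norm k

/-- commutators of `B` lie in `T` -/
theorem comm_mem (h : NodeL E T O φ c lam) {g k : H} (hg : g ∈ E) (hgN : g ∈ normalizer (T : Set H))
    (hk : k ∈ E) (hkN : k ∈ normalizer (T : Set H)) : g * k * g⁻¹ * k⁻¹ ∈ T := by
  obtain ⟨m, t, ht, rfl⟩ := h.gen g hg hgN
  obtain ⟨n, s, hs, rfl⟩ := h.gen k hk hkN
  have h0 : c ^ m * c ^ n = c ^ n * c ^ m := by rw [← pow_add, ← pow_add, add_comm]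
  have h1 : c ^ m * t * (c ^ n * s) * (c ^ m * t)⁻¹ * (c ^ n * s)⁻¹
      = (c ^ m * c ^ n) * (((c ^ n)⁻¹ * t * c ^ n) * s * t⁻¹ * ((c ^ m)⁻¹ * s⁻¹ * c ^ m))
        * (c ^ n * c ^ m)⁻¹ := by group
  rw [h1, h0]
  refine Pre.mem_T_conj (mul_mem (h.pow_c_norm n) (h.pow_c_norm m)) ?_
  exact T.mul_mem (T.mul_mem (T.mul_mem (Pre.mem_T_conj' (h.pow_c_norm n) ht) hs) (T.inv_mem ht))
    (Pre.mem_T_conj' (h.pow_c_norm m) (T.inv_mem hs))

theorem pow_mem_T (h : NodeL E T O φ c lam) {g : H} (hg : g ∈ E) (hgN : g ∈ normalizer (T : Set H)) :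
    g ^ (Nat.card F - 1) ∈ T := by
  obtain ⟨m, t, ht, rfl⟩ := h.gen g hg hgN
  have key : ∀ n : ℕ, ∃ s ∈ T, (c ^ m * t) ^ n = (c ^ m) ^ n * s := by
    intro n
    induction n with
    | zero => exact ⟨1, T.one_mem, by simp⟩
    | succ n ih =>
      obtain ⟨s, hs, h1⟩ := ih
      refine ⟨((c ^ m)⁻¹ * s * c ^ m) * t, T.mul_mem (Pre.mem_T_conj' (h.pow_c_norm m) hs) ht, ?_⟩
      rw [pow_succ, h1, pow_succ]
      group
  obtain ⟨s, hs, h1⟩ := key (Nat.card F - 1)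
  rw [h1, ← pow_mul, mul_comm m, pow_mul]
  exact T.mul_mem (pow_mem h.tor m) hs

/-- **LEMMA CUBE for a node.** -/
theorem cube [Finite F] [CharP F 2] (h : NodeL E T O φ c lam) (C : Cfg ρ b q a D X w)
    (hx : XCond ρ a X E T) {g : H} (hg : g ∈ E) (hgN : g ∈ normalizer (T : Set H)) :
    ρ (g ^ 3) a = a := by
  have hodd : Odd (Nat.card F - 1) := by
    have : Fintype F := Fintype.ofFinite F
    have h1 : 2 ∣ Nat.card F := by
      rw [Nat.card_eq_fintype_card, ← CharP.cast_eq_zero_iff F 2]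
      exact FiniteField.cast_card_eq_zero F
    have h2 : 0 < Nat.card F := Nat.card_pos
    obtain ⟨k, hk⟩ := h1
    exact ⟨k - 1, by omega⟩
  have hXN := Pre.X_le_N C hx
  refine C.cube (B := E ⊓ normalizer (T : Set H)) ?_ ?_ ?_ g ⟨hg, hgN⟩
  · intro x hxX g hg
    exact ⟨hx.XE x hxX g hg.1,
      (normalizer (T : Set H)).mul_mem ((normalizer (T : Set H)).mul_mem (hXN hxX) hg.2)
        ((normalizer (T : Set H)).inv_mem (hXN hxX))⟩
  · intro g hg k hk
    exact hx.Ta _ (h.comm_mem hg.1 hg.2 hk.1 hk.2)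
  · intro g hg
    exact ⟨_, hodd, hx.Ta _ (h.pow_mem_T hg.1 hg.2)⟩

/-- an additive subgroup of `F` closed under multiplication by the cube of a generator is `0` or `F` -/
theorem sub_all [Finite F] {lam : F} (hq : 8 ≤ Nat.card F) (h0 : lam ≠ 0)
    (hlam : ∀ k : ℕ, lam ^ k = 1 → Nat.card F - 1 ∣ k)
    {A : AddSubgroup F} (hA : ∀ f ∈ A, lam ^ 3 * f ∈ A) : A = ⊥ ∨ A = ⊤ := by
  classical
  have : Fintype F := Fintype.ofFinite F
  have hnat : Nat.card F = Fintype.card F := Nat.card_eq_fintype_card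
  let K : Subfield F :=
    { carrier := {r | ∀ f ∈ A, r * f ∈ A}
      mul_mem' := by
        intro r s hr hs f hf
        rw [mul_assoc]; exact hr _ (hs f hf)
      one_mem' := by intro f hf; rwa [one_mul]
      add_mem' := by
        intro r s hr hs f hf
        rw [add_mul]; exact A.add_mem (hr f hf) (hs f hf)
      zero_mem' := by intro f _; rw [zero_mul]; exact A.zero_mem
      neg_mem' := by
        intro r hr f hf
        rw [neg_mul]; exact A.neg_mem (hr f hf)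
      inv_mem' := by
        intro r hr
        by_cases h0 : r = 0
        · rw [h0, inv_zero]; intro f _; rw [zero_mul]; exact A.zero_mem
        · have h1 : r⁻¹ = r ^ (Fintype.card F - 2) := by
            have h2 := FiniteField.pow_card_sub_one_eq_one r h0
            have h3 : Fintype.card F - 1 = (Fintype.card F - 2) + 1 := by omega
            rw [h3, pow_succ] at h2
            exact (eq_inv_of_mul_eq_one_left h2).symm
          rw [h1]
          have h4 : ∀ n : ℕ, ∀ f ∈ A, r ^ n * f ∈ A := by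
            intro n
            induction n with
            | zero => intro f hf; rwa [pow_zero, one_mul]
            | succ n ih =>
              intro f hf
              rw [pow_succ, mul_assoc]
              exact ih _ (hr f hf)
          exact h4 _ }
  have hmemK : ∀ r : F, r ∈ K ↔ ∀ f ∈ A, r * f ∈ A := fun r => Iff.rfl
  have hK3 : lam ^ 3 ∈ K := hA
  have : Fintype K := Fintype.ofFinite K
  have hk2 : 2 ≤ Fintype.card K := Fintype.one_lt_card
  have h1 : (⟨lam ^ 3, hK3⟩ : K) ^ (Fintype.card K - 1) = 1 := by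
    apply FiniteField.pow_card_sub_one_eq_one
    intro h
    have := congrArg Subtype.val h
    exact pow_ne_zero 3 h0 this
  have h2 : lam ^ (3 * (Fintype.card K - 1)) = 1 := by
    have := congrArg Subtype.val h1
    rw [pow_mul]
    simpa using this
  have h3 := Nat.le_of_dvd (by omega) (hlam _ h2)
  have h4 : Fintype.card F = Fintype.card K ^ Module.finrank K F := Module.card_eq_pow_finrank
  have hd : Module.finrank K F = 1 := by
    have hpos : 0 < Module.finrank K F := Module.finrank_pos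
    by_contra hne
    have h5 : 2 ≤ Module.finrank K F := by omega
    have h6 : Fintype.card K ^ 2 ≤ Fintype.card F := by
      rw [h4]
      exact Nat.pow_le_pow_right (by omega) h5
    obtain ⟨k, hk⟩ : ∃ k, Fintype.card K = k + 2 := ⟨Fintype.card K - 2, by omega⟩
    rw [hk] at h6 h3
    have h7 : Fintype.card F ≤ 3 * k + 4 := by omega
    have h8 : k = 0 := by nlinarith
    subst h8
    omega
  rw [hd, pow_one] at h4
  have htop : ∀ r : F, r ∈ K := by
    intro r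
    by_contra hr
    have h5 : Fintype.card K < Fintype.card F :=
      Fintype.card_subtype_lt (p := fun x => x ∈ K) hr
    omega
  by_cases hb : A = ⊥
  · exact Or.inl hb
  right
  obtain ⟨f, hf, hf0⟩ : ∃ f ∈ A, f ≠ 0 := by
    by_contra hcon
    push Not at hcon
    exact hb (by rw [eq_bot_iff]; intro x hx; exact AddSubgroup.mem_bot.2 (hcon x hx))
  rw [eq_top_iff]
  intro r _
  have := htop (r / f) f hf
  rwa [div_mul_cancel₀ r hf0] at this

/-- **cent**: `X` centralises `T/O`. -/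
theorem cent [Finite F] [CharP F 2] (h : NodeL E T O φ c lam) (C : Cfg ρ b q a D X w)
    (hx : XCond ρ a X E T) (hq : 8 ≤ Nat.card F) : ∀ x ∈ X, ∀ t ∈ T, x * t * x⁻¹ * t⁻¹ ∈ O := by
  have hc3 : ρ (c ^ 3) a = a := h.cube C hx h.c_mem h.c_norm
  have hXN := Pre.X_le_N C hx
  -- the image of `X ∩ T`
  let A : AddSubgroup F :=
    { carrier := {f | ∃ y ∈ X, y ∈ T ∧ φ y = f}
      add_mem' := by
        rintro _ _ ⟨y, hy, hyT, rfl⟩ ⟨z, hz, hzT, rfl⟩
        exact ⟨y * z, X.mul_mem hy hz, T.mul_mem hyT hzT, h.map_mul _ hyT _ hzT⟩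
      zero_mem' := ⟨1, X.one_mem, T.one_mem, h.map_one⟩
      neg_mem' := by
        rintro _ ⟨y, hy, hyT, rfl⟩
        exact ⟨y⁻¹, X.inv_mem hy, T.inv_mem hyT, h.map_inv hyT⟩ }
  have hA : ∀ f ∈ A, lam ^ 3 * f ∈ A := by
    rintro _ ⟨y, hy, hyT, rfl⟩
    have h1 := h.conj_c hyT
    have h2 := h.conj_c h1
    have h3 := h.conj_c h2
    have h4 : c * (c * (c * y * c⁻¹) * c⁻¹) * c⁻¹ = c ^ 3 * y * (c ^ 3)⁻¹ := by
      have h5 : c ^ 3 = c * c * c := by rw [pow_succ, sq]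
      rw [h5]
      group
    refine ⟨c ^ 3 * y * (c ^ 3)⁻¹, C.X_norm _ hc3 y hy, h4 ▸ h3, ?_⟩
    rw [← h4, h.act _ h2, h.act _ h1, h.act _ hyT]
    ring
  -- `[X, T] ≤ X ∩ T`
  have hXT : ∀ x ∈ X, ∀ t ∈ T, x * t * x⁻¹ * t⁻¹ ∈ X ∧ x * t * x⁻¹ * t⁻¹ ∈ T := by
    intro x hxX t ht
    constructor
    · have h1 : x * t * x⁻¹ * t⁻¹ = x * (t * x⁻¹ * t⁻¹) := by group
      rw [h1]
      exact X.mul_mem hxX (C.X_norm t (hx.Ta t ht) _ (X.inv_mem hxX))
    · exact T.mul_mem (hx.XT x hxX t ht) (T.inv_mem ht)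
  rcases sub_all hq h.ne h.ord hA with hbot | htop
  · intro x hxX t ht
    obtain ⟨h1, h2⟩ := hXT x hxX t ht
    rw [← h.ker _ h2]
    have h3 : φ (x * t * x⁻¹ * t⁻¹) ∈ A := ⟨_, h1, h2, rfl⟩
    rw [hbot] at h3
    exact AddSubgroup.mem_bot.1 h3
  · intro x hxX t ht
    have h3 : φ t ∈ A := by rw [htop]; trivial
    obtain ⟨y, hy, hyT, hyt⟩ := h3
    have ho : y⁻¹ * t ∈ O := by
      rw [← h.ker _ (T.mul_mem (T.inv_mem hyT) ht), h.map_mul _ (T.inv_mem hyT) _ ht, h.map_inv hyT,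
        hyt]
      ring
    have hxo : x * (y⁻¹ * t) * x⁻¹ ∈ O :=
      h.norm_of (hx.XE x hxX) (Pre.XE' C hx hxX) (hXN hxX) ho
    have h4 : x * y * x⁻¹ = y := by rw [C.X_comm hxX hy, mul_inv_cancel_right]
    have h5 : x * t * x⁻¹ * t⁻¹ = y * ((x * (y⁻¹ * t) * x⁻¹) * (y⁻¹ * t)⁻¹) * y⁻¹ := by
      have h6 : x * t * x⁻¹ = (x * y * x⁻¹) * (x * (y⁻¹ * t) * x⁻¹) := by group
      rw [h6, h4]
      group
    rw [h5]
    exact h.norm y (h.T_le hyT) _ (O.mul_mem hxo (O.inv_mem ho))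

/-- `T/O` acts regularly on the points `≠ B` -/
theorem reg (h : NodeL E T O φ c lam) {g t : H} (hg : g ∈ E) (hgN : g ∉ normalizer (T : Set H))
    (ht : t ∈ T) (htg : g⁻¹ * t * g ∈ normalizer (T : Set H)) : t ∈ O := by
  refine h.core t (h.T_le ht) fun k hk => ?_
  by_cases hkN : k ∈ normalizer (T : Set H)
  · exact mul_mem (mul_mem (inv_mem hkN) (Pre.T_le_N ht)) hkN
  obtain ⟨s, hs, hn⟩ := h.trans g hg hgN k hk hkN
  have h1 : k⁻¹ * t * k = ((s * g)⁻¹ * k)⁻¹ * ((g⁻¹ * t * g) * (g⁻¹ * (t⁻¹ * s⁻¹ * t * s) * g))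
      * ((s * g)⁻¹ * k) := by group
  rw [h1]
  refine mul_mem (mul_mem (inv_mem hn) (mul_mem htg (Pre.T_le_N (h.O_le (h.norm' hg ?_))))) hn
  have := h.abel t⁻¹ (T.inv_mem ht) s⁻¹ (T.inv_mem hs)
  rwa [inv_inv, inv_inv] at this

/-- the number of points -/
theorem lt_relIndex [Finite F] (h : NodeL E T O φ c lam) {g : H} (hfin : Finite H) (hg : g ∈ E)
    (hgN : g ∉ normalizer (T : Set H)) : Nat.card F < (normalizer (T : Set H)).relIndex E := by
  classical
  choose t ht htf using h.surj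
  let f : Option F → E ⧸ (normalizer (T : Set H)).subgroupOf E := fun o =>
    match o with
    | none => QuotientGroup.mk 1
    | some z => QuotientGroup.mk ⟨t z * g, E.mul_mem (h.T_le (ht z)) hg⟩
  have hf : Function.Injective f := by
    intro x y hxy
    match x, y with
    | none, none => rfl
    | none, some z =>
      exfalso
      have h1 := QuotientGroup.eq.1 hxy
      have h2 : t z * g ∈ normalizer (T : Set H) := by simpa [Subgroup.mem_subgroupOf] using h1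
      apply hgN
      have h3 := mul_mem (inv_mem (Pre.T_le_N (ht z))) h2
      rwa [inv_mul_cancel_left] at h3
    | some z, none =>
      exfalso
      have h1 := QuotientGroup.eq.1 hxy.symm
      have h2 : t z * g ∈ normalizer (T : Set H) := by simpa [Subgroup.mem_subgroupOf] using h1
      apply hgN
      have h3 := mul_mem (inv_mem (Pre.T_le_N (ht z))) h2
      rwa [inv_mul_cancel_left] at h3
    | some z, some z' =>
      have h1 := QuotientGroup.eq.1 hxy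
      have h2 : (t z * g)⁻¹ * (t z' * g) ∈ normalizer (T : Set H) := h1
      have h3 : g⁻¹ * ((t z)⁻¹ * t z') * g ∈ normalizer (T : Set H) := by
        have : g⁻¹ * ((t z)⁻¹ * t z') * g = (t z * g)⁻¹ * (t z' * g) := by group
        rwa [this]
      have h4 := h.reg hg hgN (T.mul_mem (T.inv_mem (ht z)) (ht z')) h3
      rw [← h.ker _ (T.mul_mem (T.inv_mem (ht z)) (ht z')), h.map_mul _ (T.inv_mem (ht z)) _ (ht z'),
        h.map_inv (ht z), htf, htf] at h4
      have : z = z' := by linear_combination -h4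
      rw [this]
  have h1 := Nat.card_le_card_of_injective f hf
  rw [Finite.card_option] at h1
  exact h1

/-- **LEMMA NODE**: an `L₂(q)`-node with `q ≥ 8` fixes `a`. -/
theorem fix [Finite F] [CharP F 2] (h : NodeL E T O φ c lam) (C : Cfg ρ b q a D X w)
    (hx : XCond ρ a X E T) (hq : 8 ≤ Nat.card F) : ∀ g ∈ E, ρ g a = a := by
  have hB := h.fixB C hx h.abel (h.cent C hx hq)
  by_cases hall : ∀ g ∈ E, g ∈ normalizer (T : Set H)
  · exact fun g hg => hB g hg (hall g hg)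
  push Not at hall
  obtain ⟨g, hg, hgN⟩ := hall
  exact h.fixE C hx hB (by have := h.lt_relIndex C.finite_H hg hgN; omega)

/-- the same with the centralising property as hypothesis (`q ≥ 8` only for the last step) -/
theorem fix_of_cent [Finite F] (h : NodeL E T O φ c lam) (C : Cfg ρ b q a D X w)
    (hx : XCond ρ a X E T) (hq : 5 ≤ Nat.card F)
    (hcent : ∀ x ∈ X, ∀ t ∈ T, x * t * x⁻¹ * t⁻¹ ∈ O) : ∀ g ∈ E, ρ g a = a := by
  have hB := h.fixB C hx h.abel hcent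
  by_cases hall : ∀ g ∈ E, g ∈ normalizer (T : Set H)
  · exact fun g hg => hB g hg (hall g hg)
  push Not at hall
  obtain ⟨g, hg, hgN⟩ := hall
  exact h.fixE C hx hB (by have := h.lt_relIndex C.finite_H hg hgN; omega)

end NodeL

end Cfsg.Agent.Omega.EH3

end

section


/-!
# LEMMA NODE: the Suzuki version, and swapped nodes (blueprint OMEGA-FF2b-helper796, (2S), (3))

* `Pre.fixB_of_coprime` : `N_E(T)/T` abelian of order prime to `6` : `N_E(T)` fixes `a`;
* `Pre.fix_of_coprime` : `E` fixes `a` if moreover `|E : N_E(T)| > 5`;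
* `Swap` : two nodes `E₁, E₂` over the same `T`, interchanged by an element `s` with `s a = a`; `(R)` : involutions of `T`
  lie in `O₁ ∪ O₂`. Then `X` normalises both nodes and `[T, X] ≤ O₁ ∩ O₂`.
-/

set_option autoImplicit false

namespace Cfsg.Agent.Omega.EH3

open Subgroup

namespace Pre

variable {H V : Type*} [Group H] [AddCommGroup V] [Module (ZMod 2) V]
  {ρ : H →* (V ≃ₗ[ZMod 2] V)} {b : LinearMap.BilinForm (ZMod 2) V} {q : V → ZMod 2}
  {a : V} {D : Submodule (ZMod 2) V} {X : Subgroup H} {w : ℕ} {E T O : Subgroup H}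

/-- `B/T` abelian of order prime to 6: `B` fixes `a`. -/
theorem fixB_of_coprime (C : Cfg ρ b q a D X w) (hx : XCond ρ a X E T)
    (hcomm : ∀ g ∈ E, g ∈ normalizer (T : Set H) → ∀ k ∈ E, k ∈ normalizer (T : Set H) →
      g * k * g⁻¹ * k⁻¹ ∈ T)
    (hord : ∀ g ∈ E, g ∈ normalizer (T : Set H) → ∃ m : ℕ, Odd m ∧ Nat.Coprime m 3 ∧ g ^ m ∈ T) :
    ∀ g ∈ E, g ∈ normalizer (T : Set H) → ρ g a = a := by
  intro g hg hgN
  have hXN := Pre.X_le_N C hx
  have h3 : ρ (g ^ 3) a = a := by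
    refine C.cube (B := E ⊓ normalizer (T : Set H)) ?_ ?_ ?_ g ⟨hg, hgN⟩
    · intro x hxX g hg
      exact ⟨hx.XE x hxX g hg.1,
        (normalizer (T : Set H)).mul_mem ((normalizer (T : Set H)).mul_mem (hXN hxX) hg.2)
          ((normalizer (T : Set H)).inv_mem (hXN hxX))⟩
    · intro g hg k hk
      exact hx.Ta _ (hcomm g hg.1 hg.2 k hk.1 hk.2)
    · intro g hg
      obtain ⟨m, hm, -, h⟩ := hord g hg.1 hg.2
      exact ⟨m, hm, hx.Ta _ h⟩
  obtain ⟨m, -, hm, hgm⟩ := hord g hg hgN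
  -- the powers of `g` fixing `a`
  have h1 : g ^ 3 ∈ stab ρ a := h3
  have h2 : g ^ m ∈ stab ρ a := hx.Ta _ hgm
  have h4 : g ^ (Int.gcd m 3 : ℤ) ∈ stab ρ a := by
    rw [Int.gcd_eq_gcd_ab, zpow_add, zpow_mul, zpow_mul]
    refine mul_mem (zpow_mem ?_ _) (zpow_mem ?_ _)
    · simpa using h2
    · exact_mod_cast h1
  have h5 : Int.gcd m 3 = 1 := by
    have : Int.gcd (m : ℤ) (3 : ℤ) = Nat.gcd m 3 := rfl
    rw [this]; exact hm
  rw [h5] at h4
  have h6 : g ∈ stab ρ a := by simpa using h4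
  exact h6

/-- **LEMMA NODE**, Suzuki version. -/
theorem fix_of_coprime (C : Cfg ρ b q a D X w) (h : Pre E T O) (hx : XCond ρ a X E T)
    (hcomm : ∀ g ∈ E, g ∈ normalizer (T : Set H) → ∀ k ∈ E, k ∈ normalizer (T : Set H) →
      g * k * g⁻¹ * k⁻¹ ∈ T)
    (hord : ∀ g ∈ E, g ∈ normalizer (T : Set H) → ∃ m : ℕ, Odd m ∧ Nat.Coprime m 3 ∧ g ^ m ∈ T)
    (hcard : 5 < (normalizer (T : Set H)).relIndex E) : ∀ g ∈ E, ρ g a = a :=
  h.fixE C hx (fixB_of_coprime C hx hcomm hord) hcard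

end Pre

/-- Two nodes over the same 2-group `T`, with the fact (R) on the involutions of `T`. -/
structure TwoPre {H : Type*} [Group H] (E₁ E₂ T O₁ O₂ : Subgroup H) : Prop where
  one : Pre E₁ T O₁
  two : Pre E₂ T O₂
  R : ∀ t ∈ T, t * t = 1 → t ∈ O₁ ∨ t ∈ O₂

namespace TwoPre

variable {H V : Type*} [Group H] [AddCommGroup V] [Module (ZMod 2) V]
  {ρ : H →* (V ≃ₗ[ZMod 2] V)} {b : LinearMap.BilinForm (ZMod 2) V} {q : V → ZMod 2}
  {a : V} {D : Submodule (ZMod 2) V} {X : Subgroup H} {w : ℕ} {E₁ E₂ T O₁ O₂ : Subgroup H}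

theorem symm (h : TwoPre E₁ E₂ T O₁ O₂) : TwoPre E₂ E₁ T O₂ O₁ :=
  ⟨h.two, h.one, fun t ht h2 => (h.R t ht h2).symm⟩

/-- `X ∩ T` lies in `O₁` or in `O₂` -/
theorem X_inter (h : TwoPre E₁ E₂ T O₁ O₂) (C : Cfg ρ b q a D X w) :
    (∀ x ∈ X, x ∈ T → x ∈ O₁) ∨ (∀ x ∈ X, x ∈ T → x ∈ O₂) := by
  by_contra hcon
  push Not at hcon
  obtain ⟨⟨x, hx, hxT, hx1⟩, ⟨y, hy, hyT, hy2⟩⟩ := hcon
  have hx2 : x ∈ O₂ := (h.R x hxT (C.X_sq x hx)).resolve_left hx1
  have hy1 : y ∈ O₁ := (h.R y hyT (C.X_sq y hy)).resolve_right hy2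
  rcases h.R _ (T.mul_mem hxT hyT) (C.X_sq _ (X.mul_mem hx hy)) with h1 | h1
  · apply hx1
    have := O₁.mul_mem h1 (O₁.inv_mem hy1)
    rwa [mul_inv_cancel_right] at this
  · apply hy2
    have := O₂.mul_mem (O₂.inv_mem hx2) h1
    rwa [inv_mul_cancel_left] at this

/-- `[X, T] ≤ X ∩ T` if `X` normalises `T` and `T` fixes `a` -/
theorem comm_mem (C : Cfg ρ b q a D X w) (hXT : ∀ x ∈ X, ∀ t ∈ T, x * t * x⁻¹ ∈ T)
    (hTa : ∀ t ∈ T, ρ t a = a) {x t : H} (hxX : x ∈ X) (ht : t ∈ T) :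
    x * t * x⁻¹ * t⁻¹ ∈ X ∧ x * t * x⁻¹ * t⁻¹ ∈ T := by
  constructor
  · have h1 : x * t * x⁻¹ * t⁻¹ = x * (t * x⁻¹ * t⁻¹) := by group
    rw [h1]
    exact X.mul_mem hxX (C.X_norm t (hTa t ht) _ (X.inv_mem hxX))
  · exact T.mul_mem (hXT x hxX t ht) (T.inv_mem ht)

/-- an element of `X` does not interchange the two nodes -/
theorem not_swap (h : TwoPre E₁ E₂ T O₁ O₂) (C : Cfg ρ b q a D X w)
    (hXT : ∀ x ∈ X, ∀ t ∈ T, x * t * x⁻¹ ∈ T) (hTa : ∀ t ∈ T, ρ t a = a)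
    (hne : ∃ t ∈ O₁, t ∉ O₂) {x : H} (hxX : x ∈ X)
    (hsw : ∀ t, t ∈ O₁ ↔ x * t * x⁻¹ ∈ O₂) (hsw' : ∀ t, t ∈ O₂ ↔ x * t * x⁻¹ ∈ O₁) : False := by
  obtain ⟨t, ht, ht2⟩ := hne
  have htT := h.one.O_le ht
  obtain ⟨h1, h2⟩ := comm_mem C hXT hTa hxX htT
  have hxt2 : x * t * x⁻¹ ∈ O₂ := (hsw t).1 ht
  have hxt1 : x * t * x⁻¹ ∉ O₁ := fun hc => ht2 ((hsw' t).2 hc)
  rcases h.R _ h2 (C.X_sq _ h1) with h3 | h3
  · apply hxt1
    have := O₁.mul_mem h3 ht
    rwa [inv_mul_cancel_right] at this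
  · apply ht2
    have := O₂.mul_mem (O₂.inv_mem h3) hxt2
    have h4 : (x * t * x⁻¹ * t⁻¹)⁻¹ * (x * t * x⁻¹) = t := by group
    rwa [h4] at this

/-- If an element `s` normalising `X` and `T` interchanges `O₁` and `O₂`, then `X ∩ T ≤ O₁ ∩ O₂`. -/
theorem X_inter_swap (h : TwoPre E₁ E₂ T O₁ O₂) (C : Cfg ρ b q a D X w) {s : H} (hs : ρ s a = a)
    (hsT' : ∀ t, t ∈ T → s⁻¹ * t * s ∈ T)
    (hsw : ∀ t, t ∈ O₁ ↔ s * t * s⁻¹ ∈ O₂) (hsw' : ∀ t, t ∈ O₂ ↔ s * t * s⁻¹ ∈ O₁) {x : H}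
    (hx : x ∈ X) (hxT : x ∈ T) : x ∈ O₁ ∧ x ∈ O₂ := by
  have hs' : ρ s⁻¹ a = a := C.fix_inv hs
  rcases h.X_inter C with h1 | h1
  · refine ⟨h1 x hx hxT, ?_⟩
    have h2 := h1 (s⁻¹ * x * s) (by
      have := C.X_norm s⁻¹ hs' x hx
      rwa [inv_inv] at this) (hsT' x hxT)
    rw [hsw] at h2
    have h3 : s * (s⁻¹ * x * s) * s⁻¹ = x := by group
    rwa [h3] at h2
  · refine ⟨?_, h1 x hx hxT⟩
    have h2 := h1 (s⁻¹ * x * s) (by
      have := C.X_norm s⁻¹ hs' x hx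
      rwa [inv_inv] at this) (hsT' x hxT)
    rw [hsw'] at h2
    have h3 : s * (s⁻¹ * x * s) * s⁻¹ = x := by group
    rwa [h3] at h2

end TwoPre

end Cfsg.Agent.Omega.EH3

end

end
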