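import Cfsg.Agent.Omega.EH3.Row
import Cfsg.Agent.Mrg.Omega.EH3.NodeHom
import Cfsg.Agent.S0102
import Cfsg.Agent.S0262
import Cfsg.Prelude.Def_LieTypeChar
import Cfsg.Agent.Mrg.Omega.EH3.Perm
import Cfsg.Agent.Mrg.Omega.TwoF.RowLU
import Cfsg.Agent.KFacts.TwF4.OutTwo
import Cfsg.Agent.KFacts.TwF4.Perf

-- merged: Cfsg.Agent.Mrg.Omega.EH3.RowLTwo
section

/-!
# The rows `L₂(q)`, `q = 2^n ≥ 8`, of EH3 (helper796)

* `Cfg.eq_bot_of_fix` : a normal subgroup fixing `a` is trivial;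
* `false_of_gen` : a nontrivial normal subgroup generated by subgroups fixing `a`;
* `OddCover.injective_sl` : an odd cover of `SL(2, 2^n)` is injective (`S0102`, `S0262`);
* `row_sl` : `RowEH3 K` for `K ≅ SL(2, F)`, `F` finite of characteristic 2, `|F| ≥ 8`; `row_psl` : `K ≅ PSL(2, F)`.
-/

set_option autoImplicit false

namespace Cfsg.Agent.Omega.EH3

open Subgroup TwoF

universe u v w

/-- a normal subgroup fixing `a` is trivial -/
theorem Cfg.eq_bot_of_fix {H V : Type*} [Group H] [AddCommGroup V] [Module (ZMod 2) V]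
    {ρ : H →* (V ≃ₗ[ZMod 2] V)} {b : LinearMap.BilinForm (ZMod 2) V} {q : V → ZMod 2}
    {a : V} {D : Submodule (ZMod 2) V} {X : Subgroup H} {w : ℕ} (C : Cfg ρ b q a D X w)
    {N : Subgroup H} (hN : N.Normal) (hfix : ∀ n ∈ N, ρ n a = a) : N = ⊥ := by
  have hinv : ∀ h, ∀ u ∈ C.fixV N, ρ h u ∈ C.fixV N := by
    intro h u hu n hn
    have h1 := hu _ (hN.conj_mem n hn h⁻¹)
    have h2 : ρ (h * (h⁻¹ * n * h⁻¹⁻¹)) u = ρ (n * h) u := by congr 2; group
    rw [← C.ρ_mul, ← h2, C.ρ_mul, h1]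
  rcases C.irr _ hinv with h | h
  · exfalso
    apply C.a_ne
    have : a ∈ C.fixV N := hfix
    rw [h] at this
    exact this
  · rw [eq_bot_iff]
    intro n hn
    rw [Subgroup.mem_bot]
    apply C.ext
    intro u
    have : u ∈ C.fixV N := by rw [h]; trivial
    rw [this n hn, C.ρ_one]

section

variable {F : Type*} [Field F]

/-- a perfect group cannot be an odd cover of `SL(2, 2^n)` with nontrivial kernel -/
theorem injective_of_oddCover_sl [Finite F] [CharP F 2] {L : Type*} [Group L] [Finite L]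
    {π : L →* Matrix.SpecialLinearGroup (Fin 2) F} (hπ : OddCover π) : Function.Injective π := by
  have : Fintype F := Fintype.ofFinite F
  have : Fact (Nat.Prime 2) := ⟨Nat.prime_two⟩
  rw [← MonoidHom.ker_eq_bot_iff]
  by_contra hne
  have h1 : Nat.card π.ker ≠ 1 := by rwa [Ne, Subgroup.card_eq_one]
  obtain ⟨p, hp, hdvd⟩ := Nat.exists_prime_and_dvd h1
  have : Fact p.Prime := ⟨hp⟩
  have hp2 : p ≠ 2 := by
    rintro rfl
    exact (Nat.not_even_iff_odd.2 hπ.odd) (even_iff_two_dvd.2 hdvd)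
  have hG : commutator (Matrix.SpecialLinearGroup (Fin 2) F) = ⊤ := by
    rw [eq_top_iff]
    intro g _
    obtain ⟨x, rfl⟩ := hπ.surj g
    have hx : x ∈ commutator L := by rw [hπ.perf]; trivial
    rw [commutator_def] at hx ⊢
    have h2 := Subgroup.mem_map_of_mem π hx
    rw [Subgroup.map_commutator] at h2
    exact Subgroup.commutator_mono le_top le_top h2
  exact Cfsg.Agent.S0102.result hG (p := p)
    (fun P => Cfsg.Agent.S0262.result 2 p hp2 hp2 P) π hπ.surj hπ.cent hπ.perf hdvd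

/-- **The row `L₂(q)`, `q = 2^n ≥ 8`.** -/
theorem row_sl [Finite F] [CharP F 2] (h8 : 8 ≤ Nat.card F) {K : Type v} [Group K]
    (e : K ≃* Matrix.SpecialLinearGroup (Fin 2) F) : RowEH3.{u} K := by
  intro H V _ _ _ ρ b q a D X w L π hL hπ hX C
  have := C.finite_H
  have hπ' : OddCover (e.toMonoidHom.comp π) := hπ.comp e
  have hinj := injective_of_oddCover_sl hπ'
  obtain ⟨S, -, hS⟩ := C.exists_syl
  have hfix := fix_of_syl C (E := L) S hS (fun s _ l hl => hL.conj_mem l hl s) _ hπ'.surj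
    (by
      have : (e.toMonoidHom.comp π).ker = ⊥ := (MonoidHom.ker_eq_bot_iff _).2 hinj
      rw [this]
      exact IsPGroup.of_bot) h8
  have hbot := C.eq_bot_of_fix hL hfix
  -- `SL(2, F)` would be trivial
  obtain ⟨x, hx⟩ := hπ'.surj (uni (1 : F))
  have hx1 : x = 1 := by
    have h1 : (x : H) ∈ (⊥ : Subgroup H) := hbot.le x.2
    exact Subtype.ext (mem_bot.1 h1)
  rw [hx1, map_one] at hx
  have := congrArg (fun m : Matrix.SpecialLinearGroup (Fin 2) F => m.1 0 1) hx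
  simp only [uni_01, one_01] at this
  exact one_ne_zero this.symm

/-- in characteristic 2 the centre of `SL(2, F)` is trivial -/
theorem center_sl [CharP F 2] : center (Matrix.SpecialLinearGroup (Fin 2) F) = ⊥ := by
  rw [eq_bot_iff]
  intro g hg
  rw [mem_center_iff] at hg
  rw [mem_bot]
  have h1 := hg (uni 1)
  let v : Matrix.SpecialLinearGroup (Fin 2) F := ⟨!![1, 0; 1, 1], by simp [Matrix.det_fin_two]⟩
  have h2 := hg v
  have a1 := congrArg (fun m : Matrix.SpecialLinearGroup (Fin 2) F => m.1 0 0) h1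
  have a2 := congrArg (fun m : Matrix.SpecialLinearGroup (Fin 2) F => m.1 0 1) h1
  have b1 := congrArg (fun m : Matrix.SpecialLinearGroup (Fin 2) F => m.1 0 0) h2
  simp only [sl_mul, uni_00, uni_01, uni_10, uni_11] at a1 a2
  simp only [sl_mul, show v.1 0 0 = 1 from rfl, show v.1 0 1 = 0 from rfl, show v.1 1 0 = 1 from rfl,
    show v.1 1 1 = 1 from rfl] at b1
  have h10 : g.1 1 0 = 0 := by linear_combination a1
  have h01 : g.1 0 1 = 0 := by linear_combination -b1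
  have h00 : g.1 0 0 = g.1 1 1 := by linear_combination -a2
  have hdet := sl_det g
  rw [h10, h00, mul_zero, sub_zero] at hdet
  have h4 : g.1 1 1 = 1 := by
    have h5 : (g.1 1 1 - 1) * (g.1 1 1 - 1) = 0 := by
      have h2 : (2 : F) = 0 := CharTwo.two_eq_zero
      linear_combination hdet + (1 - g.1 1 1) * h2
    have h6 := mul_self_eq_zero.1 h5
    linear_combination h6
  exact sl_ext (by rw [h00, h4]; rfl) (by rw [h01]; rfl) (by rw [h10]; rfl) (by rw [h4]; rfl)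

/-- `SL(2, F) ≅ PSL(2, F)` in characteristic 2 -/
noncomputable def slEquivPsl (F : Type*) [Field F] [CharP F 2] :
    Matrix.SpecialLinearGroup (Fin 2) F ≃* Matrix.ProjectiveSpecialLinearGroup (Fin 2) F :=
  MulEquiv.ofBijective (QuotientGroup.mk' _) ⟨by
    rw [← MonoidHom.ker_eq_bot_iff, QuotientGroup.ker_mk']
    exact center_sl, QuotientGroup.mk'_surjective _⟩

theorem row_psl [Finite F] [CharP F 2] (h8 : 8 ≤ Nat.card F) {K : Type v} [Group K]
    (e : K ≃* Matrix.ProjectiveSpecialLinearGroup (Fin 2) F) : RowEH3.{u} K :=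
  row_sl h8 (e.trans (slEquivPsl F).symm)

end

end Cfsg.Agent.Omega.EH3

end

-- merged: Cfsg.Agent.Mrg.Omega.EH3.RowInner
section

/-!
# Rows of EH3 whose automorphisms of 2-power order are inner (helper796)

* `Tr E T` : `T` a 2-group, transitive on `E / N_E(T)` minus the base point; `Tr.fix` : if `N_E(T) / T` is abelian of
  order prime to 6 and `|E : N_E(T)| > 5` then `E` fixes `a` (the Suzuki version of LEMMA NODE without the kernel);
* `row_inner` : `K` centreless with all automorphisms of 2-power order inner, `P` a Sylow 2-subgroup, `N_K(P) / P` abelian of order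
  prime to 6, `K = ⟨E₁, E₂⟩` with two such nodes over `P`: then `RowEH3 K`.
-/

set_option autoImplicit false

namespace Cfsg.Agent.Omega.EH3

open Subgroup TwoF

universe u v w

/-- `T` a 2-subgroup of `E`, transitive on the points `≠ N_E(T)`. -/
structure Tr {H : Type*} [Group H] (E T : Subgroup H) : Prop where
  T_le : T ≤ E
  two : IsPGroup 2 T
  trans : ∀ g ∈ E, g ∉ normalizer (T : Set H) → ∀ h ∈ E, h ∉ normalizer (T : Set H) →
    ∃ t ∈ T, (t * g)⁻¹ * h ∈ normalizer (T : Set H)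

namespace Tr

variable {H V : Type*} [Group H] [AddCommGroup V] [Module (ZMod 2) V]
  {ρ : H →* (V ≃ₗ[ZMod 2] V)} {b : LinearMap.BilinForm (ZMod 2) V} {q : V → ZMod 2}
  {a : V} {D : Submodule (ZMod 2) V} {X : Subgroup H} {w : ℕ} {E T : Subgroup H}

/-- one element `e ∈ E ∖ B` fixing `a` suffices if `B` fixes `a` -/
theorem fix_all (C : Cfg ρ b q a D X w) (h : Tr E T) (hx : XCond ρ a X E T)
    (hB : ∀ g ∈ E, g ∈ normalizer (T : Set H) → ρ g a = a) {e : H} (he : e ∈ E)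
    (heN : e ∉ normalizer (T : Set H)) (hea : ρ e a = a) : ∀ g ∈ E, ρ g a = a := by
  intro g hg
  by_cases hgN : g ∈ normalizer (T : Set H)
  · exact hB g hg hgN
  obtain ⟨t, ht, hn⟩ := h.trans e he heN g hg hgN
  have h1 : g = t * e * ((t * e)⁻¹ * g) := by group
  have h2 := hB _ (E.mul_mem (E.inv_mem (E.mul_mem (h.T_le ht) he)) hg) hn
  rw [h1, C.ρ_mul, h2, C.ρ_mul, hea, hx.Ta t ht]

/-- **fixE.** -/
theorem fixE (C : Cfg ρ b q a D X w) (h : Tr E T) (hx : XCond ρ a X E T)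
    (hB : ∀ g ∈ E, g ∈ normalizer (T : Set H) → ρ g a = a)
    (hcard : 5 < (normalizer (T : Set H)).relIndex E) : ∀ g ∈ E, ρ g a = a := by
  classical
  have := C.finite_V
  have := C.finite_H
  by_contra hcon
  push Not at hcon
  obtain ⟨g0, hg0, hga0⟩ := hcon
  -- `C_E(a) = B`
  have hstab : ∀ g ∈ E, ρ g a = a → g ∈ normalizer (T : Set H) := by
    intro g hg hga
    by_contra hgN
    exact hga0 (fix_all C h hx hB hg hgN hga g0 hg0)
  have h4 := C.perm_four hx.XE h.two h.T_le hx.Ta (by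
    intro g hg k hk hga hka
    obtain ⟨t, ht, hn⟩ := h.trans g hg (fun hgN => hga (hB g hg hgN)) k hk
      (fun hkN => hka (hB k hk hkN))
    refine ⟨t, ht, ?_⟩
    have h1 : t * g * ((t * g)⁻¹ * k) = k := by group
    have h2 := hB _ (E.mul_mem (E.inv_mem (E.mul_mem (h.T_le ht) hg)) hk) hn
    calc ρ (t * g) a = ρ (t * g) (ρ ((t * g)⁻¹ * k) a) := by rw [h2]
      _ = ρ k a := by rw [← C.ρ_mul, h1])
  -- the number of points
  let Ω : Set V := {v | ∃ g ∈ E, ρ g a = v}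
  have hΩ : Ω = insert a (Cfg.PtsE ρ a E) := by
    ext v
    constructor
    · rintro ⟨g, hg, rfl⟩
      by_cases hga : ρ g a = a
      · exact Or.inl hga
      · exact Or.inr ⟨⟨g, hg, rfl⟩, hga⟩
    · rintro (rfl | ⟨⟨g, hg, hgv⟩, -⟩)
      · exact ⟨1, E.one_mem, C.ρ_one _⟩
      · exact ⟨g, hg, hgv⟩
  have hle : Ω.ncard ≤ 5 := by
    rw [hΩ]
    exact (Set.ncard_insert_le _ _).trans (by omega)
  have hge : (normalizer (T : Set H)).relIndex E ≤ Ω.ncard := by
    rw [Subgroup.relIndex, Subgroup.index, ← Nat.card_coe_set_eq]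
    refine Nat.card_le_card_of_injective
      (fun x : E ⧸ (normalizer (T : Set H)).subgroupOf E =>
        (⟨ρ ((Quotient.out x : E) : H) a, ((Quotient.out x : E) : H), (Quotient.out x).2, rfl⟩ : Ω)) ?_
    intro x y hxy
    have h1 : ρ ((Quotient.out x : E) : H) a = ρ ((Quotient.out y : E) : H) a := congrArg Subtype.val hxy
    have h2 : ρ (((Quotient.out x : E) : H)⁻¹ * ((Quotient.out y : E) : H)) a = a := by
      rw [C.ρ_mul, ← h1, C.ρ_inv_apply]
    have h3 := hstab _ (E.mul_mem (E.inv_mem (Quotient.out x).2) (Quotient.out y).2) h2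
    have h4 : (QuotientGroup.mk (Quotient.out x) : E ⧸ (normalizer (T : Set H)).subgroupOf E)
        = QuotientGroup.mk (Quotient.out y) := by
      rw [QuotientGroup.eq]
      exact h3
    have h5 : ∀ z : E ⧸ (normalizer (T : Set H)).subgroupOf E,
        (QuotientGroup.mk (Quotient.out z) : E ⧸ (normalizer (T : Set H)).subgroupOf E) = z :=
      fun z => Quotient.out_eq z
    rw [h5, h5] at h4
    exact h4
  omega

/-- The Suzuki version of LEMMA NODE, without the kernel. -/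
theorem fix (C : Cfg ρ b q a D X w) (h : Tr E T) (hx : XCond ρ a X E T)
    (hcomm : ∀ g ∈ E, g ∈ normalizer (T : Set H) → ∀ k ∈ E, k ∈ normalizer (T : Set H) →
      g * k * g⁻¹ * k⁻¹ ∈ T)
    (hord : ∀ g ∈ E, g ∈ normalizer (T : Set H) → ∃ m : ℕ, Odd m ∧ Nat.Coprime m 3 ∧ g ^ m ∈ T)
    (hcard : 5 < (normalizer (T : Set H)).relIndex E) : ∀ g ∈ E, ρ g a = a :=
  h.fixE C hx (Pre.fixB_of_coprime C hx hcomm hord) hcard

end Tr

/-! ### Transport to a subgroup isomorphic to `K` -/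

section pull

variable {H : Type*} [Group H] {K : Type*} [Group K] {L : Subgroup H} (e : L ≃* K)

theorem pull_relIndex (ψ : L →* K) (hψ : Function.Surjective ψ) (T E : Subgroup K) :
    (normalizer ((pull ψ T : Subgroup H) : Set H)).relIndex (pull ψ E)
      = (normalizer (T : Set K)).relIndex E := by
  have h1 : (normalizer ((pull ψ T : Subgroup H) : Set H)).relIndex (pull ψ E)
      = ((normalizer ((pull ψ T : Subgroup H) : Set H)).comap L.subtype).relIndex (E.comap ψ) := by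
    rw [Subgroup.relIndex_comap]
    rfl
  have h2 : (normalizer ((pull ψ T : Subgroup H) : Set H)).comap L.subtype
      = (normalizer (T : Set K)).comap ψ := by
    ext g
    exact mem_normalizer_pull ψ hψ T g
  rw [h1, h2, Subgroup.relIndex_comap, Subgroup.map_comap_eq_self_of_surjective hψ]

theorem Tr.pull {ψ : L →* K} (hψ : Function.Bijective ψ) {T E : Subgroup K} (h : Tr E T) :
    Tr (EH3.pull ψ E) (EH3.pull ψ T) where
  T_le := by
    intro g hg
    obtain ⟨hg, h1⟩ := (mem_pull ψ T).1 hg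
    exact (mem_pull ψ E).2 ⟨hg, h.T_le h1⟩
  two := by
    have h1 : IsPGroup 2 (T.comap ψ) := h.two.comap_of_injective ψ hψ.1
    exact h1.map _
  trans := by
    intro g hg hgN k hk hkN
    obtain ⟨hgL, hg⟩ := (mem_pull ψ E).1 hg
    obtain ⟨hkL, hk⟩ := (mem_pull ψ E).1 hk
    have h1 := mem_normalizer_pull ψ hψ.2 T ⟨g, hgL⟩
    have h2 := mem_normalizer_pull ψ hψ.2 T ⟨k, hkL⟩
    obtain ⟨t, ht, htn⟩ := h.trans _ hg (fun h => hgN (h1.2 h)) _ hk (fun h => hkN (h2.2 h))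
    obtain ⟨s, rfl⟩ := hψ.2 t
    refine ⟨s, (mem_pull_coe ψ T s).2 ht, ?_⟩
    rw [← map_mul, ← map_inv, ← map_mul, ← mem_normalizer_pull ψ hψ.2] at htn
    exact htn

end pull

/-- **Rows with inner automorphisms.** -/
theorem row_inner {K : Type v} [Group K] (hcK : center K = ⊥)
    (hin : ∀ (α : MulAut K) (n : ℕ), α ^ 2 ^ n = 1 → ∃ x, α = MulAut.conj x) (P : Sylow 2 K)
    (hcomm : ∀ g ∈ normalizer ((P : Subgroup K) : Set K), ∀ k ∈ normalizer ((P : Subgroup K) : Set K),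
      g * k * g⁻¹ * k⁻¹ ∈ P)
    (hord : ∀ g ∈ normalizer ((P : Subgroup K) : Set K), ∃ m : ℕ, Odd m ∧ Nat.Coprime m 3 ∧ g ^ m ∈ P)
    {E₁ E₂ : Subgroup K} (h₁ : Tr E₁ P) (h₂ : Tr E₂ P)
    (c₁ : 5 < (normalizer ((P : Subgroup K) : Set K)).relIndex E₁)
    (c₂ : 5 < (normalizer ((P : Subgroup K) : Set K)).relIndex E₂)
    (hgen : E₁ ⊔ E₂ = ⊤) (hne : ∃ k : K, k ≠ 1) : RowEH3.{u} K := by
  intro H V _ _ _ ρ b q a D X w L π hL hπ hX C
  have := C.finite_H
  have hp2 : Fact (Nat.Prime 2) := ⟨Nat.prime_two⟩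
  have : Finite K := Finite.of_surjective π hπ.surj
  obtain ⟨f, hf⟩ := hπ.exists_hom hcK
  -- the elements of `X` act as inner automorphisms
  have hxl : ∀ x ∈ X, ∃ l : L, ∀ y : L, x * (y : H) * x⁻¹ = (l : H) * y * (l : H)⁻¹ := by
    intro x hx
    have h2 : f x ^ 2 ^ 1 = 1 := by
      rw [pow_one, ← map_pow, pow_two, C.X_sq x hx, map_one]
    obtain ⟨k, hk⟩ := hin _ _ h2
    obtain ⟨l, rfl⟩ := hπ.surj k
    refine ⟨l, ?_⟩
    have h3 : f ((l : H)⁻¹ * x) = 1 := by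
      rw [map_mul, map_inv, hk, Count.rho_coe hπ hf l, inv_mul_cancel]
    have h4 := Count.mem_centralizer_of_rho hπ hcK hf h3
    rw [mem_centralizer_iff] at h4
    intro y
    have h5 := h4 y y.2
    have h6 : x = l * ((l : H)⁻¹ * x) := by group
    calc x * y * x⁻¹ = (l * ((l : H)⁻¹ * x)) * y * (l * ((l : H)⁻¹ * x))⁻¹ := by rw [← h6]
      _ = l * (((l : H)⁻¹ * x) * y) * ((l : H)⁻¹ * x)⁻¹ * (l : H)⁻¹ := by group
      _ = l * (y * ((l : H)⁻¹ * x)) * ((l : H)⁻¹ * x)⁻¹ * (l : H)⁻¹ := by rw [h5]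
      _ = _ := by group
  -- the centre of `L` fixes `a`
  have hZ : π.ker = ⊥ := by
    have hZn : (π.ker.map L.subtype).Normal := by
      rw [hπ.ker_eq hcK]
      exact ConjAct.normal_of_characteristic_of_normal
    have h1 := C.eq_bot_of_fix hZn (by
      rintro _ ⟨z, hz, rfl⟩
      have hz' := hπ.cent hz
      apply C.fix_of_cent
      intro x hx
      obtain ⟨l, hl⟩ := hxl x hx
      have h2 : (l : H) * z * (l : H)⁻¹ = z := by
        have := mem_center_iff.1 hz' l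
        have h3 : (l : H) * z = z * l := congrArg Subtype.val this
        rw [h3, mul_inv_cancel_right]
      show ρ (x * (z : H) * x⁻¹) a = ρ (z : H) a
      rw [hl, h2])
    rw [eq_bot_iff]
    intro z hz
    have h2 : (z : H) ∈ π.ker.map L.subtype := ⟨z, hz, rfl⟩
    rw [h1, mem_bot] at h2
    exact Subtype.ext h2
  have hinj : Function.Injective π := (MonoidHom.ker_eq_bot_iff _).1 hZ
  -- the Sylow 2-subgroup
  obtain ⟨S, hXS, hS⟩ := C.exists_syl
  have hSn : ∀ s ∈ S, ∀ y ∈ L, s * y * s⁻¹ ∈ L := fun s _ y hy => hL.conj_mem y hy s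
  let T : Subgroup H := (S : Subgroup H) ⊓ L
  have hTmax : ∀ Q : Subgroup H, Q ≤ L → IsPGroup 2 Q → T ≤ Q → Q = T :=
    fun Q hQL hQ hle => syl_inf_maximal S hSn hQL hQ hle
  have hT2 : IsPGroup 2 T := S.isPGroup'.to_le inf_le_left
  -- the image of `T` in `K` is a Sylow 2-subgroup
  let TK : Subgroup K := (T.subgroupOf L).map π
  have hTK : IsPGroup 2 TK := (hT2.comap_subtype (K := L)).map π
  obtain ⟨Q, hQ⟩ := hTK.exists_le_sylow
  have hQT : (Q : Subgroup K) = TK := by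
    refine le_antisymm ?_ hQ
    have h1 : IsPGroup 2 (pull π (Q : Subgroup K)) :=
      (Q.isPGroup'.comap_of_injective π hinj).map _
    have h2 := hTmax _ (pull_le π _) h1 (by
      intro t ht
      exact (mem_pull π _).2 ⟨ht.2, hQ ⟨⟨t, ht.2⟩, ht, rfl⟩⟩)
    intro k hk
    obtain ⟨l, rfl⟩ := hπ.surj k
    have h3 : (l : H) ∈ pull π (Q : Subgroup K) := (mem_pull_coe π _ l).2 hk
    rw [h2] at h3
    exact ⟨l, h3, rfl⟩
  obtain ⟨k, hk⟩ := MulAction.exists_smul_eq K Q P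
  -- the new isomorphism
  let ψ : L →* K := (MulAut.conj k).toMonoidHom.comp π
  have hψ : Function.Bijective ψ := ⟨(MulAut.conj k).injective.comp hinj, (MulAut.conj k).surjective.comp hπ.surj⟩
  have hψT : pull ψ (P : Subgroup K) = T := by
    have hmem : ∀ l : L, ψ l ∈ (P : Subgroup K) ↔ (l : H) ∈ T := by
      intro l
      rw [← hk, Sylow.coe_subgroup_smul, Subgroup.mem_pointwise_smul_iff_inv_smul_mem, ← map_inv,
        MulAut.smul_def, MulAut.conj_apply, inv_inv, hQT]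
      have h1 : k⁻¹ * ψ l * k = π l := by
        show k⁻¹ * (k * π l * k⁻¹) * k = π l
        group
      rw [h1]
      constructor
      · rintro ⟨l', hl', h2⟩
        rw [hinj h2] at hl'
        exact hl'
      · intro hl
        exact ⟨l, hl, rfl⟩
    ext g
    rw [mem_pull]
    constructor
    · rintro ⟨hg, h1⟩
      exact (hmem ⟨g, hg⟩).1 h1
    · intro hg
      exact ⟨hg.2, (hmem ⟨g, hg.2⟩).2 hg⟩
  -- `X` acts on `L` as elements of `T`
  have hxT : ∀ x ∈ X, ∃ t ∈ T, ∀ y ∈ L, x * y * x⁻¹ = t * y * t⁻¹ := by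
    intro x hx
    obtain ⟨l, hl⟩ := hxl x hx
    have hxx : ∀ y : L, (l * l) * y = y * (l * l) := by
      intro y
      have h1 : x * (x * y * x⁻¹) * x⁻¹ = y := by
        calc x * (x * y * x⁻¹) * x⁻¹ = (x * x) * y * (x * x)⁻¹ := by group
          _ = y := by rw [C.X_sq x hx]; group
      have h2 : x * (x * y * x⁻¹) * x⁻¹ = (l : H) * (l * y * (l : H)⁻¹) * (l : H)⁻¹ := by
        have h3 := hl ⟨x * y * x⁻¹, hL.conj_mem y y.2 x⟩
        have h4 : x * (x * y * x⁻¹) * x⁻¹ = l * (x * y * x⁻¹) * (l : H)⁻¹ := h3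
        rw [h4, hl y]
      apply Subtype.ext
      push_cast
      rw [h1] at h2
      calc (l : H) * l * y = ((l : H) * (l * y * (l : H)⁻¹) * (l : H)⁻¹) * (l * l) := by group
        _ = y * (l * l) := by rw [← h2]
    have hll : l * l = 1 := by
      have h1 : l * l ∈ center L := mem_center_iff.2 fun y => (hxx y).symm
      rw [← hπ.ker_eq hcK, hZ, mem_bot] at h1
      exact h1
    refine ⟨l, ?_, fun y hy => hl ⟨y, hy⟩⟩
    -- `l` normalises `T`
    have hlT : ∀ t ∈ T, (l : H) * t * (l : H)⁻¹ ∈ T := by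
      intro t ht
      have h1 := hl ⟨t, ht.2⟩
      have h2 : x * t * x⁻¹ = l * t * (l : H)⁻¹ := h1
      rw [← h2]
      exact ⟨S.mul_mem (S.mul_mem (hXS hx) ht.1) (S.inv_mem (hXS hx)), hL.conj_mem t ht.2 x⟩
    have hl1 : (l : H)⁻¹ = l := by
      rw [inv_eq_iff_mul_eq_one]
      exact congrArg Subtype.val hll
    have hln : zpowers (l : H) ≤ normalizer (T : Set H) := by
      rw [zpowers_le, mem_normalizer_iff]
      intro t
      refine ⟨hlT t, fun ht => ?_⟩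
      have h1 := hlT _ ht
      have h2 : (l : H) * (l * t * (l : H)⁻¹) * (l : H)⁻¹ = (l * l : L) * t * ((l * l : L) : H)⁻¹ := by
        push_cast; group
      rw [h2, hll] at h1
      simpa using h1
    have hz2 : IsPGroup 2 (zpowers (l : H)) := by
      rintro ⟨y, hy⟩
      obtain ⟨i, rfl⟩ := Subgroup.mem_zpowers_iff.1 hy
      refine ⟨1, Subtype.ext ?_⟩
      have h1 : (l : H) * l = 1 := congrArg Subtype.val hll
      show ((l : H) ^ i) ^ 2 ^ 1 = 1
      rw [← zpow_natCast, ← zpow_mul, mul_comm, zpow_mul]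
      have h2 : (l : H) ^ ((2 ^ 1 : ℕ) : ℤ) = 1 := by
        rw [zpow_natCast, pow_one, pow_two, h1]
      rw [h2, one_zpow]
    have h3 : IsPGroup 2 (zpowers (l : H) ⊔ T : Subgroup H) := IsPGroup.to_sup_of_normal_right' hz2 hT2 hln
    have h4 := hTmax _ (sup_le ((zpowers_le).2 l.2) inf_le_right) h3 le_sup_right
    rw [← h4]
    exact (le_sup_left : zpowers (l : H) ≤ _) (mem_zpowers _)
  have hfix : ∀ E : Subgroup K, Tr E (P : Subgroup K) →
      5 < (normalizer ((P : Subgroup K) : Set K)).relIndex E → ∀ l : L, ψ l ∈ E → ρ (l : H) a = a := by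
    intro E hE hc l hl
    have h1 : XCond ρ a X (pull ψ E) T := by
      refine ⟨?_, ?_, fun t ht => hS ht.1⟩
      · intro x hx y hy
        obtain ⟨t, ht, h2⟩ := hxT x hx
        rw [h2 y (pull_le ψ E hy)]
        have ht' : t ∈ pull ψ E := by
          have : pull ψ (P : Subgroup K) ≤ pull ψ E := by
            intro g hg
            obtain ⟨hg, h3⟩ := (mem_pull ψ _).1 hg
            exact (mem_pull ψ E).2 ⟨hg, hE.T_le h3⟩
          exact this (by rw [hψT]; exact ht)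
        exact mul_mem (mul_mem ht' hy) (inv_mem ht')
      · intro x hx t ht
        exact ⟨S.mul_mem (S.mul_mem (hXS hx) ht.1) (S.inv_mem (hXS hx)), hL.conj_mem t ht.2 x⟩
    have h2 : Tr (pull ψ E) T := by
      have := hE.pull hψ
      rwa [hψT] at this
    have hN : ∀ g, g ∈ pull ψ E → g ∈ normalizer (T : Set H) →
        ∃ l : L, (l : H) = g ∧ ψ l ∈ normalizer ((P : Subgroup K) : Set K) := by
      intro g hg hgN
      obtain ⟨hgL, -⟩ := (mem_pull ψ E).1 hg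
      refine ⟨⟨g, hgL⟩, rfl, ?_⟩
      rw [← hψT] at hgN
      exact (mem_normalizer_pull ψ hψ.2 _ ⟨g, hgL⟩).1 hgN
    refine h2.fix C h1 ?_ ?_ ?_ l ((mem_pull_coe ψ E l).2 hl)
    · intro g hg hgN k hk hkN
      obtain ⟨g, rfl, hg'⟩ := hN g hg hgN
      obtain ⟨k, rfl, hk'⟩ := hN k hk hkN
      have h3 := hcomm _ hg' _ hk'
      rw [← hψT]
      have h4 := mem_pull_coe ψ (P : Subgroup K) (g * k * g⁻¹ * k⁻¹)
      push_cast at h4
      rw [h4, map_mul, map_mul, map_mul, map_inv, map_inv]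
      exact h3
    · intro g hg hgN
      obtain ⟨g, rfl, hg'⟩ := hN g hg hgN
      obtain ⟨m, hm, hm3, h3⟩ := hord _ hg'
      refine ⟨m, hm, hm3, ?_⟩
      rw [← hψT]
      have h4 := mem_pull_coe ψ (P : Subgroup K) (g ^ m)
      push_cast at h4
      rw [h4, map_pow]
      exact h3
    · have h3 := pull_relIndex (H := H) ψ hψ.2 (P : Subgroup K) E
      rw [hψT] at h3
      rw [h3]
      exact hc
  -- `L` fixes `a`
  have hLa : ∀ l ∈ L, ρ l a = a := by
    have h1 : (⊤ : Subgroup K) ≤ ((stab ρ a).comap L.subtype).map ψ := by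
      rw [← hgen]
      refine sup_le ?_ ?_
      · intro k hk
        obtain ⟨l, rfl⟩ := hψ.2 k
        exact ⟨l, hfix E₁ h₁ c₁ l hk, rfl⟩
      · intro k hk
        obtain ⟨l, rfl⟩ := hψ.2 k
        exact ⟨l, hfix E₂ h₂ c₂ l hk, rfl⟩
    intro l hl
    obtain ⟨l', hl', h2⟩ := h1 (mem_top (ψ ⟨l, hl⟩))
    have h3 := hψ.1 h2
    rw [h3] at hl'
    exact hl'
  have hbot := C.eq_bot_of_fix hL hLa
  obtain ⟨k, hk⟩ := hne
  obtain ⟨l, rfl⟩ := hπ.surj k
  apply hk
  have h1 : (l : H) ∈ (⊥ : Subgroup H) := hbot.le l.2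
  have h2 : l = 1 := Subtype.ext (mem_bot.1 h1)
  rw [h2, map_one]

end Cfsg.Agent.Omega.EH3

end

-- merged: Cfsg.Agent.Mrg.Omega.EH3.RowTwF4
section

/-!
# The row `²F₄(q)`, `q ≥ 8`, of EH3 (helper796)

The nodes `⟨X_1, …, X_9⟩` and `⟨X_0, …, X_8⟩` over `U = ⟨X_1, …, X_8⟩`; `N(U) / U` is the torus, abelian of exponent
`q - 1`, prime to 6; all automorphisms of 2-power order are inner: `row_inner` applies.
-/

set_option autoImplicit false
set_option linter.unusedSectionVars false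

namespace Cfsg.Agent.Omega.EH3.TwF4Row

open Cfsg.Agent.SplitTwo Cfsg.Agent.SplitTwo.ZS Cfsg.Agent.TitsThree.RankTwoZ Cfsg.Agent.SplitTwo.RootSysZ
open Cfsg.Agent.KFacts.TwF4 Cfsg.Agent.KFacts.TwF4.Arc Cfsg.Agent.KFacts.TwF4.Inv Cfsg.Agent.KFacts.TwF4.SylU
open Cfsg.Agent.KFacts.TwF4.Perf Cfsg.Agent.KFacts.TwF4.OutTwo
open Cfsg.Lie
open scoped commutatorElement

universe u v

section coord

variable {F : Type*} [Field F] {σ : F →+* F} {G : Type v} [Group G] (S : Full σ G)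

/-- `X_9 ∩ U = 1` -/
theorem X9_inf_U {x : G} (h9 : x ∈ S.XZ 9) (hU : x ∈ J S.XZ 1 8) : x = 1 := by
  have Z := S.zsys8
  by_contra hx1
  obtain ⟨v, hv, v', hv', hn⟩ := Z.mu 9 x h9 hx1
  rw [show (9 : ℤ) - 8 = 1 by norm_num] at hv hv'
  have hnU : v * x * v' ∈ J S.XZ 1 8 :=
    mul_mem (mul_mem (mem_J hv le_rfl (by norm_num)) hU) (mem_J hv' le_rfl (by norm_num))
  have h1 : S.o 3 1 ∈ S.XZ 7 := S.mX7 1
  have h2 := S.comm_seven hnU h1
  have h3 := hn.mem h1
  rw [show (2 : ℤ) * 9 - 8 - 7 = 3 by norm_num] at h3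
  rw [commutatorElement_def] at h2
  have h4 : S.o 3 1 ∈ J S.XZ 2 6 := by
    have e : S.o 3 1 = (v * x * v' * S.o 3 1 * (v * x * v')⁻¹ * (S.o 3 1)⁻¹)⁻¹ *
        (v * x * v' * S.o 3 1 * (v * x * v')⁻¹) := by group
    rw [e]
    exact mul_mem (inv_mem h2) (mem_J h3 (by norm_num) (by norm_num))
  exact one_ne_zero (S.o_eq_one (Z.inter_one 1 (X_le_J (le_refl (7 : ℤ)) (le_refl (7 : ℤ)) h1) h4 (by norm_num)
    (by norm_num) (by norm_num) (by norm_num) (Or.inr (by norm_num))))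

variable [Finite F] [Finite G]

theorem U_le_N {b : G} (hb : b ∈ J S.XZ 1 8) : b ∈ Subgroup.normalizer ((J S.XZ 1 8 : Subgroup G) : Set G) :=
  Subgroup.le_normalizer hb

theorem T_le_N {t : G} (ht : t ∈ S.T) : t ∈ Subgroup.normalizer ((J S.XZ 1 8 : Subgroup G) : Set G) := by
  rw [Subgroup.mem_normalizer_iff]
  intro x
  refine ⟨fun hx => S.T_conj_J ht hx, fun hx => ?_⟩
  have h1 := S.T_conj_J (inv_mem ht) hx
  have e : t⁻¹ * (t * x * t⁻¹) * t⁻¹⁻¹ = x := by group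
  rwa [e] at h1

/-- the normaliser of `U` -/
theorem mem_N (hF : ∃ c : Fˣ, c ≠ 1) (hR : S.R.p = 2) {g : G} :
    g ∈ Subgroup.normalizer ((J S.XZ 1 8 : Subgroup G) : Set G) ↔ ∃ b ∈ J S.XZ 1 8, ∃ t ∈ S.T, g = b * t := by
  constructor
  · intro hg
    exact norm_U S hF hR (Subgroup.mem_normalizer_iff.1 hg)
  · rintro ⟨b, hb, t, ht, rfl⟩
    exact mul_mem (U_le_N S hb) (T_le_N S ht)

/-- an involution normalising `U` lies in `U` -/
theorem mem_U_of_sq (hF : ∃ c : Fˣ, c ≠ 1) (hR : S.R.p = 2) {g : G}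
    (hg : g ∈ Subgroup.normalizer ((J S.XZ 1 8 : Subgroup G) : Set G)) (hgg : g * g = 1) : g ∈ J S.XZ 1 8 := by
  obtain ⟨b, hb, t, ht, rfl⟩ := (mem_N S hF hR).1 hg
  obtain ⟨c, d, rfl⟩ := S.mem_T.1 ht
  have h1 : S.h c d * S.h c d ∈ J S.XZ 1 8 := by
    have e : S.h c d * S.h c d = (S.h c d * b * (S.h c d)⁻¹)⁻¹ * b⁻¹ * ((b * S.h c d) * (b * S.h c d)) := by
      have : (b * S.h c d) * (b * S.h c d) = b * (S.h c d * b * (S.h c d)⁻¹) * (S.h c d * S.h c d) := by group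
      rw [this]; group
    rw [e, hgg, mul_one]
    exact mul_mem (inv_mem (S.T_conj_J ht hb)) (inv_mem hb)
  rw [S.h_mul] at h1
  obtain ⟨h2, h3⟩ := torus_mem_two S (two_J S hR (a := 1) (b := 8) (by norm_num)) h1
  have hc : c = 1 := unit_sq S h2
  have hd : d = 1 := unit_sq S h3
  rw [hc, hd, S.h_one, mul_one]
  exact hb

theorem comm_N (hF : ∃ c : Fˣ, c ≠ 1) (hR : S.R.p = 2) {g k : G}
    (hg : g ∈ Subgroup.normalizer ((J S.XZ 1 8 : Subgroup G) : Set G))
    (hk : k ∈ Subgroup.normalizer ((J S.XZ 1 8 : Subgroup G) : Set G)) : g * k * g⁻¹ * k⁻¹ ∈ J S.XZ 1 8 := by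
  obtain ⟨b, hb, t, ht, rfl⟩ := (mem_N S hF hR).1 hg
  obtain ⟨c, hc, s, hs, rfl⟩ := (mem_N S hF hR).1 hk
  have hts := T_comm S ht hs
  have e : b * t * (c * s) * (b * t)⁻¹ * (c * s)⁻¹ =
      b * (t * c * t⁻¹) * (((t * s) * t⁻¹) * b⁻¹ * ((t * s) * t⁻¹)⁻¹) * (((t * s) * t⁻¹) * s⁻¹) * c⁻¹ := by group
  have e2 : t * s * t⁻¹ = s := by rw [hts]; group
  rw [e, e2, mul_inv_cancel, mul_one]
  exact mul_mem (mul_mem (mul_mem hb (S.T_conj_J ht hc)) (S.T_conj_J hs (inv_mem hb))) (inv_mem hc)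

theorem pow_N (hF : ∃ c : Fˣ, c ≠ 1) (hR : S.R.p = 2) {g : G}
    (hg : g ∈ Subgroup.normalizer ((J S.XZ 1 8 : Subgroup G) : Set G)) :
    g ^ (Nat.card F - 1) ∈ J S.XZ 1 8 := by
  obtain ⟨b, hb, t, ht, rfl⟩ := (mem_N S hF hR).1 hg
  have key : ∀ n : ℕ, ∃ u ∈ J S.XZ 1 8, (b * t) ^ n = u * t ^ n := by
    intro n
    induction n with
    | zero => exact ⟨1, one_mem _, by simp⟩
    | succ n ih =>
      obtain ⟨u, hu, e⟩ := ih
      refine ⟨u * (t ^ n * b * (t ^ n)⁻¹), mul_mem hu (S.T_conj_J (pow_mem ht n) hb), ?_⟩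
      rw [pow_succ, e, pow_succ]
      group
  obtain ⟨u, hu, e⟩ := key (Nat.card F - 1)
  obtain ⟨c, d, rfl⟩ := S.mem_T.1 ht
  have h1 : ∀ x : Fˣ, x ^ (Nat.card F - 1) = 1 := by
    intro x
    let _ := Fintype.ofFinite F
    have h2 : Nat.card Fˣ = Nat.card F - 1 := Nat.card_units F
    rw [← h2]
    exact pow_card_eq_one'
  rw [e, h_pow, h1, h1, S.h_one, mul_one]
  exact hu

theorem cop_three (m : ℕ) : Nat.Coprime (2 ^ (2 * m + 1) - 1) 3 := by
  rw [Nat.coprime_comm, Nat.Prime.coprime_iff_not_dvd Nat.prime_three]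
  intro h
  have h1 : 2 ^ (2 * m + 1) % 3 = 2 := by
    rw [pow_succ, pow_mul, Nat.mul_mod, Nat.pow_mod]
    norm_num
  have h2 := Nat.one_le_two_pow (n := 2 * m + 1)
  omega

/-- the abstract transitivity -/
theorem tr_of_form (hF : ∃ c : Fˣ, c ≠ 1) (hR : S.R.p = 2) {E : Subgroup G} (hUE : J S.XZ 1 8 ≤ E) {n : G}
    (hn : ∀ t ∈ S.T, n⁻¹ * t * n ∈ S.T)
    (hform : ∀ g ∈ E, ∃ b ∈ J S.XZ 1 8, ∃ t ∈ S.T, g = b * t ∨ ∃ b' ∈ J S.XZ 1 8, g = b * (t * n) * b') :
    Tr E (J S.XZ 1 8) where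
  T_le := hUE
  two := two_J S hR (by norm_num)
  trans := by
    intro g hg hgN k hk hkN
    obtain ⟨b, hb, t, ht, h | ⟨b', hb', h⟩⟩ := hform g hg
    · exact absurd ((mem_N S hF hR).2 ⟨b, hb, t, ht, h⟩) hgN
    obtain ⟨c, hc, s, hs, h' | ⟨c', hc', h'⟩⟩ := hform k hk
    · exact absurd ((mem_N S hF hR).2 ⟨c, hc, s, hs, h'⟩) hkN
    refine ⟨c * b⁻¹, mul_mem hc (inv_mem hb), ?_⟩
    have e : (c * b⁻¹ * g)⁻¹ * k = b'⁻¹ * (n⁻¹ * (t⁻¹ * s) * n) * c' := by
      rw [h, h']; group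
    rw [e]
    exact mul_mem (mul_mem (inv_mem (U_le_N S hb')) (T_le_N S (hn _ (mul_mem (inv_mem ht) hs)))) (U_le_N S hc')

/-- a lower bound for the number of points -/
theorem card_le_relIndex {E : Subgroup G} (f : F → G) (hf : ∀ t, f t ∈ E)
    (hinj : ∀ s t, (f s)⁻¹ * f t ∈ Subgroup.normalizer ((J S.XZ 1 8 : Subgroup G) : Set G) → s = t) :
    Nat.card F ≤ (Subgroup.normalizer ((J S.XZ 1 8 : Subgroup G) : Set G)).relIndex E := by
  rw [Subgroup.relIndex, Subgroup.index]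
  refine Nat.card_le_card_of_injective
    (fun t : F => (QuotientGroup.mk (⟨f t, hf t⟩ : E) :
      E ⧸ (Subgroup.normalizer ((J S.XZ 1 8 : Subgroup G) : Set G)).subgroupOf E)) ?_
  intro s t hst
  have h1 : (QuotientGroup.mk (⟨f s, hf s⟩ : E) :
      E ⧸ (Subgroup.normalizer ((J S.XZ 1 8 : Subgroup G) : Set G)).subgroupOf E)
      = QuotientGroup.mk (⟨f t, hf t⟩ : E) := hst
  have h2 := QuotientGroup.eq.1 h1
  exact hinj s t h2

theorem tr_one (hF : ∃ c : Fˣ, c ≠ 1) (hR : S.R.p = 2) : Tr (J S.XZ 1 9) (J S.XZ 1 8) := by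
  refine tr_of_form S hF hR (J_mono le_rfl (by norm_num)) (n := S.n1) ?_ ?_
  · intro t ht
    have := S.n1_T ht
    rw [n1_inv] at this ⊢
    exact this
  · intro g hg
    obtain ⟨l, hl, q, hq, rfl⟩ := S.J19_split hg
    have hq' : q ∈ J S.XZ 1 8 := J_mono (by norm_num) le_rfl hq
    obtain ⟨b, hb, t, ht, h | ⟨b', hb', h⟩⟩ := HO_form S (g := l) (Subgroup.mem_sup_left hl)
    · refine ⟨b * (t * q * t⁻¹), mul_mem hb (S.T_conj_J ht hq'), t, ht, Or.inl ?_⟩
      rw [h]; group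
    · refine ⟨b, hb, t, ht, Or.inr ⟨b' * q, mul_mem hb' hq', ?_⟩⟩
      rw [h]; group

theorem tr_two (hF : ∃ c : Fˣ, c ≠ 1) (hR : S.R.p = 2) : Tr (J S.XZ 0 8) (J S.XZ 1 8) := by
  refine tr_of_form S hF hR (J_mono (by norm_num) le_rfl) (n := S.n2) ?_ ?_
  · intro t ht
    obtain ⟨c, d, rfl⟩ := S.mem_T.1 ht
    have := S.n2_h c d
    rw [n2_inv] at this ⊢
    rw [this]
    exact S.mem_T.2 ⟨_, _, rfl⟩
  · intro g hg
    have hz : S.e 2 0 1 ∈ S.Zc 2 := S.mem_Zc.2 ⟨1, rfl⟩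
    have hz1 : S.e 2 0 1 ≠ 1 := fun h => one_ne_zero (S.e_eq_one h).2
    have hgP : g ∈ S.PL := hg
    exact S.form_of_conj hz hz1 (by rw [S.comm_PL hgP hz, mul_inv_cancel_right]; exact hz)

theorem card_one (hF : ∃ c : Fˣ, c ≠ 1) (hR : S.R.p = 2) :
    Nat.card F ≤ (Subgroup.normalizer ((J S.XZ 1 8 : Subgroup G) : Set G)).relIndex (J S.XZ 1 9) := by
  refine card_le_relIndex S (fun t => S.o 0 t * S.n1) (fun t => mul_mem (mem_J (S.mX1 t) le_rfl (by norm_num))
    (S.LO_le_J S.n1_mem_LO)) ?_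
  intro s t h
  have e : (S.o 0 s * S.n1)⁻¹ * (S.o 0 t * S.n1) = S.o 4 (s + t) := by
    have h1 : (S.o 0 s * S.n1)⁻¹ * (S.o 0 t * S.n1) = S.n1 * (S.o 0 s * S.o 0 t) * S.n1⁻¹ := by
      rw [mul_inv_rev, o_inv, n1_inv]; group
    rw [h1, S.o_add, S.n1_o, sub_zero]
  have h' : S.o 4 (s + t) ∈ Subgroup.normalizer ((J S.XZ 1 8 : Subgroup G) : Set G) := by
    rw [← e]; exact h
  have h2 := mem_U_of_sq S hF hR h' (o_sq S 4 _)
  have h3 := X9_inf_U S (S.mX9 _) h2
  have h4 := S.o_eq_one h3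
  have h5 : t + t = 0 := char2 S t
  calc s = s + t + t := by rw [add_assoc, h5, add_zero]
    _ = t := by rw [h4, zero_add]

theorem card_two (hF : ∃ c : Fˣ, c ≠ 1) (hR : S.R.p = 2) :
    Nat.card F ≤ (Subgroup.normalizer ((J S.XZ 1 8 : Subgroup G) : Set G)).relIndex (J S.XZ 0 8) := by
  refine card_le_relIndex S (fun t => S.e 4 0 t * S.n2) (fun t => mul_mem (mem_J (S.mX8 0 t) (by norm_num) le_rfl)
    S.n2_mem) ?_
  intro s t h
  have e : (S.e 4 0 s * S.n2)⁻¹ * (S.e 4 0 t * S.n2) = S.e 0 0 (s + t) := by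
    have h1 : (S.e 4 0 s * S.n2)⁻¹ * (S.e 4 0 t * S.n2) = S.n2 * (S.e 4 0 s * S.e 4 0 t) * S.n2⁻¹ := by
      rw [mul_inv_rev, z_inv, n2_inv]; group
    rw [h1, S.e_mul, S.n2_e, sub_self]
    simp
  have h' : S.e 0 0 (s + t) ∈ Subgroup.normalizer ((J S.XZ 1 8 : Subgroup G) : Set G) := by
    rw [← e]; exact h
  have h2 := mem_U_of_sq S hF hR h' (z_sq S 0 _)
  have h3 := X0_inf_U S ((mem_X0 S).2 ⟨0, _, rfl⟩) h2
  have h4 := (S.e_eq_one h3).2
  have h5 : t + t = 0 := char2 S t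
  calc s = s + t + t := by rw [add_assoc, h5, add_zero]
    _ = t := by rw [h4, zero_add]

/-- **The row.** -/
theorem row_full {m : ℕ} (hm : 1 ≤ m) (hcard : Nat.card F = 2 ^ (2 * m + 1)) (hR : S.R.p = 2) :
    RowEH3.{u} G := by
  have h8 : 8 ≤ Nat.card F := by
    rw [hcard]
    calc 8 = 2 ^ 3 := by norm_num
      _ ≤ 2 ^ (2 * m + 1) := Nat.pow_le_pow_right (by norm_num) (by omega)
  have hF : ∃ c : Fˣ, c ≠ 1 := by
    by_contra hcon
    push Not at hcon
    let _ := Fintype.ofFinite F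
    have h2 : Nat.card Fˣ = Nat.card F - 1 := Nat.card_units F
    have h3 : Nat.card Fˣ ≤ 1 := by
      have : Subsingleton Fˣ := ⟨fun x y => by rw [hcon x, hcon y]⟩
      exact Finite.card_le_one_iff_subsingleton.2 this
    omega
  obtain ⟨P, hP⟩ := exists_sylow S hF hR
  have hone : (1 : ℕ) ≤ Nat.card F := by omega
  refine row_inner (K := G) ?_ ?_ P ?_ ?_ (E₁ := J S.XZ 1 9) (E₂ := J S.XZ 0 8) ?_ ?_ ?_ ?_ ?_ ?_
  · rw [eq_bot_iff]
    intro z hz
    rw [Subgroup.mem_bot]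
    exact center_eq_bot S hF fun g => Subgroup.mem_center_iff.1 hz g
  · intro α n hα
    exact inner S hcard hF hR hα
  · intro g hg k hk
    rw [hP] at hg hk
    show _ ∈ (P : Subgroup G)
    rw [hP]
    exact comm_N S hF hR hg hk
  · intro g hg
    rw [hP] at hg
    refine ⟨Nat.card F - 1, ?_, ?_, ?_⟩
    · rw [hcard, pow_succ]
      exact ⟨2 ^ (2 * m) - 1, by have := Nat.one_le_two_pow (n := 2 * m); omega⟩
    · rw [hcard]
      exact cop_three m
    · show _ ∈ (P : Subgroup G)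
      rw [hP]
      exact pow_N S hF hR hg
  · rw [hP]; exact tr_one S hF hR
  · rw [hP]; exact tr_two S hF hR
  · rw [hP]; exact lt_of_lt_of_le (by omega) (card_one S hF hR)
  · rw [hP]; exact lt_of_lt_of_le (by omega) (card_two S hF hR)
  · exact eq_top_of S (le_sup_of_le_right (X_le_J le_rfl (by norm_num)))
      (le_sup_of_le_left (X_le_J le_rfl (by norm_num))) (le_sup_of_le_left (X_le_J (by norm_num) (by norm_num)))
      (le_sup_of_le_left (X_le_J (by norm_num) le_rfl))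
  · exact ⟨S.o 0 1, fun h => one_ne_zero (S.o_eq_one h)⟩

end coord

/-- **The row `²F₄(q)`, `q ≥ 8`, of EH3.** -/
theorem row_twF4 {K : Type v} [Group K] (h : Iso2F4 K) : RowEH3.{u} K := by
  obtain ⟨F, _, _, m, hm, hK, ⟨e⟩⟩ := h
  obtain ⟨φ, hφ⟩ := Cfsg.Agent.ChevalleyStructure.TwF4.TwistedFix.exists_rln hK
  have := Cfsg.Agent.ChevalleyStructure.TwF4.Twisted.charP_two hK
  have : Finite ↥(twistedF4 F (2 ^ m)) := inferInstance
  exact RowEH3.equiv e (row_full (Cfsg.Agent.KFacts.TwF4.Inst.full hK hφ) hm (by rw [Nat.card_eq_fintype_card, hK]) rfl)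

end Cfsg.Agent.Omega.EH3.TwF4Row

end
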